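import Cfsg.Agent.H62.GW.PSLFacts
import Mathlib.FieldTheory.Fixed

/-!
# Facts on `PSL(2,q)` with its automorphisms for the two-class step

A non-involution commutes with at most one involution; odd elements centralise no four group; an
element of odd order centralising the centraliser of an involution of `PSL(2,q)` is trivial.
-/

set_option autoImplicit false
set_option linter.unusedSectionVars false
set_option linter.style.haveILetI false

namespace Cfsg.Agent.H65.GW

open Subgroup Matrix Cfsg.Agent Cfsg.Agent.Linear Cfsg.Agent.H55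
open Cfsg.Agent.H56 (PSLn SLn semiAut)
open Cfsg.Agent.H5.EvenCyclic (linAut)
open Cfsg.Agent.H63.GW (SylowDType)
open Cfsg.Agent.H4.GW (actHom fieldPartHom)

universe u

section Linear2

variable {F : Type} [Field F] [Fintype F]

local notation "M2" => Matrix (Fin 2) (Fin 2) F
local notation "P2" => Matrix.ProjectiveSpecialLinearGroup (Fin 2) F

theorem trace_eq_zero_of_invol {Z : SLn 2 F} (hZ1 : toPSL Z ≠ 1) (hZ2 : toPSL Z * toPSL Z = 1) :
    (Z : M2).trace = 0 := by
  by_contra hne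
  refine not_scalar_of_ne_one hZ1 (isScalarTwo_iff.2 ?_)
  rw [← map_mul, toPSL_two_eq_one_iff] at hZ2
  have hsq := SL_sq_eq Z
  rcases hZ2 with e | e <;> have e' := congrArg (fun Z : SLn 2 F => (Z : M2)) e <;>
    simp only [Matrix.SpecialLinearGroup.coe_mul, Matrix.SpecialLinearGroup.coe_one,
      Matrix.SpecialLinearGroup.coe_neg] at e' <;> rw [hsq] at e'
  · refine ⟨(Z : M2).trace⁻¹ * 2, ?_⟩
    rw [sub_eq_iff_eq_add] at e'
    rw [mul_smul, two_smul, ← e', inv_smul_smul₀ hne]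
  · refine ⟨0, ?_⟩
    rw [sub_eq_iff_eq_add, neg_add_cancel] at e'
    rw [zero_smul, ← inv_smul_smul₀ hne (Z : M2), e', smul_zero]

/-- A non-involution of `PSL(2,q)` commutes with at most one involution. -/
theorem involution_unique_psl (h2 : (2 : F) ≠ 0) {x a b : P2} (hx : x * x ≠ 1) (ha1 : a ≠ 1)
    (ha : a * a = 1) (hax : Commute a x) (hb1 : b ≠ 1) (hb : b * b = 1) (hbx : Commute b x) : a = b := by
  obtain ⟨X, rfl⟩ := H86.PSLSizes.exists_lift x
  obtain ⟨A, rfl⟩ := H86.PSLSizes.exists_lift a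
  obtain ⟨B, rfl⟩ := H86.PSLSizes.exists_lift b
  have htr := H62.GW.trace_ne_zero_of_sq hx
  have hns : ¬ IsScalarTwo (X : M2) := not_scalar_of_ne_one fun h => hx (by rw [h, one_mul])
  have line : ∀ Z : SLn 2 F, toPSL Z ≠ 1 → toPSL Z * toPSL Z = 1 → Commute (toPSL Z) (toPSL X) →
      ∃ δ : F, δ ≠ 0 ∧ (Z : M2) = δ • ((X : M2) - ((X : M2).trace / 2) • 1) := by
    intro Z h1 h2' hc
    have hZX : Z ∈ Subgroup.centralizer ({X} : Set (SLn 2 F)) := by
      rw [← comap_eq_centralizer (Or.inl htr), Subgroup.mem_comap, Subgroup.mem_centralizer_singleton_iff]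
      exact hc
    obtain ⟨γ, δ, hZ⟩ := (mem_centralizer_SL_two hns).1 hZX
    have hγ : 2 * γ + δ * (X : M2).trace = 0 := by
      rw [← trace_eq_zero_of_invol h1 h2', hZ, trace_smul_add_smul]
    refine ⟨δ, ?_, ?_⟩
    · rintro rfl
      exact not_scalar_of_ne_one h1 (isScalarTwo_iff.2 ⟨γ, by rw [hZ, zero_smul, add_zero]⟩)
    · have : γ = -(δ * ((X : M2).trace / 2)) := by
        field_simp
        linear_combination hγ
      rw [hZ, this, smul_sub, smul_smul, neg_smul, sub_eq_add_neg, add_comm]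
  obtain ⟨δ, hδ, hA⟩ := line A ha1 ha hax
  obtain ⟨δ', hδ', hB⟩ := line B hb1 hb hbx
  have hBA : (B : M2) = (δ' / δ) • (A : M2) := by rw [hA, hB, smul_smul, div_mul_cancel₀ _ hδ]
  have hd := congrArg Matrix.det hBA
  rw [Matrix.det_smul, Matrix.SpecialLinearGroup.det_coe, Matrix.SpecialLinearGroup.det_coe,
    Fintype.card_fin, mul_one] at hd
  refine ((toPSL_two_eq_iff B A).2 ?_).symm
  rcases sq_eq_one_iff.1 hd.symm with e | e
  · exact Or.inl (Subtype.ext (by rw [hBA, e, one_smul]))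
  · exact Or.inr (Subtype.ext (by rw [hBA, e, Matrix.SpecialLinearGroup.coe_neg, neg_smul, one_smul]))

theorem pow_mem_span {A : SLn 2 F} {F₀ : Subfield F} (ht : (A : M2).trace ∈ F₀) (k : ℕ) :
    ∃ a ∈ F₀, ∃ b ∈ F₀, ((A ^ k : SLn 2 F) : M2) = a • (1 : M2) + b • (A : M2) := by
  induction k with
  | zero => exact ⟨1, one_mem _, 0, zero_mem _, by simp⟩
  | succ k ih =>
    obtain ⟨a, ha, b, hb, e⟩ := ih
    refine ⟨-b, neg_mem hb, a + b * (A : M2).trace, add_mem ha (mul_mem hb ht), ?_⟩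
    rw [pow_succ, Matrix.SpecialLinearGroup.coe_mul, e, add_mul, Matrix.smul_mul, Matrix.smul_mul,
      one_mul, SL_sq_eq, smul_sub, smul_smul, add_smul, neg_smul]
    abel

end Linear2

section Over

variable {Y : Type u} [Group Y] [Finite Y] {K : Subgroup Y} [K.Normal]
  {F : Type} [Field F] [Fintype F] (e : ↥K ≃* PSLn 2 F)
  (h : SylowDType Y) (hodd : Odd (Fintype.card F)) (hC : centralizer (K : Set Y) = ⊥)

include e h hodd hC

/-- An element of `K` of odd order centralising two commuting involutions, one in `K`, is trivial. -/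
theorem eq_one_of_four {x a b : Y} (hx : x ∈ K) (hxo : Odd (orderOf x)) (ha : a ∈ K) (ha1 : a ≠ 1)
    (haa : a * a = 1) (hax : Commute a x) (hb1 : b ≠ 1) (hbb : b * b = 1) (hbx : Commute b x)
    (hne : a ≠ b) : x = 1 := by
  by_contra hx1
  have hxx : x * x ≠ 1 := by
    intro hh
    have h2 := orderOf_dvd_of_pow_eq_one (show x ^ 2 = 1 by rw [pow_two, hh])
    rcases (Nat.dvd_prime Nat.prime_two).1 h2 with h3 | h3
    · exact hx1 (orderOf_eq_one_iff.1 h3)
    · rw [h3] at hxo; exact absurd hxo (by decide)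
  have hb : b ∈ K := H62.GW.mem_of_fixes e h hodd hC hx hxx ha ha1 haa hax hb1 hbb hbx
  have hne1 : ∀ {z : Y} (hz : z ∈ K), z ≠ 1 → e ⟨z, hz⟩ ≠ 1 := fun {z} hz h1 hh =>
    h1 (congrArg Subtype.val (e.injective (hh.trans (map_one e).symm)))
  have hsq : ∀ {z : Y} (hz : z ∈ K), z * z = 1 → e ⟨z, hz⟩ * e ⟨z, hz⟩ = 1 := fun {z} hz h1 => by
    rw [← map_mul, show (⟨z, hz⟩ : K) * ⟨z, hz⟩ = 1 from Subtype.ext h1, map_one]
  have hcm : ∀ {z w : Y} (hz : z ∈ K) (hw : w ∈ K), Commute z w → Commute (e ⟨z, hz⟩) (e ⟨w, hw⟩) :=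
    fun {z w} hz hw hc => Commute.map (show Commute (⟨z, hz⟩ : K) ⟨w, hw⟩ from Subtype.ext hc) e
  refine hne (congrArg Subtype.val (e.injective (involution_unique_psl (H4.GW.two_ne hodd)
    (x := e ⟨x, hx⟩) ?_ (hne1 ha ha1) (hsq ha haa) (hcm ha hx hax) (hne1 hb hb1) (hsq hb hbb)
    (hcm hb hx hbx))))
  rw [← map_mul]
  exact fun hh => hxx (congrArg Subtype.val (e.injective (hh.trans (map_one e).symm)))

/-- An element of odd order centralising an involution `a` of `K`, a second one, and inverted by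
an involution is trivial. -/
theorem eq_one_of_inverted_four {x a b d : Y} (hxo : Odd (orderOf x)) (ha : a ∈ K) (ha1 : a ≠ 1)
    (haa : a * a = 1) (hax : Commute a x) (hb1 : b ≠ 1) (hbb : b * b = 1) (hbx : Commute b x)
    (hne : a ≠ b) (hdd : d * d = 1) (hdx : d * x * d⁻¹ = x⁻¹) : x = 1 :=
  eq_one_of_four e h hodd hC (H62.GW.mem_of_inverted e h hodd hC hdd hdx hxo) hxo ha ha1 haa hax
    hb1 hbb hbx hne

/-- An element of odd order centralising the centraliser in `K` of an involution of `K` is trivial. -/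
theorem eq_one_of_centralizes {y a : Y} (hyo : Odd (orderOf y)) (ha : a ∈ K) (ha1 : a ≠ 1)
    (haa : a * a = 1) {b : Y} (hb : b ∈ K) (hb1 : b ≠ 1) (hbb : b * b = 1) (hab : Commute a b)
    (hne : a ≠ b) (hcent : ∀ k ∈ K, Commute k a → Commute y k) : y = 1 := by
  classical
  have h2 := H4.GW.two_ne hodd
  have hya : Commute y a := hcent a ha (Commute.refl a)
  have hyb : Commute y b := hcent b hb hab.symm
  have hyK : y ∈ K → y = 1 := fun hy =>
    eq_one_of_four e h hodd hC hy hyo ha ha1 haa hya.symm hb1 hbb hyb.symm hne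
  refine hyK (H62.GW.mem_of_odd e h hodd hC ?_ hyo)
  by_contra hσ1
  set σ := fieldPartHom e y with hσdef
  obtain ⟨g, hg⟩ := H4.GW.exists_semi e y
  rw [← hσdef] at hg
  have hσodd : Odd (orderOf σ) := hyo.of_dvd_nat (orderOf_map_dvd _ y)
  -- the cyclic subgroup of the centraliser
  obtain ⟨X, hX⟩ := H86.PSLSizes.exists_lift (e ⟨a, ha⟩)
  have ha' : toPSL X ≠ 1 := fun hh =>
    ha1 (congrArg Subtype.val (e.injective ((hX.symm.trans hh).trans (map_one e).symm)))
  have htr : (X : Matrix (Fin 2) (Fin 2) F).trace = 0 := trace_eq_zero_of_invol ha'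
    (by rw [hX, ← map_mul, show (⟨a, ha⟩ : K) * ⟨a, ha⟩ = 1 from Subtype.ext haa, map_one])
  haveI := H86.PSLSizes.isCyclic_centralizer_trace_zero h2 htr
  obtain ⟨A, hA⟩ := IsCyclic.exists_ofOrder_eq_natCard
    (α := ↥(Subgroup.centralizer ({X} : Set (SLn 2 F))))
  set k₀ : ↥K := e.symm (toPSL (A : SLn 2 F)) with hk₀
  have hk₀a : Commute (k₀ : Y) a := by
    have h1 : Commute (toPSL (A : SLn 2 F)) (toPSL X) :=
      (show Commute (A : SLn 2 F) X from Subgroup.mem_centralizer_singleton_iff.1 A.2).map _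
    rw [hX] at h1
    have h3 := (h1.map e.symm).map K.subtype
    simpa [hk₀] using h3
  have hact : actHom K e y (toPSL (A : SLn 2 F)) = toPSL (A : SLn 2 F) := by
    rw [H4.GW.actHom_apply, ← hk₀]
    have : MulAut.conjNormal y k₀ = k₀ := Subtype.ext (by
      rw [MulAut.conjNormal_apply, (hcent _ k₀.2 hk₀a).eq, mul_inv_cancel_right])
    rw [this, hk₀, e.apply_symm_apply]
  -- the trace is fixed
  set τ := ((A : SLn 2 F) : Matrix (Fin 2) (Fin 2) F).trace with hτ
  have hm : H56.smat (H56.semiSL g σ (A : SLn 2 F)) = (g : Matrix (Fin 2) (Fin 2) F) *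
      (H56.smat (A : SLn 2 F)).map σ * ((g⁻¹ : GL (Fin 2) F) : Matrix (Fin 2) (Fin 2) F) :=
    H56.smat_semiSL g σ _
  have htr' : (H56.smat (H56.semiSL g σ (A : SLn 2 F))).trace = σ τ := by
    rw [hm, Matrix.trace_mul_cycle, ← Units.val_mul, inv_mul_cancel, Units.val_one, one_mul]
    simp [hτ, Matrix.trace_fin_two, H56.smat]
  rw [hg] at hact
  have hστ : σ τ = τ := by
    rcases (toPSL_two_eq_iff _ _).1 (show toPSL (H56.semiSL g σ (A : SLn 2 F)) = toPSL _ from hact)
      with e' | e'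
    · rw [e'] at htr'
      exact htr'.symm
    · rw [e'] at htr'
      have hneg : σ τ = -τ := by
        rw [← htr', hτ]
        show (((-(A : SLn 2 F)) : SLn 2 F) : Matrix (Fin 2) (Fin 2) F).trace = _
        rw [Matrix.SpecialLinearGroup.coe_neg, Matrix.trace_neg]
      obtain ⟨m, hm'⟩ := hσodd
      have h2σ : (σ ^ 2) τ = τ := by
        show σ (σ τ) = τ
        rw [hneg, map_neg, hneg, neg_neg]
      have h3 : ∀ j : ℕ, ((σ ^ 2) ^ j) τ = τ := fun j => by
        induction j with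
        | zero => rfl
        | succ j ih =>
          rw [pow_succ']
          show (σ ^ 2) (((σ ^ 2) ^ j) τ) = τ
          rw [ih, h2σ]
      have h4 : (σ ^ 2) ^ (m + 1) = σ := by
        rw [← pow_mul, show 2 * (m + 1) = orderOf σ + 1 by omega, pow_succ, pow_orderOf_eq_one, one_mul]
      have h5 := h3 (m + 1)
      rwa [h4] at h5
  -- the fixed field
  let H : Subgroup (RingAut F) := Subgroup.zpowers σ
  haveI : FaithfulSMul H F := ⟨fun {p q} hpq => Subtype.ext (RingEquiv.ext fun x => hpq x)⟩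
  haveI : Finite (RingAut F) := Finite.of_injective (fun f : RingAut F => ((f : F ≃+* F) : F → F)) fun f g h => RingEquiv.ext (congrFun h)
  haveI := Fintype.ofFinite H
  set F₀ := FixedPoints.subfield H F with hF₀
  have hτ0 : τ ∈ F₀ := by
    intro γ
    obtain ⟨j, hj⟩ := mem_zpowers_iff.1 γ.2
    show (γ : RingAut F) τ = τ
    rw [← hj]
    exact (MulAction.fixedBy_subset_fixedBy_zpow F σ j) hστ
  have hfin : Module.finrank F₀ F = orderOf σ := by
    rw [hF₀, FixedPoints.finrank_eq_card, ← Nat.card_eq_fintype_card, Nat.card_zpowers]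
  haveI := Fintype.ofFinite F₀
  have hcard : Fintype.card F = Fintype.card F₀ ^ orderOf σ := by
    rw [← hfin]; exact Module.card_eq_pow_finrank
  have h3σ : 3 ≤ orderOf σ := by
    obtain ⟨m, hm'⟩ := hσodd
    have : orderOf σ ≠ 1 := fun hh => hσ1 (orderOf_eq_one_iff.1 hh)
    omega
  -- the order of `A`
  have hAord : orderOf (A : SLn 2 F) ≤ Fintype.card F₀ ^ 2 := by
    rw [← Nat.card_zpowers]
    have hf : Function.Injective
        (fun z : Subgroup.zpowers (A : SLn 2 F) => ((z : SLn 2 F) : Matrix (Fin 2) (Fin 2) F)) :=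
      fun z w hzw => Subtype.ext (Subtype.ext hzw)
    let ψ : F₀ × F₀ → Matrix (Fin 2) (Fin 2) F := fun p =>
      (p.1 : F) • (1 : Matrix (Fin 2) (Fin 2) F) + (p.2 : F) • ((A : SLn 2 F) : Matrix (Fin 2) (Fin 2) F)
    have hsub : Set.range (fun z : Subgroup.zpowers (A : SLn 2 F) =>
        ((z : SLn 2 F) : Matrix (Fin 2) (Fin 2) F)) ⊆ Set.range ψ := by
      rintro _ ⟨⟨z, hz⟩, rfl⟩
      obtain ⟨k, rfl⟩ := (isOfFinOrder_of_finite _).mem_zpowers_iff_mem_range_orderOf.1 hz |>
        fun hh => by simpa [eq_comm] using Finset.mem_image.1 hh |>.imp fun k hk => hk.2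
      obtain ⟨α, hα, β, hβ, eαβ⟩ := pow_mem_span (A := (A : SLn 2 F)) hτ0 k
      exact ⟨(⟨α, hα⟩, ⟨β, hβ⟩), eαβ.symm⟩
    calc Nat.card (Subgroup.zpowers (A : SLn 2 F))
        = (Set.range (fun z : Subgroup.zpowers (A : SLn 2 F) =>
            ((z : SLn 2 F) : Matrix (Fin 2) (Fin 2) F))).ncard := by
          rw [← Nat.card_coe_set_eq, Nat.card_range_of_injective hf]
      _ ≤ (Set.range ψ).ncard := Set.ncard_le_ncard hsub (Set.finite_range ψ)
      _ ≤ Nat.card (F₀ × F₀) := by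
          rw [← Nat.card_coe_set_eq]; exact Finite.card_range_le ψ
      _ = Fintype.card F₀ ^ 2 := by rw [Nat.card_prod, Nat.card_eq_fintype_card, pow_two]
  rw [Subgroup.orderOf_coe, hA] at hAord
  have h4 : (X : Matrix (Fin 2) (Fin 2) F).trace ^ 2 ≠ 4 := by
    rw [htr]
    intro hh
    exact h2 (mul_self_eq_zero.1 (show (2 : F) * 2 = 0 by linear_combination -hh))
  have hq0 : 2 ≤ Fintype.card F₀ := Fintype.one_lt_card
  have hbig : Fintype.card F₀ ^ 2 * 2 ≤ Fintype.card F := by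
    rw [hcard]
    calc Fintype.card F₀ ^ 2 * 2 ≤ Fintype.card F₀ ^ 2 * Fintype.card F₀ := Nat.mul_le_mul_left _ hq0
      _ = Fintype.card F₀ ^ 3 := (pow_succ _ 2).symm
      _ ≤ _ := Nat.pow_le_pow_right (by omega) h3σ
  have hpos : 4 ≤ Fintype.card F₀ ^ 2 := by
    simpa using Nat.pow_le_pow_left hq0 2
  rcases card_centralizer_cases h4 with e4 | e4 <;> rw [e4] at hAord <;> omega

end Over

end Cfsg.Agent.H65.GW
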