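import Cfsg.Agent.H65.GW.TwoClassAction
import Cfsg.Agent.H57.GW.Residue

/-!
# Gorenstein–Walter: `TwoClassStep`

What is left after `TwoClassAction` is an extraspecial group `O(M)` of order `27`; inside the
centraliser of a fixed point, which is a threefold central extension of `A₇`, this produces the
elements of `H57.GW.false_of_residue`.
-/

set_option autoImplicit false
set_option linter.unusedSectionVars false
set_option linter.style.haveILetI false

namespace Cfsg.Agent.H65.GW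

open Subgroup Cfsg.Agent
open Cfsg.Agent.GW (Cfg TwoClass coreAt coreIn pairCore Fuses)

universe u

/-- Two commuting elements of order three generate a group of order nine. -/
theorem pair_nine {Γ : Type*} [Group Γ] [Finite Γ] {x y : Γ} (hc : Commute x y) (hx : orderOf x = 3)
    (hy : orderOf y = 3) (hne : y ∉ zpowers x) :
    ∃ P : Subgroup Γ, Nat.card P = 9 ∧ x ∈ P ∧ y ∈ P ∧ ∀ q ∈ P, ∃ i j : ℕ, q = x ^ i * y ^ j := by
  haveI : Fact (Nat.Prime 3) := ⟨Nat.prime_three⟩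
  have hcomm : ∀ (a : zpowers x) (b : zpowers y), Commute (a : Γ) b := by
    rintro ⟨a, ha⟩ ⟨b, hb⟩
    obtain ⟨i, rfl⟩ := mem_zpowers_iff.1 ha
    obtain ⟨j, rfl⟩ := mem_zpowers_iff.1 hb
    exact hc.zpow_zpow i j
  set f := (zpowers x).subtype.noncommCoprod (zpowers y).subtype hcomm with hf
  have hinj : Function.Injective f := by
    refine (injective_iff_map_eq_one f).2 fun ⟨a, b⟩ h => ?_
    change (a : Γ) * (b : Γ) = 1 at h
    have hb : (b : Γ) ∈ zpowers x := by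
      rw [eq_inv_of_mul_eq_one_right h]
      exact inv_mem a.2
    by_cases hb1 : (b : Γ) = 1
    · rw [hb1, mul_one] at h
      exact Prod.ext (Subtype.ext h) (Subtype.ext hb1)
    · refine absurd ?_ hne
      obtain ⟨i, hi⟩ := mem_zpowers_iff.1 (mem_zpowers_of_prime_card (p := 3) (g := b) (g' := ⟨y, mem_zpowers y⟩)
        (by rw [Nat.card_zpowers, hy]) (fun e => hb1 (congrArg Subtype.val e)))
      have := congrArg Subtype.val hi
      rw [Subgroup.coe_zpow] at this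
      rw [← show (b : Γ) ^ i = y from this]
      exact zpow_mem hb i
  refine ⟨f.range, ?_, ⟨(⟨x, mem_zpowers x⟩, 1), ?_⟩, ⟨(1, ⟨y, mem_zpowers y⟩), ?_⟩, ?_⟩
  · rw [← Nat.card_congr (MonoidHom.ofInjective hinj).toEquiv, Nat.card_prod, Nat.card_zpowers,
      Nat.card_zpowers, hx, hy]
  · show x * 1 = x
    exact mul_one x
  · show 1 * y = y
    exact one_mul y
  · rintro q ⟨⟨⟨a, ha⟩, ⟨b, hb⟩⟩, rfl⟩
    obtain ⟨i, rfl⟩ := (mem_powers_iff_mem_zpowers (G := Γ)).2 ha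
    obtain ⟨j, rfl⟩ := (mem_powers_iff_mem_zpowers (G := Γ)).2 hb
    exact ⟨i, j, rfl⟩

/-- A natural number squares to `-1` modulo no multiple of three. -/
theorem not_three_dvd_sq_succ (n : ℕ) : ¬ 3 ∣ n * n + 1 := by
  intro h
  have h2 : (n * n + 1) % 3 = 0 := Nat.mod_eq_zero_of_dvd h
  have h3 : n % 3 < 3 := Nat.mod_lt _ (by norm_num)
  rw [Nat.add_mod, Nat.mul_mod] at h2
  interval_cases n % 3 <;> simp_all

/-- An element of order three as a power with exponent in `ZMod 3`. -/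
theorem pow_val_eq {Γ : Type*} [Group Γ] {x : Γ} (hx : x ^ 3 = 1) (n : ℕ) :
    x ^ ((n : ZMod 3).val) = x ^ n := by
  rw [ZMod.val_natCast]
  exact (pow_eq_pow_mod n hx).symm

variable {G : Type u} [Group G] [Finite G]

theorem sylow_pow_four {S : Sylow 2 G} {l : ℕ} {c s : G} (hC : Cfg S l c s) (hl : l = 2) :
    ∀ x ∈ (S : Subgroup G), x ^ 4 = 1 := by
  subst hl
  intro x hx
  by_cases hxc : x ∈ zpowers c
  · obtain ⟨i, rfl⟩ := mem_zpowers_iff.1 hxc
    rw [← zpow_natCast, ← zpow_mul, mul_comm, zpow_mul, zpow_natCast,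
      show c ^ 4 = 1 from by rw [show 4 = orderOf c from hC.gen.oc.symm]; exact pow_orderOf_eq_one c,
      one_zpow]
  · obtain ⟨i, rfl⟩ := hC.gen.out_form hx hxc
    rw [show 4 = 2 * 2 from rfl, pow_mul, pow_two, pow_two, hC.gen.out_mul_self, one_mul]

/-- Elements of a group with exponent four on the Sylow subgroup: fourth powers have odd order. -/
theorem odd_orderOf_pow_four (S : Sylow 2 G) (hS : ∀ x ∈ (S : Subgroup G), x ^ 4 = 1) (x : G) :
    Odd (orderOf (x ^ 4)) := by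
  haveI : Fact (Nat.Prime 2) := ⟨Nat.prime_two⟩
  obtain ⟨i, k, hk, hik⟩ := Nat.exists_eq_two_pow_mul_odd (orderOf_pos x).ne'
  have hord : orderOf (x ^ k) = 2 ^ i := by
    rw [orderOf_pow' x hk.pos.ne', hik, Nat.gcd_mul_left_left, Nat.mul_div_cancel _ hk.pos]
  obtain ⟨P, hP⟩ := (IsPGroup.of_card (p := 2) (n := i)
    (show Nat.card (zpowers (x ^ k)) = 2 ^ i by rw [Nat.card_zpowers, hord])).exists_le_sylow
  obtain ⟨y, hy⟩ := MulAction.exists_smul_eq G S P
  have hmem : x ^ k ∈ (P : Subgroup G) := hP (mem_zpowers _)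
  rw [← hy, Sylow.coe_subgroup_smul] at hmem
  obtain ⟨v, hv, hve⟩ := Subgroup.mem_map.mp hmem
  have h4 : (x ^ k) ^ 4 = 1 := by
    rw [← hve]
    show (y * v * y⁻¹) ^ 4 = 1
    rw [conj_pow, hS v hv, mul_one, mul_inv_cancel]
  refine hk.of_dvd_nat (orderOf_dvd_of_pow_eq_one ?_)
  rw [← pow_mul, mul_comm, pow_mul, h4]

section Residual

variable {S : Sylow 2 G} {l : ℕ} {c s g : G} {M : Subgroup G}
variable (hC : Cfg S l c s) (hM : TwoClass M l c s) (hgM : g ∈ M) (hg : Fuses g (c ^ l) s)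
variable (hor : (∀ w ∈ coreIn M, Commute g w) ∨ (coreIn M = coreAt (c ^ l) ∧
      M ≤ normalizer ((closure ({c ^ l, s} : Set G) : Subgroup G) : Set G)))
include hC hM hgM hg hor

/-- An element moving `t` to `s` acts nontrivially on `O(M) / Z(O(M))` in the residual case. -/
theorem moves_quotient (hD : pairCore (c ^ l) (c * s) ≠ ⊥)
    (hres : Residue (conjCore M ⟨c * s, sigma_mem_M hC hM⟩)) (h : ↥M)
    (hht : (h : G) * c ^ l * (h : G)⁻¹ = s) :
    ∃ w, (conjCore M h w)⁻¹ * w ∉ center ↥(coreIn M) := by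
  haveI : Fact (Nat.Prime 3) := ⟨Nat.prime_three⟩
  by_contra hcon
  push Not at hcon
  set σ := conjCore M ⟨c * s, sigma_mem_M hC hM⟩ with hσdef
  obtain ⟨h27, hZ3, -, e, he, he1, he9⟩ := hres
  set Z := center ↥(coreIn M)
  set Q := ↥(coreIn M) ⧸ Z
  have hQ : ∀ a b : Q, a * b = b * a := fun a b =>
    IsPGroup.commutative_of_card_eq_prime_sq (p := 3)
      (show Nat.card (↥(coreIn M) ⧸ Z) = 3 ^ 2 by
        have h1 := Subgroup.card_eq_card_quotient_mul_card_subgroup Z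
        rw [h27, hZ3] at h1
        omega) a b
  letI : CommGroup Q := { (inferInstance : Group Q) with mul_comm := hQ }
  let q : ↥(coreIn M) →* Q := QuotientGroup.mk' Z
  let δ : ↥(coreIn M) →* Q := q * q.comp σ.toMonoidHom
  have hδ : ∀ w, δ w = q w * q (σ w) := fun w => rfl
  have hδe : δ e ≠ 1 := by
    intro h1
    rw [hδ, he] at h1
    have h2 : e * e ∈ Z := (QuotientGroup.eq_one_iff _).1 h1
    obtain ⟨r, hr⟩ := exists_pow_sq (H62.GW.odd_coreIn M) e
    have h3 : e ∈ Z := by rw [← hr, ← (Commute.refl e).mul_pow]; exact pow_mem h2 r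
    have h4 : centralizer ({e} : Set ↥(coreIn M)) = ⊤ := eq_top_iff.2 fun v _ =>
      mem_centralizer_singleton_iff.2 (mem_center_iff.1 h3 v)
    rw [h4, card_top, h27] at he9
    exact absurd he9 (by norm_num)
  obtain ⟨φ, hφ⟩ := CommGroup.exists_apply_ne_one_of_hasEnoughRootsOfUnity Q ℂ hδe
  have hσσ : ∀ x, σ (σ x) = x := fun x => by
    rw [hσdef, ← MulAut.mul_apply, ← map_mul,
      show (⟨c * s, sigma_mem_M hC hM⟩ * ⟨c * s, sigma_mem_M hC hM⟩ : ↥M) = 1 from
        Subtype.ext (sigma_mul_self hC hM), map_one]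
    rfl
  have hqh : ∀ w, q (conjCore M h w) = q w := fun w => QuotientGroup.eq.2 (hcon w)
  refine hφ (no_char hC hM hgM hg hor hD (φ.comp δ) (fun w => ?_) h hht (fun w => ?_) e)
  · rw [MonoidHom.comp_apply, MonoidHom.comp_apply, hδ, hδ, hσσ, mul_comm]
  · have : q (σ (conjCore M h w)) = q (σ w) := by
      refine QuotientGroup.eq.2 ?_
      rw [← map_inv, ← map_mul]
      exact mem_of_characteristic σ (hcon w)
    rw [MonoidHom.comp_apply, MonoidHom.comp_apply, hδ, hδ, hqh, this]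

theorem false_of_residual (hD : pairCore (c ^ l) (c * s) ≠ ⊥) : False := by
  classical
  haveI : Fact (Nat.Prime 3) := ⟨Nat.prime_three⟩
  haveI : Fact (Nat.Prime 2) := ⟨Nat.prime_two⟩
  have hres := residue hC hM hgM hg hor hD
  have hmv := moves_quotient hC hM hgM hg hor hD hres
  rcases hor with h1 | ⟨hWO, hN⟩
  · obtain ⟨w, hw⟩ := hmv ⟨g, hgM⟩ hg.1
    refine hw ?_
    rw [show conjCore M ⟨g, hgM⟩ w = w from Subtype.ext (by
      rw [coe_conjCore, (h1 w w.2).eq, mul_inv_cancel_right]), inv_mul_cancel]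
    exact one_mem _
  have hor' : (∀ w ∈ coreIn M, Commute g w) ∨ (coreIn M = coreAt (c ^ l) ∧
      M ≤ normalizer ((closure ({c ^ l, s} : Set G) : Subgroup G) : Set G)) := Or.inr ⟨hWO, hN⟩
  have hl : l = 2 := by
    have h1 : c ^ 2 = c ^ l := by rw [pow_two]; exact mul_right_cancel (sq_mul_s hC hM hN)
    have h2 := hM.two_le
    refine (pow_injOn_Iio_orderOf ?_ ?_ h1).symm <;> rw [Set.mem_Iio, hC.gen.oc] <;> omega
  have hS4 := sylow_pow_four hC hl
  -- the group of order 27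
  set σm : ↥M := ⟨c * s, sigma_mem_M hC hM⟩
  set σ := conjCore M σm with hσdef
  obtain ⟨h27, hZ3, hF3, e, he, he1, he9⟩ := hres
  have hinv : IsInvol σ := ⟨H62.GW.odd_coreIn M, fun x => by
    rw [hσdef, ← MulAut.mul_apply, ← map_mul,
      show (σm * σm : ↥M) = 1 from Subtype.ext (sigma_mul_self hC hM), map_one]
    rfl⟩
  have hfixD : ∀ z : ↥(coreIn M), σ z = z → (z : G) ∈ pairCore (c ^ l) (c * s) := fun z hz =>
    mem_pairCore.2 ⟨(hM.core_fixed z.2).1,
      (mul_inv_eq_iff_eq_mul.1 (congrArg Subtype.val hz)).symm⟩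
  have hcenfix : ∀ z ∈ center ↥(coreIn M), σ z = z → z = 1 := fun z hz hσz => Subtype.ext
    (central_free hC hM hgM hg hor' (hfixD z hσz) fun w hw =>
      (congrArg Subtype.val (mem_center_iff.1 hz ⟨w, hw⟩)).symm)
  obtain ⟨z₀, hz₀Z, hz₀1⟩ : ∃ z₀ ∈ center ↥(coreIn M), z₀ ≠ 1 := by
    refine ((Subgroup.bot_or_exists_ne_one (center ↥(coreIn M))).resolve_left fun hb => ?_)
    rw [hb, card_bot] at hZ3
    omega
  have hord : ∀ {A : Subgroup ↥(coreIn M)} {a : ↥(coreIn M)}, Nat.card A = 3 → a ∈ A → a ≠ 1 →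
      orderOf a = 3 ∧ ∀ b ∈ A, b ∈ zpowers a := by
    intro A a hA ha ha1
    have h3 : orderOf a = 3 := (Nat.dvd_prime Nat.prime_three).1
      (hA ▸ Subgroup.orderOf_dvd_natCard A ha) |>.resolve_left fun h => ha1 (orderOf_eq_one_iff.1 h)
    refine ⟨h3, fun b hb => ?_⟩
    rwa [eq_of_le_of_card_ge (zpowers_le.2 ha) (by rw [hA, Nat.card_zpowers, h3])]
  obtain ⟨hz₀o, hZgen⟩ := hord hZ3 hz₀Z hz₀1
  obtain ⟨heo, hFgen⟩ := hord hF3 (mem_fixedBy.2 he) he1
  have hσz₀ : σ z₀ = z₀⁻¹ := by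
    have hσc : σ z₀ ∈ center ↥(coreIn M) := mem_of_characteristic σ hz₀Z
    have h1 := hcenfix (z₀ * σ z₀) (mul_mem hz₀Z hσc) (by
      rw [map_mul, hinv.invol, mem_center_iff.1 hz₀Z (σ z₀)])
    exact eq_inv_of_mul_eq_one_right h1
  have hz₀e : z₀ ∉ zpowers e := fun hm => hz₀1 (hcenfix z₀ hz₀Z
    (mem_fixedBy.1 ((zpowers_le (H := fixedBy σ)).2 (mem_fixedBy.2 he) hm)))
  obtain ⟨A, hA9, heA, hzA, hAform⟩ := pair_nine (mem_center_iff.1 hz₀Z e) heo hz₀o hz₀e
  have hAC : A = centralizer ({e} : Set ↥(coreIn M)) := by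
    refine eq_of_le_of_card_ge (fun q hq => ?_) (by rw [hA9, he9])
    obtain ⟨i, j, rfl⟩ := hAform q hq
    exact mem_centralizer_singleton_iff.2
      (((Commute.refl e).pow_left i).mul_left
        ((show Commute z₀ e from (mem_center_iff.1 hz₀Z e).symm).pow_left j)).eq
  have hCe : ∀ q : ↥(coreIn M), Commute q e → ∃ i j : ℕ, q = e ^ i * z₀ ^ j := fun q hq =>
    hAform q (hAC ▸ mem_centralizer_singleton_iff.2 hq.eq)
  have heZ : e ∉ center ↥(coreIn M) := fun hm => he1 (hcenfix e hm he)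
  -- the centraliser of `e`
  set E : G := (e : G) with hE
  set Z₀ : G := (z₀ : G) with hZ₀
  have hED : E ∈ pairCore (c ^ l) (c * s) := hfixD e he
  have hE1 : E ≠ 1 := fun h => he1 (Subtype.ext h)
  have hzE : Commute Z₀ E := (congrArg Subtype.val (mem_center_iff.1 hz₀Z e)).symm
  set X := centralizer ({E} : Set G) with hX
  obtain ⟨hRD, hshape⟩ := centralizer_shape hC hM hgM hg (Or.inr hWO) hED hE1
  obtain ⟨⟨e7⟩, -, -⟩ := hshape.resolve_left fun h => hz₀1 (Subtype.ext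
    (h Z₀ z₀.2 hzE (congrArg Subtype.val hσz₀)))
  set π := QuotientGroup.mk' (Cfsg.oddCore ↥X) with hπ
  let p : ↥X →* AltFin := e7.toMonoidHom.comp π
  have hEX : E ∈ X := mem_centralizer_singleton_iff.2 rfl
  have hXE : ∀ x : ↥X, Commute (x : G) E := fun x => mem_centralizer_singleton_iff.1 x.2
  haveI hEn : (zpowers (⟨E, hEX⟩ : ↥X)).Normal := ⟨fun a ha x => by
    obtain ⟨i, rfl⟩ := mem_zpowers_iff.1 ha
    rwa [show x * (⟨E, hEX⟩ : ↥X) ^ i * x⁻¹ = (⟨E, hEX⟩ : ↥X) ^ i from Subtype.ext (by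
      simp only [Subgroup.coe_mul, Subgroup.coe_zpow, Subgroup.coe_inv]
      rw [((hXE x).zpow_right i).eq, mul_inv_cancel_right])]⟩
  have hRE : Cfsg.oddCore ↥X = zpowers (⟨E, hEX⟩ : ↥X) := by
    refine le_antisymm (fun r hr => ?_) (Cores.le_oddCore (by
      rw [Nat.card_zpowers, Subgroup.orderOf_mk, hE, Subgroup.orderOf_coe, heo]; decide))
    have hrD : (r : G) ∈ pairCore (c ^ l) (c * s) := hRD ⟨r, hr, rfl⟩
    have hrW : (r : G) ∈ coreIn M := (core_facts hC hM hgM hg).2.1 hrD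
    have hrF : (⟨r, hrW⟩ : ↥(coreIn M)) ∈ fixedBy σ := by
      refine mem_fixedBy.2 (Subtype.ext ?_)
      show c * s * r * (c * s)⁻¹ = r
      rw [← (mem_pairCore.1 hrD).2.eq, mul_inv_cancel_right]
    obtain ⟨i, hi⟩ := mem_zpowers_iff.1 (hFgen _ hrF)
    refine mem_zpowers_iff.2 ⟨i, Subtype.ext ?_⟩
    rw [Subgroup.coe_zpow]
    exact (Subgroup.coe_zpow _ e i).symm.trans (congrArg Subtype.val hi)
  have hker : ∀ x : ↥X, p x = 1 → ∃ b : ℕ, (x : G) = E ^ b := by
    intro x hx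
    have h1 : x ∈ Cfsg.oddCore ↥X :=
      (QuotientGroup.eq_one_iff x).1 (e7.injective (hx.trans (map_one e7).symm))
    rw [hRE] at h1
    obtain ⟨b, rfl⟩ := (mem_powers_iff_mem_zpowers (G := ↥X)).2 h1
    exact ⟨b, SubmonoidClass.coe_pow _ _⟩
  have hpE : p ⟨E, hEX⟩ = 1 := by
    show e7 (π ⟨E, hEX⟩) = 1
    rw [hπ, QuotientGroup.mk'_apply, (QuotientGroup.eq_one_iff _).2 (hRE ▸ mem_zpowers _), map_one]
  have hEW : E ∈ coreIn M := e.2
  set T : ↥X := ⟨c ^ l, mem_centralizer_singleton_iff.2 (core_commute_t hC hM hEW).symm.eq⟩ with hT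
  set S₁ : ↥X := ⟨s, mem_centralizer_singleton_iff.2 (core_commute_s hC hM hEW).symm.eq⟩ with hS₁
  set ZX : ↥X := ⟨Z₀, mem_centralizer_singleton_iff.2 hzE.eq⟩ with hZX
  have hXcen : ∀ r ∈ Cfsg.oddCore ↥X, ∀ x : ↥X, Commute r x := by
    intro r hr x
    rw [hRE] at hr
    obtain ⟨i, rfl⟩ := mem_zpowers_iff.1 hr
    exact (show Commute (⟨E, hEX⟩ : ↥X) x from Subtype.ext (hXE x).symm.eq).zpow_left i
  have hRodd : Odd (Nat.card (Cfsg.oddCore ↥X)) := Cores.odd_card_oddCore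
  have hTo : orderOf T = 2 := by rw [hT, Subgroup.orderOf_mk]; exact hC.gen.z_order
  have hSo : orderOf S₁ = 2 := by rw [hS₁, Subgroup.orderOf_mk]; exact hC.gen.os
  have hTT := H39.mul_self_of_orderOf_eq_two hTo
  have hSS := H39.mul_self_of_orderOf_eq_two hSo
  have hTScomm : Commute T S₁ := Subtype.ext (commute_ts hC hM).eq
  have hne : π T ≠ π S₁ := fun h => ne_ts hC hM (congrArg Subtype.val
    (eq_of_mk_eq _ hRodd hTT hSS h fun r hr => hXcen r hr T))
  -- the fusing element in the centraliser of `e` and `z₀`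
  obtain ⟨hSD, -, -⟩ := quot_hyps hC (H62.GW.centralizer_singleton_ne_top hC hE1)
  have hcent : centralizer ((⊤ : Subgroup (↥X ⧸ Cfsg.oddCore ↥X)) : Set (↥X ⧸ Cfsg.oddCore ↥X)) = ⊥ := by
    haveI : IsSimpleGroup ↥(alternatingGroup (Fin 7)) := alternatingGroup.isSimpleGroup (by simp)
    haveI : IsSimpleGroup (↥X ⧸ Cfsg.oddCore ↥X) := e7.isSimpleGroup_congr.2 inferInstance
    rw [coe_top, centralizer_univ]
    refine (IsSimpleGroup.eq_bot_or_eq_top_of_normal (center _) inferInstance).resolve_right fun hc => ?_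
    obtain ⟨x, hx⟩ := isConj_iff.1 (H36.GW.alt_isConj
      (K := (⊤ : Subgroup (↥X ⧸ Cfsg.oddCore ↥X))) hSD (Subgroup.topEquiv.trans e7) rfl
      (H36.GW.orderOf_quotient hTo) (H36.GW.orderOf_quotient hSo))
    refine hne ?_
    rw [show π S₁ = x * π T * x⁻¹ from hx.symm,
      (mem_center_iff.1 (hc ▸ mem_top (π T) : π T ∈ center _) x), mul_inv_cancel_right]
  obtain ⟨g7, -, hg7a, hg7b, hg7c⟩ := H36.GW.fuse_of_shape
    (K := (⊤ : Subgroup (↥X ⧸ Cfsg.oddCore ↥X))) hSD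
    (Or.inr ⟨Subgroup.topEquiv.trans e7⟩) hcent (mem_top (π T)) (mem_top (π S₁))
    (H36.GW.orderOf_quotient hTo) (H36.GW.orderOf_quotient hSo) hne (hTScomm.map π)
  obtain ⟨h₀, rfl⟩ := QuotientGroup.mk'_surjective (Cfsg.oddCore ↥X) g7
  rw [← hπ, ← map_inv, ← map_mul, ← map_mul] at hg7a
  rw [← hπ, ← map_inv, ← map_mul, ← map_mul, ← map_mul] at hg7b
  have hsq : ∀ {a x : ↥X}, a * a = 1 → x * a * x⁻¹ * (x * a * x⁻¹) = 1 := fun {a x} ha => by
    rw [show x * a * x⁻¹ * (x * a * x⁻¹) = x * (a * a) * x⁻¹ by group, ha, mul_one, mul_inv_cancel]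
  have hh₀t : (h₀ : G) * c ^ l * (h₀ : G)⁻¹ = s := congrArg Subtype.val
    (eq_of_mk_eq _ hRodd (hsq hTT) hSS hg7a fun r hr => hXcen r hr _)
  have hh₀s : (h₀ : G) * s * (h₀ : G)⁻¹ = c ^ l * s := congrArg Subtype.val
    (eq_of_mk_eq _ hRodd (hsq hSS) (a := h₀ * S₁ * h₀⁻¹) (b := T * S₁) (by
      rw [hTScomm.eq]
      calc S₁ * T * (S₁ * T) = S₁ * (T * S₁) * T := by group
        _ = 1 := by rw [hTScomm.eq, ← mul_assoc, hSS, one_mul, hTT]) hg7b fun r hr => hXcen r hr _)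
  have hh₀M : (h₀ : G) ∈ M := by
    have h2 : Commute (g⁻¹ * h₀) (c ^ l) := by
      refine mul_inv_eq_iff_eq_mul.1 ?_
      rw [show g⁻¹ * (h₀ : G) * c ^ l * (g⁻¹ * h₀)⁻¹ = g⁻¹ * ((h₀ : G) * c ^ l * (h₀ : G)⁻¹) * g by group,
        hh₀t, ← hg.1]
      group
    have := mul_mem hgM (mem_M_of_commute hC hM h2)
    rwa [mul_inv_cancel_left] at this
  have hh₀z : Commute (h₀ : G) Z₀ := by
    have hzc := hg7c (π ZX)
      ((show Commute ZX T from Subtype.ext (core_commute_t hC hM z₀.2).eq).map π)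
      ((show Commute ZX S₁ from Subtype.ext (core_commute_s hC hM z₀.2).eq).map π)
      (Odd.of_dvd_nat (by rw [hZX, Subgroup.orderOf_mk]; exact odd_of_mem_coreIn z₀.2)
        (orderOf_map_dvd π ZX))
    have hk : p (h₀ * ZX * h₀⁻¹ * ZX⁻¹) = 1 := by
      show e7 (π (h₀ * ZX * h₀⁻¹ * ZX⁻¹)) = 1
      rw [show π (h₀ * ZX * h₀⁻¹ * ZX⁻¹) = π h₀ * π ZX * (π h₀)⁻¹ * (π ZX)⁻¹ by
          simp only [map_mul, map_inv],
        show π h₀ * π ZX = π ZX * π h₀ from hzc.eq, mul_inv_cancel_right, mul_inv_cancel, map_one]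
    obtain ⟨b, hb⟩ := hker _ hk
    set z' := conjCore M ⟨h₀, hh₀M⟩ z₀ with hz'
    have hz'Z : z' * z₀⁻¹ ∈ center ↥(coreIn M) :=
      mul_mem (mem_of_characteristic _ hz₀Z) (inv_mem hz₀Z)
    have hz'e : z' * z₀⁻¹ = e ^ b := Subtype.ext (by
      simp only [Subgroup.coe_mul, Subgroup.coe_inv, SubmonoidClass.coe_pow] at hb ⊢
      exact hb)
    have h1 := hcenfix _ hz'Z (by rw [hz'e, map_pow, he])
    rw [mul_inv_eq_one] at h1
    exact mul_inv_eq_iff_eq_mul.1 (congrArg Subtype.val h1)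
  -- its fourth power
  have hcube : Commute ((h₀ : G) ^ 3) (c ^ l) := by
    refine mul_inv_eq_iff_eq_mul.1 ?_
    calc (h₀ : G) ^ 3 * c ^ l * ((h₀ : G) ^ 3)⁻¹
        = (h₀ : G) * ((h₀ : G) * ((h₀ : G) * c ^ l * (h₀ : G)⁻¹) * (h₀ : G)⁻¹) * (h₀ : G)⁻¹ := by
          rw [pow_succ, pow_two]; group
      _ = c ^ l := by
          rw [hh₀t, hh₀s, show (h₀ : G) * (c ^ l * s) * (h₀ : G)⁻¹
              = ((h₀ : G) * c ^ l * (h₀ : G)⁻¹) * ((h₀ : G) * s * (h₀ : G)⁻¹) by group,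
            hh₀t, hh₀s, (commute_ts hC hM).eq, ← mul_assoc,
            H39.mul_self_of_orderOf_eq_two hC.gen.os, one_mul]
  set H : G := (h₀ : G) ^ 4 with hH
  set HX : ↥X := h₀ ^ 4 with hHX
  have hHX' : (HX : G) = H := SubmonoidClass.coe_pow _ _
  have hHE : Commute H E := (hXE h₀).pow_left 4
  have hHz : Commute H Z₀ := hh₀z.pow_left 4
  have hHt : H * c ^ l * H⁻¹ = s := by
    rw [hH, pow_succ', show (h₀ : G) * (h₀ : G) ^ 3 * c ^ l * ((h₀ : G) * (h₀ : G) ^ 3)⁻¹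
      = (h₀ : G) * ((h₀ : G) ^ 3 * c ^ l * ((h₀ : G) ^ 3)⁻¹) * (h₀ : G)⁻¹ by group,
      hcube.eq, mul_inv_cancel_right, hh₀t]
  have hHM : H ∈ M := pow_mem hh₀M 4
  have hH3W : H ^ 3 ∈ coreIn M := by
    rw [hWO]
    refine H62.GW.mem_coreAt_of_odd hC ?_
      ((odd_orderOf_pow_four S hS4 (h₀ : G)).of_dvd_nat (orderOf_pow_dvd 3))
    rw [hH, ← pow_mul, pow_mul']
    exact hcube.pow_left 4
  obtain ⟨i₀, j₀, hij₀⟩ := hCe ⟨H ^ 3, hH3W⟩ (Subtype.ext (hHE.pow_left 3).eq)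
  have hij₀' : H ^ 3 = E ^ i₀ * Z₀ ^ j₀ := by
    have := congrArg Subtype.val hij₀
    simpa only [Subgroup.coe_mul, SubmonoidClass.coe_pow] using this
  -- the action on `W / Z`
  have hcom : ∀ a b : ↥(coreIn M) ⧸ center ↥(coreIn M), a * b = b * a := fun a b =>
    IsPGroup.commutative_of_card_eq_prime_sq (p := 3)
      (show Nat.card (↥(coreIn M) ⧸ center ↥(coreIn M)) = 3 ^ 2 by
        have h1 := Subgroup.card_eq_card_quotient_mul_card_subgroup (center ↥(coreIn M))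
        rw [h27, hZ3] at h1
        omega) a b
  let J : Subgroup ↥M :=
    { carrier := {m | ∀ w, (conjCore M m w)⁻¹ * w ∈ center ↥(coreIn M)}
      one_mem' := fun w => by rw [map_one, MulAut.one_apply, inv_mul_cancel]; exact one_mem _
      mul_mem' := fun {a b} ha hb w => by
        rw [map_mul, MulAut.mul_apply, show (conjCore M a (conjCore M b w))⁻¹ * w
          = ((conjCore M a (conjCore M b w))⁻¹ * conjCore M b w) * ((conjCore M b w)⁻¹ * w) by group]
        exact mul_mem (ha _) (hb w)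
      inv_mem' := fun {a} ha w => by
        have h2 := ha (conjCore M a⁻¹ w)
        rw [← MulAut.mul_apply, ← map_mul, mul_inv_cancel, map_one, MulAut.one_apply] at h2
        have h3 := inv_mem h2
        rwa [mul_inv_rev, inv_inv] at h3 }
  have hWJ : ∀ v : ↥M, (v : G) ∈ coreIn M → v ∈ J := fun v hv w => by
    rw [show conjCore M v w = ⟨v, hv⟩ * w * ⟨v, hv⟩⁻¹ from Subtype.ext rfl]
    refine (QuotientGroup.eq_one_iff _).1 ?_
    simp only [QuotientGroup.mk_mul, QuotientGroup.mk_inv]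
    rw [hcom ((⟨v, hv⟩ : ↥(coreIn M)) : ↥(coreIn M) ⧸ center ↥(coreIn M)) (w : ↥(coreIn M) ⧸ center ↥(coreIn M)),
      mul_inv_cancel_right, inv_mul_cancel]
  have hHJ : (⟨H, hHM⟩ : ↥M) ∉ J := fun hJ =>
    (hmv ⟨H, hHM⟩ hHt).elim fun w hw => hw (hJ w)
  have hpowJ : ∀ m : ℕ, ¬ 3 ∣ m → (⟨H, hHM⟩ : ↥M) ^ m ∉ J := by
    intro m hm hmJ
    refine hHJ ?_
    have h3J : (⟨H, hHM⟩ : ↥M) ^ 3 ∈ J := hWJ _ (by rw [SubmonoidClass.coe_pow]; exact hH3W)
    have hg1 : Int.gcd 3 (m : ℤ) = 1 := by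
      show Nat.gcd 3 m = 1
      exact (Nat.Prime.coprime_iff_not_dvd Nat.prime_three).2 hm
    have := Int.gcd_eq_gcd_ab 3 m
    rw [hg1] at this
    rw [← zpow_one (⟨H, hHM⟩ : ↥M), show (1 : ℤ) = ((1 : ℕ) : ℤ) from rfl, this, zpow_add, zpow_mul,
      zpow_mul, zpow_natCast, show (3 : ℤ) = ((3 : ℕ) : ℤ) from rfl, zpow_natCast]
    exact mul_mem (zpow_mem h3J _) (zpow_mem hmJ _)
  -- the image in `A₇`
  set zb := p ZX with hzb
  set hb := p HX with hhb
  have hZ3' : Z₀ ^ 3 = 1 := by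
    rw [hZ₀, ← SubmonoidClass.coe_pow, ← hz₀o, pow_orderOf_eq_one]; rfl
  have hE3 : E ^ 3 = 1 := by
    rw [hE, ← SubmonoidClass.coe_pow, ← heo, pow_orderOf_eq_one]; rfl
  have hzb3 : orderOf zb = 3 := by
    refine orderOf_eq_prime ?_ fun h1 => hz₀e ?_
    · rw [hzb, ← map_pow, show ZX ^ 3 = 1 from Subtype.ext (by
        rw [SubmonoidClass.coe_pow]; exact hZ3'), map_one]
    · obtain ⟨b, hb'⟩ := hker ZX h1
      exact (show z₀ = e ^ b from Subtype.ext (by rw [SubmonoidClass.coe_pow]; exact hb')) ▸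
        pow_mem (mem_zpowers e) b
  have hzbhb : Commute zb hb :=
    (show Commute ZX HX from Subtype.ext (show Z₀ * (HX : G) = (HX : G) * Z₀ by
      rw [hHX']; exact hHz.symm.eq)).map p
  have hhb3' : hb ^ 3 = zb ^ j₀ := by
    rw [hhb, ← map_pow, show HX ^ 3 = (⟨E, hEX⟩ : ↥X) ^ i₀ * ZX ^ j₀ from Subtype.ext (by
      simp only [Subgroup.coe_mul, SubmonoidClass.coe_pow, hHX', hZX]; exact hij₀'), map_mul,
      map_pow, map_pow, hpE, one_pow, one_mul]
  have hzb1 : zb ≠ 1 := fun h1 => by rw [h1, orderOf_one] at hzb3; omega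
  have hpres : ∀ (x : ↥X) (i j : ℕ), p x = zb ^ i * hb ^ j →
      ∃ b : ℕ, (x : G) = Z₀ ^ i * H ^ j * E ^ b := by
    intro x i j hx
    obtain ⟨b, hb'⟩ := hker ((ZX ^ i * HX ^ j)⁻¹ * x) (by
      rw [map_mul, map_inv, map_mul, map_pow, map_pow, hx, ← hzb, ← hhb, inv_mul_cancel])
    refine ⟨b, ?_⟩
    rw [← hb']
    simp only [Subgroup.coe_mul, Subgroup.coe_inv, SubmonoidClass.coe_pow, hHX', hZX]
    group
  have hhnot : hb ∉ zpowers zb := by
    intro hm
    obtain ⟨i, hi⟩ := (mem_powers_iff_mem_zpowers (G := AltFin)).2 hm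
    obtain ⟨b, hb'⟩ := hpres HX i 0 (by rw [pow_zero, mul_one]; exact hi.symm)
    rw [pow_zero, mul_one, hHX'] at hb'
    exact hHJ (hWJ _ (show H ∈ coreIn M from hb' ▸ mul_mem (pow_mem z₀.2 i) (pow_mem hEW b)))
  have hhb3 : orderOf hb = 3 := by
    refine orderOf_eq_prime ?_ fun h1 => hhnot (h1 ▸ one_mem _)
    by_contra h3
    have h9 : hb ^ (3 ^ (1 + 1)) = 1 := by
      rw [pow_succ, pow_one, pow_mul, hhb3', ← pow_mul, mul_comm, pow_mul, ← hzb3, pow_orderOf_eq_one,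
        one_pow]
    have ho : orderOf hb = 9 := orderOf_eq_prime_pow (p := 3) (n := 1) (by rwa [pow_one]) h9
    obtain ⟨w, hw⟩ := exists_four (P := zpowers hb) (by rw [Nat.card_zpowers, ho])
    obtain ⟨hw1, hw2⟩ := hw hb (mem_zpowers _)
    obtain ⟨j, hj⟩ := (mem_powers_iff_mem_zpowers (G := AltFin)).2 hw1
    simp only at hj
    rw [← hj, ← conj_pow, ← hj, ← pow_mul, eq_inv_iff_mul_eq_one, ← pow_succ] at hw2
    exact not_three_dvd_sq_succ j ((show 3 ∣ 9 by norm_num).trans (ho ▸ orderOf_dvd_of_pow_eq_one hw2))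
  obtain ⟨P, hP9, hzP, hhP, hPform⟩ := pair_nine hzbhb hzb3 hhb3 hhnot
  obtain ⟨wb, hwb⟩ := exists_four hP9
  obtain ⟨wX, hwX⟩ : ∃ wX : ↥X, p wX = wb := by
    obtain ⟨x, hx⟩ := QuotientGroup.mk'_surjective (Cfsg.oddCore ↥X) (e7.symm wb)
    exact ⟨x, by show e7 (π x) = wb; rw [hπ, hx, MulEquiv.apply_symm_apply]⟩
  set gX : ↥X := wX * ZX * wX⁻¹ with hgX
  obtain ⟨hgP, hg2⟩ := hwb zb hzP
  have hpgX : p gX = wb * zb * wb⁻¹ := by rw [hgX, map_mul, map_mul, map_inv, hwX]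
  obtain ⟨i, m, him⟩ := hPform _ hgP
  obtain ⟨b₀, hg'⟩ := hpres gX i m (hpgX.trans him)
  set g' : G := (gX : G) with hg'def
  have hm3 : ¬ 3 ∣ m := by
    rintro ⟨m', rfl⟩
    rw [pow_mul hb, show hb ^ 3 = 1 by rw [← hhb3, pow_orderOf_eq_one], one_pow, mul_one] at him
    rw [him, ← conj_pow, him, ← pow_mul, eq_inv_iff_mul_eq_one, ← pow_succ] at hg2
    exact not_three_dvd_sq_succ i (hzb3 ▸ orderOf_dvd_of_pow_eq_one hg2)
  have hg'M : g' ∈ M := by
    rw [hg']
    exact mul_mem (mul_mem (pow_mem (core_le_M hC hM z₀.2) i) (pow_mem hHM m))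
      (pow_mem (core_le_M hC hM hEW) b₀)
  have hg'J : (⟨g', hg'M⟩ : ↥M) ∉ J := by
    intro hJ
    refine hpowJ m hm3 ?_
    have hz := hWJ (⟨Z₀, core_le_M hC hM z₀.2⟩ ^ i) (by
      rw [SubmonoidClass.coe_pow]; exact pow_mem z₀.2 i)
    have he' := hWJ (⟨E, core_le_M hC hM hEW⟩ ^ b₀) (by
      rw [SubmonoidClass.coe_pow]; exact pow_mem hEW b₀)
    have := mul_mem (mul_mem (inv_mem hz) hJ) (inv_mem he')
    convert this using 1
    apply Subtype.ext
    simp only [Subgroup.coe_mul, Subgroup.coe_inv, SubmonoidClass.coe_pow]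
    rw [hg']
    group
  have hg'z : Commute g' Z₀ := by
    rw [hg']
    exact (((Commute.refl Z₀).pow_left i).mul_left (hHz.pow_left m)).mul_left (hzE.symm.pow_left b₀)
  have hg'E : Commute g' E := hXE gX
  have hg'3 : g' ^ 3 = 1 := by
    rw [hg'def, hgX, Subgroup.coe_mul, Subgroup.coe_mul, Subgroup.coe_inv, conj_pow]
    show (wX : G) * Z₀ ^ 3 * (wX : G)⁻¹ = 1
    rw [hZ3', mul_one, mul_inv_cancel]
  -- `w² ` inverts `z₀` exactly
  have hcard : Nat.card AltFin = 2520 := by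
    haveI : Nontrivial (Fin 7) := inferInstance
    rw [Nat.card_eq_fintype_card, card_alternatingGroup, Fintype.card_fin]
    norm_num [Nat.factorial]
  have hcardX : Nat.card ↥X = 7560 := by
    rw [Subgroup.card_eq_card_quotient_mul_card_subgroup (Cfsg.oddCore ↥X), Nat.card_congr e7.toEquiv,
      hcard, hRE, Nat.card_zpowers, Subgroup.orderOf_mk, hE, Subgroup.orderOf_coe, heo]
  have hexact : ∀ x : ↥X, Commute (p x) zb → Commute (x : G) Z₀ := by
    intro x hx
    set C' := (centralizer ({zb} : Set AltFin)).comap p with hC'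
    have hmem : ∀ y : C', (y : G) * Z₀ * (y : G)⁻¹ * Z₀⁻¹ ∈ zpowers E := by
      intro y
      obtain ⟨b, hb'⟩ := hker ((y : ↥X) * ZX * (y : ↥X)⁻¹ * ZX⁻¹) (by
        rw [map_mul, map_mul, map_mul, map_inv, map_inv, ← hzb,
          show p (y : ↥X) * zb = zb * p (y : ↥X) from mem_centralizer_singleton_iff.1 y.2,
          mul_inv_cancel_right, mul_inv_cancel])
      simp only [Subgroup.coe_mul, Subgroup.coe_inv, hZX] at hb'
      rw [hb']
      exact pow_mem (mem_zpowers E) b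
    have hcomE : ∀ {y r : G}, y ∈ X → r ∈ zpowers E → Commute y r := fun hy hr => by
      obtain ⟨k, rfl⟩ := mem_zpowers_iff.1 hr
      exact (show Commute _ E from mem_centralizer_singleton_iff.1 hy).zpow_right k
    let φ : C' →* ↥(zpowers E) := MonoidHom.mk' (fun y => ⟨_, hmem y⟩) fun a b => Subtype.ext (by
      simp only [Subgroup.coe_mul]
      have h1 := hcomE (SetLike.coe_mem (a : ↥X)) (hmem b)
      calc (a : G) * b * Z₀ * ((a : G) * b)⁻¹ * Z₀⁻¹
          = (a : G) * ((b : G) * Z₀ * (b : G)⁻¹ * Z₀⁻¹) * (Z₀ * (a : G)⁻¹ * Z₀⁻¹) := by group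
        _ = ((b : G) * Z₀ * (b : G)⁻¹ * Z₀⁻¹) * ((a : G) * Z₀ * (a : G)⁻¹ * Z₀⁻¹) := by
            rw [h1.eq]; group
        _ = _ := by
            obtain ⟨k, hk⟩ := mem_zpowers_iff.1 (hmem a)
            obtain ⟨k', hk'⟩ := mem_zpowers_iff.1 (hmem b)
            rw [← hk, ← hk', ((Commute.refl E).zpow_zpow k' k).eq])
    have hQC : P.comap p ≤ C' := comap_mono fun q hq => by
      obtain ⟨i', j', rfl⟩ := hPform q hq
      exact mem_centralizer_singleton_iff.2
        (((Commute.refl zb).pow_left i').mul_left (hzbhb.symm.pow_left j')).eq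
    have hQker : (P.comap p).subgroupOf C' ≤ φ.ker := by
      intro y hy
      obtain ⟨i', j', hij⟩ := hPform _ (mem_comap.1 (mem_subgroupOf.1 hy))
      obtain ⟨b, hb'⟩ := hpres _ i' j' hij
      refine MonoidHom.mem_ker.2 (Subtype.ext ?_)
      show (y : G) * Z₀ * (y : G)⁻¹ * Z₀⁻¹ = 1
      have : Commute (y : G) Z₀ := by
        rw [show (y : G) = _ from hb']
        exact (((Commute.refl Z₀).pow_left i').mul_left (hHz.pow_left j')).mul_left (hzE.symm.pow_left b)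
      rw [this.eq, mul_inv_cancel_right, mul_inv_cancel]
    have hp : Function.Surjective p := e7.surjective.comp (QuotientGroup.mk'_surjective _)
    have hQ27 : Nat.card ↥(P.comap p) = 27 := by
      have h1 := (P.comap p).card_mul_index
      rw [index_comap_of_surjective _ hp, hcardX] at h1
      have h2 := P.card_mul_index
      rw [hP9, hcard] at h2
      rw [show P.index = 280 by omega] at h1
      omega
    have h27dvd : 27 ∣ Nat.card φ.ker := by
      rw [← hQ27, ← Nat.card_congr (subgroupOfEquivOfLe hQC).toEquiv]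
      exact card_dvd_of_le hQker
    have hrange : φ.range = ⊥ := by
      refine eq_bot_of_card_eq _ ?_
      rcases (Nat.dvd_prime Nat.prime_three).1 (show Nat.card φ.range ∣ 3 from
        (Subgroup.card_subgroup_dvd_card _).trans (dvd_of_eq (by
          rw [Nat.card_zpowers, hE, Subgroup.orderOf_coe, heo]))) with h | h
      · exact h
      · exfalso
        have h1 : Nat.card C' = Nat.card φ.ker * 3 := by
          rw [← φ.ker.card_mul_index, Subgroup.index_ker, h]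
        have h2 : 81 ∣ 7560 := hcardX ▸ (((mul_dvd_mul h27dvd dvd_rfl).trans (dvd_of_eq h1.symm)).trans
          (Subgroup.card_subgroup_dvd_card C'))
        exact absurd h2 (by norm_num)
    have h1 : φ ⟨x, mem_comap.2 (mem_centralizer_singleton_iff.2 hx.eq)⟩ ∈ φ.range := ⟨_, rfl⟩
    rw [hrange, mem_bot] at h1
    have h2 : (x : G) * Z₀ * (x : G)⁻¹ * Z₀⁻¹ = 1 := congrArg Subtype.val h1
    exact mul_inv_eq_iff_eq_mul.1 (mul_inv_eq_one.1 h2)
  have hwg : (wX : G) * g' * (wX : G)⁻¹ = Z₀⁻¹ := by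
    obtain ⟨r, hr⟩ := hker (ZX * (wX * gX * wX⁻¹)) (by
      rw [map_mul, map_mul, map_mul, map_inv, hwX, hpgX, hg2, mul_inv_cancel])
    simp only [Subgroup.coe_mul, Subgroup.coe_inv, hZX] at hr
    have hσE : Commute (c * s) E := (mem_pairCore.1 hED).2.symm
    set y : ↥X := (⟨c * s, mem_centralizer_singleton_iff.2 hσE.eq⟩ : ↥X) * wX * wX with hy
    have hσz : c * s * Z₀ * (c * s)⁻¹ = Z₀⁻¹ := congrArg Subtype.val hσz₀
    have hy1 : (y : G) * Z₀ * (y : G)⁻¹ = Z₀ * E ^ r := by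
      calc (y : G) * Z₀ * (y : G)⁻¹ = (c * s) * ((wX : G) * g' * (wX : G)⁻¹) * (c * s)⁻¹ := by
            rw [hy, hg'def, hgX]
            simp only [Subgroup.coe_mul, Subgroup.coe_inv, hZX]
            group
        _ = (c * s) * (Z₀⁻¹ * E ^ r) * (c * s)⁻¹ := by rw [← hr, hg'def]; group
        _ = (c * s * Z₀ * (c * s)⁻¹)⁻¹ * (c * s * E ^ r * (c * s)⁻¹) := by group
        _ = Z₀ * E ^ r := by rw [hσz, inv_inv, (hσE.pow_right r).eq, mul_inv_cancel_right]
    have hy2 := hexact y (by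
      refine mul_inv_eq_iff_eq_mul.1 ?_
      rw [hzb, ← map_inv, ← map_mul, ← map_mul,
        show y * ZX * y⁻¹ = ZX * (⟨E, hEX⟩ : ↥X) ^ r from Subtype.ext (by
          simp only [Subgroup.coe_mul, Subgroup.coe_inv, SubmonoidClass.coe_pow, hZX]
          exact hy1), map_mul, map_pow, hpE, one_pow, mul_one])
    rw [hy2.eq, mul_inv_cancel_right] at hy1
    rw [left_eq_mul.1 hy1] at hr
    exact eq_inv_of_mul_eq_one_right hr
  -- the element `f`
  obtain ⟨f, hf⟩ : ∃ f : ↥(coreIn M), f ∉ centralizer ({e} : Set ↥(coreIn M)) := by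
    by_contra h
    push Not at h
    rw [show centralizer ({e} : Set ↥(coreIn M)) = ⊤ from eq_top_iff.2 fun v _ => h v, card_top,
      h27] at he9
    omega
  set F : G := (f : G)
  have hfz : F * Z₀ * F⁻¹ = Z₀ := by
    rw [show F * Z₀ = Z₀ * F from congrArg Subtype.val (mem_center_iff.1 hz₀Z f), mul_inv_cancel_right]
  obtain ⟨a, hfe⟩ : ∃ a : ℕ, f * e * f⁻¹ = z₀ ^ a * e := by
    have : f * e * f⁻¹ * e⁻¹ ∈ center ↥(coreIn M) := by
      refine (QuotientGroup.eq_one_iff _).1 ?_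
      simp only [QuotientGroup.mk_mul, QuotientGroup.mk_inv]
      rw [hcom _ (e : ↥(coreIn M) ⧸ center ↥(coreIn M)), mul_inv_cancel_right, mul_inv_cancel]
    obtain ⟨a, ha⟩ := (mem_powers_iff_mem_zpowers (G := ↥(coreIn M))).2 (hZgen _ this)
    exact ⟨a, by simp only at ha; rw [ha, inv_mul_cancel_right]⟩
  have hfe' : F * E * F⁻¹ = Z₀ ^ a * E := by
    have := congrArg Subtype.val hfe
    simpa only [Subgroup.coe_mul, Subgroup.coe_inv, SubmonoidClass.coe_pow] using this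
  have hfgW : F * g' * F⁻¹ * g'⁻¹ ∈ coreIn M := by
    rw [show F * g' * F⁻¹ * g'⁻¹ = F * (g' * F⁻¹ * g'⁻¹) by group]
    exact mul_mem f.2 (core_conj_mem hC hM hg'M (inv_mem f.2))
  have hfgE : Commute (F * g' * F⁻¹) E := by
    have h1 := (Commute.conj_iff F).2 hg'E
    have h2 := (Commute.conj_iff F).2 hg'z
    rw [hfz] at h2
    rw [hfe'] at h1
    have h3 := (h2.pow_right a).inv_right.mul_right h1
    rwa [inv_mul_cancel_left] at h3
  obtain ⟨b, d, hbd⟩ := hCe ⟨_, hfgW⟩ (Subtype.ext (hfgE.mul_left hg'E.inv_left).eq)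
  have hfg : F * g' * F⁻¹ = Z₀ ^ d * E ^ b * g' := by
    have h1 : F * g' * F⁻¹ * g'⁻¹ = E ^ b * Z₀ ^ d := by
      have := congrArg Subtype.val hbd
      simpa only [Subgroup.coe_mul, SubmonoidClass.coe_pow] using this
    rw [(hzE.pow_pow d b).eq, ← h1, inv_mul_cancel_right]
  have hb0 : (b : ZMod 3) ≠ 0 := by
    intro hb0
    have hEb : E ^ b = 1 := by rw [← pow_val_eq hE3, hb0, ZMod.val_zero, pow_zero]
    rw [hEb, mul_one] at hfg
    refine hg'J ?_
    set γ := conjCore M ⟨g', hg'M⟩ with hγ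
    let K : Subgroup ↥(coreIn M) :=
      { carrier := {w | (γ w)⁻¹ * w ∈ center ↥(coreIn M)}
        one_mem' := by simp
        mul_mem' := fun {u v} hu hv => by
          show (γ (u * v))⁻¹ * (u * v) ∈ center _
          rw [map_mul, mul_inv_rev, show (γ v)⁻¹ * (γ u)⁻¹ * (u * v)
            = (γ v)⁻¹ * ((γ u)⁻¹ * u) * v by group,
            mem_center_iff.1 hu (γ v)⁻¹, mul_assoc]
          exact mul_mem hu hv
        inv_mem' := fun {u} hu => by
          show (γ u⁻¹)⁻¹ * u⁻¹ ∈ center _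
          rw [map_inv, inv_inv, show γ u * u⁻¹ = u * ((γ u)⁻¹ * u)⁻¹ * u⁻¹ by group,
            mem_center_iff.1 (inv_mem hu) u, mul_inv_cancel_right]
          exact inv_mem hu }
    have heK : centralizer ({e} : Set ↥(coreIn M)) ≤ K := by
      intro q hq
      obtain ⟨i', j', rfl⟩ := hCe q (mem_centralizer_singleton_iff.1 hq)
      show (γ _)⁻¹ * _ ∈ center _
      rw [show γ (e ^ i' * z₀ ^ j') = e ^ i' * z₀ ^ j' from Subtype.ext (by
        rw [coe_conjCore]
        simp only [Subgroup.coe_mul, SubmonoidClass.coe_pow]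
        rw [((hg'E.pow_right i').mul_right (hg'z.pow_right j')).eq, mul_inv_cancel_right]),
        inv_mul_cancel]
      exact one_mem _
    have hfK : f ∈ K := by
      show (γ f)⁻¹ * f ∈ center _
      rw [show (γ f)⁻¹ * f = z₀ ^ d from Subtype.ext ?_]
      · exact pow_mem hz₀Z d
      · simp only [Subgroup.coe_mul, Subgroup.coe_inv, SubmonoidClass.coe_pow, hγ, coe_conjCore]
        have hc : Commute (Z₀ ^ d) F :=
          ((show Commute Z₀ F from (congrArg Subtype.val (mem_center_iff.1 hz₀Z f)).symm).pow_left d)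
        calc (g' * F * g'⁻¹)⁻¹ * F = F⁻¹ * (F * g' * F⁻¹) * g'⁻¹ * F := by group
          _ = F⁻¹ * (Z₀ ^ d * F) := by rw [hfg]; group
          _ = Z₀ ^ d := by rw [hc.eq, inv_mul_cancel_left]
    have hK9 : 9 ∣ Nat.card K := he9 ▸ card_dvd_of_le heK
    have hK27 : Nat.card K ∣ 27 := h27 ▸ K.card_subgroup_dvd_card
    have hKne : Nat.card K ≠ 9 := fun h9 => hf
      (eq_of_le_of_card_ge heK (by rw [he9, h9]) ▸ hfK)
    have hKtop : K = ⊤ := by
      refine (card_eq_iff_eq_top K).1 ?_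
      rw [h27]
      have := Nat.le_of_dvd (by norm_num) hK27
      interval_cases hc : Nat.card K <;> omega
    exact fun w => (hKtop ▸ mem_top w : w ∈ K)
  have ha0 : (a : ZMod 3) ≠ 0 := by
    intro h0
    refine hf (mem_centralizer_singleton_iff.2 (mul_inv_eq_iff_eq_mul.1 ?_))
    rw [hfe, show z₀ ^ a = 1 from Subtype.ext (by
      rw [SubmonoidClass.coe_pow, ← hZ₀, ← pow_val_eq hZ3', h0, ZMod.val_zero, pow_zero]; rfl), one_mul]
  refine H57.GW.false_of_residue S hS4 (z := Z₀) (e := E) (g := g') (f := F) (w := (wX : G))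
    (a := (a : ZMod 3)) (b := (b : ZMod 3)) (c := (d : ZMod 3))
    hZ3' hE3 hg'3 hzE hg'z.symm hg'E.symm ?_ ha0 hb0 hfz ?_ ?_ ?_ ?_ hwg
  · intro x y k hxyk
    have hzE' : (z₀ : ↥(coreIn M)) ^ x.val * e ^ y.val = 1 → x = 0 ∧ y = 0 := by
      intro h1
      have h2 : (z₀ : ↥(coreIn M)) ^ x.val = 1 := hcenfix _ (pow_mem hz₀Z _) (by
        rw [eq_inv_of_mul_eq_one_left h1, map_inv, map_pow, he])
      have h3 : e ^ y.val = 1 := by rwa [h2, one_mul] at h1
      have h4 := orderOf_dvd_of_pow_eq_one h2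
      have h5 := orderOf_dvd_of_pow_eq_one h3
      rw [hz₀o] at h4
      rw [heo] at h5
      exact ⟨(ZMod.val_eq_zero x).1 (Nat.eq_zero_of_dvd_of_lt h4 x.val_lt),
        (ZMod.val_eq_zero y).1 (Nat.eq_zero_of_dvd_of_lt h5 y.val_lt)⟩
    by_cases hk : k = 0
    · subst hk
      rw [ZMod.val_zero, pow_zero, mul_one] at hxyk
      obtain ⟨h1, h2⟩ := hzE' (Subtype.ext (by
        rw [Subgroup.coe_mul, SubmonoidClass.coe_pow, SubmonoidClass.coe_pow]
        exact hxyk))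
      exact ⟨h1, h2, rfl⟩
    · exfalso
      have h1 : g' ^ k.val ∈ coreIn M := by
        rw [eq_inv_of_mul_eq_one_right hxyk]
        exact inv_mem (mul_mem (pow_mem z₀.2 _) (pow_mem hEW _))
      refine hg'J (hWJ _ ?_)
      have h2 : g' = (g' ^ k.val) ^ k.val := by
        rw [← pow_mul]
        have hk' : k.val * k.val % 3 = 1 := by
          have key : ∀ k : ZMod 3, k ≠ 0 → k.val * k.val % 3 = 1 := by
            intro j hj
            fin_cases j <;> first | rfl | exact absurd rfl hj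
          exact key k hk
        conv_lhs => rw [← pow_one g', ← hk', ← pow_eq_pow_mod _ hg'3]
      show g' ∈ coreIn M
      rw [h2]
      exact pow_mem h1 _
  · rw [pow_val_eq hZ3']; exact hfe'
  · rw [pow_val_eq hZ3', pow_val_eq hE3]; exact hfg
  · rw [hg'def, hgX]; simp [hZX]
  · rw [(hXE wX).eq, mul_inv_cancel_right]

end Residual

/-- A two-class overgroup forces `D' = 1`. -/
theorem twoClassStep {G : Type u} [Group G] [Finite G] : GW.TwoClassStep (G := G) := by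
  intro S l c s hC M hM
  obtain ⟨g, hgM, hg, hor⟩ := hM.fused
  by_contra hD
  exact false_of_residual hC hM hgM hg hor hD

end Cfsg.Agent.H65.GW
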