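import Cfsg.Agent.H65.GW.PslFacts
import Mathlib.NumberTheory.Multiplicity

/-!
# The small torus lemma for field automorphisms of `PSL(2,q)`

An automorphism of odd prime order `r` which centralises a four group cannot centralise the
`r'`-part of the odd torus of one of its involutions: the fixed points of a field automorphism of
order `r` in that torus have at most `2x` elements, `q = x ^ r`.
-/

set_option autoImplicit false
set_option linter.unusedSectionVars false
set_option linter.style.haveILetI false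

namespace Cfsg.Agent.H65.GW

open Subgroup Matrix Cfsg.Agent Cfsg.Agent.Linear Cfsg.Agent.H55
open Cfsg.Agent.H56 (PSLn SLn semiAut)
open Cfsg.Agent.H5.EvenCyclic (linAut)
open Cfsg.Agent.H63.GW (SylowDType)
open Cfsg.Agent.H4.GW (actHom fieldPartHom)

universe u

/-- The `r'`-part of `(x ^ r - ε) / (x - ε)` exceeds `2 x`. -/
theorem exists_big_divisor {x r : ℕ} {ε : ℤ} (hr : r.Prime) (hr2 : Odd r) (hx : 3 ≤ x)
    (hxo : Odd x) (hε : ε = 1 ∨ ε = -1) (h4 : (4 : ℤ) ∣ (x : ℤ) ^ r - ε) :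
    ∃ m : ℕ, (m : ℤ) ∣ (x : ℤ) ^ r - ε ∧ Odd m ∧ m.Coprime r ∧ 2 * x < m := by
  classical
  have hr3 : 3 ≤ r := by
    have := hr.two_le
    obtain ⟨k, hk⟩ := hr2
    omega
  have hεr : ε ^ r = ε := by
    rcases hε with rfl | rfl
    · exact one_pow r
    · exact hr2.neg_one_pow
  set M : ℤ := ∑ i ∈ Finset.range r, (x : ℤ) ^ i * ε ^ (r - 1 - i) with hM
  have hMeq : M * ((x : ℤ) - ε) = (x : ℤ) ^ r - ε := by rw [hM, geom_sum₂_mul, hεr]
  have hx1 : (1 : ℤ) < x := by exact_mod_cast (show 1 < x by omega)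
  have hd0 : 0 < (x : ℤ) - ε := by rcases hε with rfl | rfl <;> omega
  have hd1 : (x : ℤ) - ε ≤ (x : ℤ) + 1 := by rcases hε with rfl | rfl <;> omega
  have hM0 : 0 < M := by
    have : (0 : ℤ) < (x : ℤ) ^ r - ε := by
      have h1 : (x : ℤ) ≤ (x : ℤ) ^ r := le_self_pow₀ hx1.le hr.ne_zero
      rcases hε with rfl | rfl <;> omega
    rw [← hMeq] at this
    exact (mul_pos_iff_of_pos_right hd0).1 this
  -- the lower bound
  have hlow : (x : ℤ) ^ (r - 2) * ((x : ℤ) - 1) < M := by
    by_contra hle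
    push Not at hle
    have h1 : M * ((x : ℤ) - ε) ≤ (x : ℤ) ^ (r - 2) * ((x : ℤ) - 1) * ((x : ℤ) + 1) :=
      mul_le_mul hle hd1 hd0.le (by positivity)
    have h2 : (x : ℤ) ^ r = (x : ℤ) ^ (r - 2) * (x : ℤ) ^ 2 := by
      rw [← pow_add, show r - 2 + 2 = r by omega]
    have h3 : (1 : ℤ) < (x : ℤ) ^ (r - 2) := one_lt_pow₀ hx1 (by omega)
    have h5 : (x : ℤ) ^ (r - 2) * ((x : ℤ) - 1) * ((x : ℤ) + 1) =
        (x : ℤ) ^ r - (x : ℤ) ^ (r - 2) := by rw [h2]; ring
    rcases hε with rfl | rfl <;> linarith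
  have hxr : (x : ℤ) ≤ (x : ℤ) ^ (r - 2) := le_self_pow₀ hx1.le (by omega)
  have h2x : 2 * (x : ℤ) < M := by nlinarith
  -- parity
  have hMo : Odd M := by
    have hf : ∀ i, Odd ((x : ℤ) ^ i * ε ^ (r - 1 - i)) := fun i =>
      ((Int.odd_coe_nat x).2 hxo).pow.mul (Odd.pow (by rcases hε with rfl | rfl <;> decide))
    have hsum : ∀ n : ℕ, Odd (∑ i ∈ Finset.range n, (x : ℤ) ^ i * ε ^ (r - 1 - i)) ↔ Odd n := by
      intro n
      induction n with
      | zero => simp
      | succ n ih =>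
        rw [Finset.sum_range_succ, Int.odd_add, ih, Nat.odd_add_one]
        simp only [← Int.not_odd_iff_even, hf n, not_true, iff_false]
    exact (hsum r).2 hr2
  haveI := Fact.mk hr
  have hpi : Prime (r : ℤ) := Nat.prime_iff_prime_int.1 hr
  by_cases hrM : (r : ℤ) ∣ M
  · -- then `r` divides `x - ε` and exactly once divides `M`
    have hrd : (r : ℤ) ∣ (x : ℤ) - ε := by
      have h1 : (r : ℤ) ∣ (x : ℤ) ^ r - ε := hMeq ▸ hrM.mul_right _
      rw [← ZMod.intCast_zmod_eq_zero_iff_dvd] at h1 ⊢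
      push_cast at h1 ⊢
      rwa [ZMod.pow_card] at h1
    obtain ⟨b, hb⟩ := hrd
    have hsq : (r : ℤ) ^ 2 ∣ M - r := by
      have h := odd_sq_dvd_geom_sum₂_sub (R := ℤ) ε b hr2
      rw [show ε + (r : ℤ) * b = x by linarith] at h
      have he : ε ^ (r - 1) = 1 := by
        rcases hε with rfl | rfl
        · exact one_pow _
        · exact (Nat.Odd.sub_odd hr2 odd_one).neg_one_pow
      rwa [he, mul_one] at h
    have h4x : (4 : ℤ) ∣ (x : ℤ) - ε := by
      have hco : IsCoprime (4 : ℤ) M := by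
        obtain ⟨k, hk⟩ := hMo
        have : IsCoprime (2 : ℤ) M := ⟨-k, 1, by rw [hk]; ring⟩
        simpa using this.pow_left (m := 2)
      exact hco.dvd_of_dvd_mul_left (hMeq ▸ h4)
    have h4r : (4 * r : ℤ) ∣ (x : ℤ) - ε := by
      refine IsCoprime.mul_dvd ?_ h4x ⟨b, hb⟩
      have : Nat.Coprime 4 r := by
        rw [show (4 : ℕ) = 2 ^ 2 from rfl]
        exact (Nat.coprime_two_left.2 hr2).pow_left 2
      exact Nat.isCoprime_iff_coprime.2 this
    have hxbig : 4 * (r : ℤ) - 1 ≤ x := by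
      have := Int.le_of_dvd hd0 h4r
      omega
    obtain ⟨q, hq⟩ := hrM
    have hq0 : 0 < q := by
      have : (0 : ℤ) < r * q := hq ▸ hM0
      exact (mul_pos_iff_of_pos_left (by exact_mod_cast hr.pos)).1 this
    refine ⟨q.toNat, ?_, ?_, ?_, ?_⟩
    · rw [Int.toNat_of_nonneg hq0.le, ← hMeq, hq]
      exact (dvd_mul_left q _).mul_right _
    · rw [← Int.odd_coe_nat, Int.toNat_of_nonneg hq0.le]
      exact (Int.odd_mul.1 (hq ▸ hMo)).2
    · rw [Nat.coprime_comm, hr.coprime_iff_not_dvd, ← Int.natCast_dvd_natCast,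
        Int.toNat_of_nonneg hq0.le]
      intro hh
      have h2 : (r : ℤ) ^ 2 ∣ M := by rw [hq, pow_two]; exact mul_dvd_mul_left _ hh
      have h3 : (r : ℤ) ^ 2 ∣ (r : ℤ) * 1 := by
        rw [mul_one, show (r : ℤ) = M - (M - r) by ring]
        simpa using dvd_sub h2 hsq
      rw [pow_two] at h3
      exact hpi.not_dvd_one ((mul_dvd_mul_iff_left hpi.ne_zero).1 h3)
    · have hgt : (r : ℤ) * (2 * x) < r * q := by
        rw [← hq]
        have hmul : (x : ℤ) * ((x : ℤ) - 1) ≤ (x : ℤ) ^ (r - 2) * ((x : ℤ) - 1) :=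
          mul_le_mul_of_nonneg_right hxr (by linarith)
        have hr' : (3 : ℤ) ≤ r := by exact_mod_cast hr3
        nlinarith
      have := lt_of_mul_lt_mul_left hgt (by positivity)
      omega
  · refine ⟨M.toNat, ?_, ?_, ?_, ?_⟩
    · rw [Int.toNat_of_nonneg hM0.le, ← hMeq]
      exact dvd_mul_right M _
    · rw [← Int.odd_coe_nat, Int.toNat_of_nonneg hM0.le]
      exact hMo
    · rw [Nat.coprime_comm, hr.coprime_iff_not_dvd, ← Int.natCast_dvd_natCast,
        Int.toNat_of_nonneg hM0.le]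
      exact hrM
    · omega

section Linear2

variable {F : Type} [Field F] [Fintype F]

local notation "M2" => Matrix (Fin 2) (Fin 2) F

/-- An element of `SL(2,F)` with trace in a subfield `F₀` has order at most `2 |F₀|`. -/
theorem orderOf_le_of_trace_mem {B : SLn 2 F} {F₀ : Subfield F} (ht : (B : M2).trace ∈ F₀) :
    orderOf B ≤ 2 * Nat.card F₀ := by
  classical
  set τ := (B : M2).trace with hτ
  have hdet : ∀ a b : F, (a • (1 : M2) + b • (B : M2)).det = a * a + a * b * τ + b * b := by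
    intro a b
    have hB : (B : M2).det = 1 := B.2
    rw [Matrix.det_fin_two] at hB
    simp only [hτ, Matrix.det_fin_two, Matrix.trace_fin_two, Matrix.add_apply, Matrix.smul_apply,
      Matrix.one_apply, smul_eq_mul]
    simp
    linear_combination b * b * hB
  -- a chosen root for every value of the second coordinate
  let root : F₀ → F := fun b =>
    if h : ∃ a : F, a * a + a * b * τ + (b : F) * b = 1 then h.choose else 0
  let ψ : F₀ × Bool → M2 := fun p =>
    (if p.2 then root p.1 else -((p.1 : F) * τ) - root p.1) • (1 : M2) + (p.1 : F) • (B : M2)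
  rw [← Nat.card_zpowers]
  have hf : Function.Injective (fun z : Subgroup.zpowers B => ((z : SLn 2 F) : M2)) :=
    fun z w hzw => Subtype.ext (Subtype.ext hzw)
  have hsub : Set.range (fun z : Subgroup.zpowers B => ((z : SLn 2 F) : M2)) ⊆ Set.range ψ := by
    rintro _ ⟨⟨z, hz⟩, rfl⟩
    obtain ⟨k, rfl⟩ := (isOfFinOrder_of_finite B).mem_zpowers_iff_mem_range_orderOf.1 hz |>
      fun hh => by simpa [eq_comm] using Finset.mem_image.1 hh |>.imp fun k hk => hk.2
    obtain ⟨a, -, b, hb, eab⟩ := pow_mem_span (A := B) ht k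
    have h1 : a * a + a * b * τ + b * b = 1 := by
      rw [← hdet, ← eab]; exact (B ^ k).2
    have hex : ∃ a : F, a * a + a * ((⟨b, hb⟩ : F₀) : F) * τ + b * b = 1 := ⟨a, h1⟩
    have h0 : root ⟨b, hb⟩ * root ⟨b, hb⟩ + root ⟨b, hb⟩ * b * τ + b * b = 1 := by
      simp only [root]
      rw [dif_pos hex]
      exact hex.choose_spec
    have h2 : (a - root ⟨b, hb⟩) * (a + b * τ + root ⟨b, hb⟩) = 0 := by
      linear_combination h1 - h0
    rcases mul_eq_zero.1 h2 with h | h
    · refine ⟨(⟨b, hb⟩, true), ?_⟩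
      show ψ _ = ((B ^ k : SLn 2 F) : M2)
      rw [eab, sub_eq_zero.1 h]
      simp [ψ]
    · refine ⟨(⟨b, hb⟩, false), ?_⟩
      show ψ _ = ((B ^ k : SLn 2 F) : M2)
      rw [eab, show a = -(b * τ) - root ⟨b, hb⟩ by linear_combination h]
      simp [ψ]
  calc Nat.card (Subgroup.zpowers B)
      = (Set.range (fun z : Subgroup.zpowers B => ((z : SLn 2 F) : M2))).ncard := by
        rw [← Nat.card_coe_set_eq, Nat.card_range_of_injective hf]
    _ ≤ (Set.range ψ).ncard := Set.ncard_le_ncard hsub (Set.finite_range ψ)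
    _ ≤ Nat.card (F₀ × Bool) := by
        rw [← Nat.card_coe_set_eq]; exact Finite.card_range_le ψ
    _ = 2 * Nat.card F₀ := by
        rw [Nat.card_prod, Nat.card_eq_fintype_card (α := Bool), Fintype.card_bool, mul_comm]

end Linear2

section Over

variable {Y : Type u} [Group Y] [Finite Y] {K : Subgroup Y} [K.Normal]
  {F : Type} [Field F] [Fintype F] (e : ↥K ≃* PSLn 2 F)
  (h : SylowDType Y) (hodd : Odd (Fintype.card F)) (hC : centralizer (K : Set Y) = ⊥)

include e h hodd hC

/-- **FIELD.**  An element of odd prime order `r` centralising two commuting involutions, the first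
in `K`, does not centralise all elements of odd order prime to `r` of the centraliser of the first
in `K`. -/
theorem field_torus_false {f a b : Y} {r : ℕ} (hr : r.Prime) (hr2 : Odd r) (hf : orderOf f = r)
    (ha : a ∈ K) (ha1 : a ≠ 1) (haa : a * a = 1) (hb1 : b ≠ 1) (hbb : b * b = 1) (hne : a ≠ b)
    (hfa : Commute f a) (hfb : Commute f b)
    (hcent : ∀ k ∈ K, Commute k a → Odd (orderOf k) → (orderOf k).Coprime r → Commute f k) :
    False := by
  classical
  have h2 := H4.GW.two_ne hodd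
  have hfo : Odd (orderOf f) := hf ▸ hr2
  have hf1 : f ≠ 1 := fun hh => hr.ne_one (by rw [← hf, hh, orderOf_one])
  have hfK : f ∉ K := fun hy =>
    hf1 (eq_one_of_four e h hodd hC hy hfo ha ha1 haa hfa.symm hb1 hbb hfb.symm hne)
  set σ := fieldPartHom e f with hσdef
  have hσ1 : σ ≠ 1 := fun hh => hfK (H62.GW.mem_of_odd e h hodd hC hh hfo)
  have hσr : orderOf σ = r := ((Nat.dvd_prime hr).1 (hf ▸ orderOf_map_dvd _ f)).resolve_left
    fun hh => hσ1 (orderOf_eq_one_iff.1 hh)
  obtain ⟨g, hg⟩ := H4.GW.exists_semi e f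
  rw [← hσdef] at hg
  -- the fixed field
  let H : Subgroup (RingAut F) := Subgroup.zpowers σ
  haveI : FaithfulSMul H F := ⟨fun {p q} hpq => Subtype.ext (RingEquiv.ext fun x => hpq x)⟩
  haveI : Finite (RingAut F) :=
    Finite.of_injective (fun f : RingAut F => ((f : F ≃+* F) : F → F)) fun f g h => RingEquiv.ext (congrFun h)
  haveI := Fintype.ofFinite H
  set F₀ := FixedPoints.subfield H F with hF₀
  have hfin : Module.finrank F₀ F = r := by
    rw [hF₀, FixedPoints.finrank_eq_card, ← Nat.card_eq_fintype_card, Nat.card_zpowers, hσr]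
  haveI := Fintype.ofFinite F₀
  set x := Nat.card F₀ with hxdef
  have hcard : Fintype.card F = x ^ r := by
    rw [hxdef, Nat.card_eq_fintype_card, ← hfin]; exact Module.card_eq_pow_finrank
  have hxo : Odd x := Nat.Odd.of_mul_left (n := x ^ (r - 1)) (by
    rw [← pow_succ', show r - 1 + 1 = r from Nat.succ_pred_eq_of_pos hr.pos, ← hcard]; exact hodd)
  have hx3 : 3 ≤ x := by
    have : 1 < x := by rw [hxdef]; exact Finite.one_lt_card
    obtain ⟨k, hk⟩ := hxo
    omega
  -- the torus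
  obtain ⟨X, hX⟩ := H86.PSLSizes.exists_lift (e ⟨a, ha⟩)
  have ha' : toPSL X ≠ 1 := fun hh =>
    ha1 (congrArg Subtype.val (e.injective ((hX.symm.trans hh).trans (map_one e).symm)))
  have htr : (X : Matrix (Fin 2) (Fin 2) F).trace = 0 := trace_eq_zero_of_invol ha'
    (by rw [hX, ← map_mul, show (⟨a, ha⟩ : K) * ⟨a, ha⟩ = 1 from Subtype.ext haa, map_one])
  haveI := H86.PSLSizes.isCyclic_centralizer_trace_zero h2 htr
  obtain ⟨A, hA⟩ := IsCyclic.exists_ofOrder_eq_natCard
    (α := ↥(Subgroup.centralizer ({X} : Set (SLn 2 F))))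
  have h4ne : (X : Matrix (Fin 2) (Fin 2) F).trace ^ 2 ≠ 4 := by
    rw [htr]
    intro hh
    exact h2 (mul_self_eq_zero.1 (show (2 : F) * 2 = 0 by linear_combination -hh))
  have hXX : ((X * X : SLn 2 F) : Matrix (Fin 2) (Fin 2) F) = -1 := by
    rw [Matrix.SpecialLinearGroup.coe_mul, SL_sq_eq, htr, zero_smul, zero_sub]
  have hX4 : 4 ∣ Nat.card (Subgroup.centralizer ({X} : Set (SLn 2 F))) := by
    have hXo : orderOf X = 2 ^ (1 + 1) := by
      refine orderOf_eq_prime_pow ?_ ?_
      · intro hh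
        rw [pow_one, pow_two] at hh
        rw [hh, Matrix.SpecialLinearGroup.coe_one] at hXX
        have := congrFun (congrFun hXX 0) 0
        simp at this
        exact h2 (by linear_combination this)
      · refine Subtype.ext ?_
        rw [show (2 : ℕ) ^ (1 + 1) = 2 + 2 from rfl, pow_add, pow_two,
          Matrix.SpecialLinearGroup.coe_mul, hXX, Matrix.SpecialLinearGroup.coe_one, neg_mul_neg,
          one_mul]
    have := orderOf_dvd_natCard (G := Subgroup.centralizer ({X} : Set (SLn 2 F)))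
      ⟨X, Subgroup.mem_centralizer_singleton_iff.2 rfl⟩
    rw [← Subgroup.orderOf_coe, hXo] at this
    exact this
  obtain ⟨ε, hε, hN⟩ : ∃ ε : ℤ, (ε = 1 ∨ ε = -1) ∧
      (Nat.card (Subgroup.centralizer ({X} : Set (SLn 2 F))) : ℤ) = (x : ℤ) ^ r - ε := by
    have hq : (Fintype.card F : ℤ) = (x : ℤ) ^ r := by rw [hcard]; push_cast; rfl
    have hpos : 1 ≤ Fintype.card F := Fintype.card_pos
    rcases card_centralizer_cases h4ne with e4 | e4
    · exact ⟨1, Or.inl rfl, by rw [e4, Nat.cast_sub hpos, hq, Nat.cast_one]⟩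
    · exact ⟨-1, Or.inr rfl, by rw [e4]; push_cast; rw [hq]; ring⟩
  obtain ⟨m, hmN, hmo, hmr, hmx⟩ := exists_big_divisor hr hr2 hx3 hxo hε
    (hN ▸ Int.natCast_dvd_natCast.2 hX4)
  rw [← hN, Int.natCast_dvd_natCast, ← hA] at hmN
  -- the element of order `m`
  obtain ⟨B, hBC, hBord⟩ : ∃ B : SLn 2 F, Commute B X ∧ orderOf B = m := by
    refine ⟨((A ^ (orderOf A / m) : _) : SLn 2 F),
      Subgroup.mem_centralizer_singleton_iff.1 (A ^ (orderOf A / m)).2, ?_⟩
    rw [Subgroup.orderOf_coe, orderOf_pow_orderOf_div (orderOf_pos A).ne' hmN]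
  set k₀ : ↥K := e.symm (toPSL B) with hk₀
  have hk₀a : Commute (k₀ : Y) a := by
    have h1 : Commute (toPSL B) (toPSL X) := hBC.map _
    rw [hX] at h1
    have h3 := (h1.map e.symm).map K.subtype
    simpa [hk₀] using h3
  have hk₀o : orderOf (k₀ : Y) ∣ m := by
    rw [Subgroup.orderOf_coe, hk₀, MulEquiv.orderOf_eq, ← hBord]
    exact orderOf_map_dvd _ B
  have hfk : Commute f (k₀ : Y) :=
    hcent _ k₀.2 hk₀a (hmo.of_dvd_nat hk₀o) (hmr.coprime_dvd_left hk₀o)
  have hact : actHom K e f (toPSL B) = toPSL B := by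
    rw [H4.GW.actHom_apply, ← hk₀]
    have : MulAut.conjNormal f k₀ = k₀ := Subtype.ext (by
      rw [MulAut.conjNormal_apply, hfk.eq, mul_inv_cancel_right])
    rw [this, hk₀, e.apply_symm_apply]
  -- the trace is fixed
  set τ := (B : Matrix (Fin 2) (Fin 2) F).trace with hτ
  have hm : H56.smat (H56.semiSL g σ B) = (g : Matrix (Fin 2) (Fin 2) F) *
      (H56.smat B).map σ * ((g⁻¹ : GL (Fin 2) F) : Matrix (Fin 2) (Fin 2) F) :=
    H56.smat_semiSL g σ _
  have htr' : (H56.smat (H56.semiSL g σ B)).trace = σ τ := by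
    rw [hm, Matrix.trace_mul_cycle, ← Units.val_mul, inv_mul_cancel, Units.val_one, one_mul]
    simp [hτ, Matrix.trace_fin_two, H56.smat]
  rw [hg] at hact
  have hστ : σ τ = τ := by
    rcases (toPSL_two_eq_iff _ _).1 (show toPSL (H56.semiSL g σ B) = toPSL _ from hact) with e' | e'
    · rw [e'] at htr'
      exact htr'.symm
    · rw [e'] at htr'
      have hneg : σ τ = -τ := by
        rw [← htr', hτ]
        show (((-B) : SLn 2 F) : Matrix (Fin 2) (Fin 2) F).trace = _
        rw [Matrix.SpecialLinearGroup.coe_neg, Matrix.trace_neg]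
      obtain ⟨n, hn⟩ := hr2
      have h2σ : (σ ^ 2) τ = τ := by
        show σ (σ τ) = τ
        rw [hneg, map_neg, hneg, neg_neg]
      have h3 : ∀ j : ℕ, ((σ ^ 2) ^ j) τ = τ := fun j => by
        induction j with
        | zero => rfl
        | succ j ih =>
          rw [pow_succ']
          show (σ ^ 2) (((σ ^ 2) ^ j) τ) = τ
          rw [ih, h2σ]
      have h4' : (σ ^ 2) ^ (n + 1) = σ := by
        rw [← pow_mul, show 2 * (n + 1) = r + 1 by omega, pow_succ, ← hσr, pow_orderOf_eq_one,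
          one_mul]
      have h5 := h3 (n + 1)
      rwa [h4'] at h5
  have hτ0 : τ ∈ F₀ := by
    intro γ
    obtain ⟨j, hj⟩ := mem_zpowers_iff.1 γ.2
    show (γ : RingAut F) τ = τ
    rw [← hj]
    exact (MulAction.fixedBy_subset_fixedBy_zpow F σ j) hστ
  have := orderOf_le_of_trace_mem hτ0
  omega

end Over

end Cfsg.Agent.H65.GW
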