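import Mathlib.GroupTheory.SpecificGroups.Alternating
import Mathlib.GroupTheory.Perm.Cycle.Type
import Mathlib.GroupTheory.Sylow

/-!
# `A₇`: odd elements centralising an involution, and the normaliser of a Sylow 3-subgroup
-/

set_option autoImplicit false

namespace Cfsg.Agent.H65.GW

open Equiv Equiv.Perm

abbrev AltFin : Type := ↥(alternatingGroup (Fin 7))

theorem four_fpf (a y : Perm (Fin 4)) (ha : a * a = 1) (hfix : ∀ p, a p ≠ p) (hc : a * y = y * a) :
    y * y * (y * y) = 1 := by
  revert a y
  decide +kernel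

/-- The support of an involution of `A₇` has four points. -/
theorem card_support_invol {a : AltFin} (ha1 : a ≠ 1) (haa : a * a = 1) :
    (a : Perm (Fin 7)).support.card = 4 := by
  classical
  have ha1' : (a : Perm (Fin 7)) ≠ 1 := fun h => ha1 (Subtype.ext h)
  have hord : orderOf (a : Perm (Fin 7)) = 2 :=
    orderOf_eq_prime (by rw [pow_two]; exact congrArg Subtype.val haa) ha1'
  obtain ⟨k, hk⟩ := cycleType_prime_order (σ := (a : Perm (Fin 7))) (hord ▸ Nat.prime_two)
  rw [hord] at hk
  have hsum := sum_cycleType (a : Perm (Fin 7))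
  rw [hk, Multiset.sum_replicate, smul_eq_mul] at hsum
  have hle := Finset.card_le_univ (a : Perm (Fin 7)).support
  rw [Fintype.card_fin] at hle
  have hsgn := sign_of_cycleType (a : Perm (Fin 7))
  rw [Perm.mem_alternatingGroup.1 a.2, hk, Multiset.sum_replicate, Multiset.card_replicate,
    smul_eq_mul] at hsgn
  have hk2 : k ≤ 2 := by omega
  interval_cases k
  all_goals first
    | omega
    | exact absurd hsgn (by decide)

/-- At most three odd elements of `A₇` centralise a given involution. -/
theorem card_odd_centralizing_le {a : AltFin} (ha1 : a ≠ 1) (haa : a * a = 1) :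
    {x : AltFin | Odd (orderOf x) ∧ Commute x a}.ncard ≤ 3 := by
  classical
  set α : Perm (Fin 7) := (a : Perm (Fin 7)) with hα
  have h4 := card_support_invol ha1 haa
  set T : Finset (Fin 7) := Finset.univ \ α.support with hT
  have hT3 : T.card = 3 := by
    rw [hT, Finset.card_univ_diff, Fintype.card_fin, h4]
  -- such elements fix the support
  have hfix : ∀ x : AltFin, Odd (orderOf x) → Commute x a → ∀ p ∈ α.support, (x : Perm (Fin 7)) p = p := by
    intro x hx hc p hp
    have hcc : Commute (x : Perm (Fin 7)) α := congrArg Subtype.val hc.eq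
    have hmem : ∀ q, (x : Perm (Fin 7)) q ∈ α.support ↔ q ∈ α.support := by
      intro q
      rw [Perm.mem_support, Perm.mem_support]
      have e : α ((x : Perm (Fin 7)) q) = (x : Perm (Fin 7)) (α q) :=
        (DFunLike.congr_fun hcc.eq q).symm
      rw [e]
      exact (x : Perm (Fin 7)).injective.ne_iff
    have hα' : ∀ q, α q ∈ α.support ↔ q ∈ α.support := fun q => Perm.apply_mem_support
    let e4 : {q // q ∈ α.support} ≃ Fin 4 := α.support.equivFinOfCardEq h4
    let y : Perm (Fin 4) := e4.permCongr ((x : Perm (Fin 7)).subtypePerm hmem)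
    let b : Perm (Fin 4) := e4.permCongr (α.subtypePerm hα')
    have hy4 := four_fpf b y (by
        ext i
        have hαα : α * α = 1 := congrArg Subtype.val haa
        simp [b, Perm.subtypePerm_apply, ← Perm.mul_apply α α, hαα])
      (fun i hi => by
        have : α (e4.symm i : Fin 7) = (e4.symm i : Fin 7) := by
          have h := congrArg (fun j => ((e4.symm j : {q // q ∈ α.support}) : Fin 7)) hi
          simpa [b, Perm.subtypePerm_apply] using h
        exact Perm.mem_support.1 (e4.symm i).2 this)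
      (by
        ext i
        have e : ∀ q, α ((x : Perm (Fin 7)) q) = (x : Perm (Fin 7)) (α q) := fun q =>
          (DFunLike.congr_fun hcc.eq q).symm
        simp [b, y, Perm.subtypePerm_apply, e])
    have hpow : ∀ n : ℕ, ∀ i, (e4.symm ((y ^ n) i) : Fin 7) = ((x : Perm (Fin 7)) ^ n) (e4.symm i) := by
      intro n
      induction n with
      | zero => intro i; simp
      | succ n ih =>
        intro i
        rw [pow_succ', pow_succ', Perm.mul_apply, Perm.mul_apply, ← ih i]
        simp [y, Perm.subtypePerm_apply]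
    have hodd : y ^ orderOf x = 1 := by
      ext i
      have h := hpow (orderOf x) i
      have hx' : (x : Perm (Fin 7)) ^ orderOf x = 1 := by
        rw [← Subgroup.orderOf_coe]; exact pow_orderOf_eq_one _
      rw [hx', Perm.one_apply] at h
      rw [Perm.one_apply]
      exact congrArg _ (e4.symm.injective (Subtype.ext h))
    have hy1 : y = 1 := by
      have h1 : orderOf y ∣ orderOf x := orderOf_dvd_of_pow_eq_one hodd
      have h2 : orderOf y ∣ 4 := orderOf_dvd_of_pow_eq_one (by
        have h4' : y ^ 4 = y * y * (y * y) := by rw [pow_succ, pow_succ, pow_two, mul_assoc]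
        rw [h4', hy4])
      exact orderOf_eq_one_iff.1 (Nat.eq_one_of_dvd_coprimes
        (show Nat.Coprime (orderOf x) 4 from (Nat.coprime_two_right.2 hx).pow_right 2) h1 h2)
    have h := hpow 1 (e4 ⟨p, hp⟩)
    rw [pow_one, pow_one, hy1, Perm.one_apply, e4.symm_apply_apply] at h
    exact h.symm
  -- they are even permutations of the other three points
  have hmemT : ∀ x : AltFin, Odd (orderOf x) → Commute x a →
      ∀ q, (x : Perm (Fin 7)) q ∈ T ↔ q ∈ T := by
    intro x hx hc q
    simp only [hT, Finset.mem_sdiff, Finset.mem_univ, true_and]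
    refine not_congr ⟨fun h => ?_, fun h => (hfix x hx hc q h).symm ▸ h⟩
    have := hfix x hx hc _ h
    rwa [(x : Perm (Fin 7)).injective this] at h
  let f : {x : AltFin | Odd (orderOf x) ∧ Commute x a} → ↥(alternatingGroup {q // q ∈ T}) := fun x =>
    ⟨(x.1 : Perm (Fin 7)).subtypePerm (hmemT x.1 x.2.1 x.2.2), by
      rw [Perm.mem_alternatingGroup]
      have h1 := Perm.mem_alternatingGroup.1 x.1.2
      rw [← h1]
      convert! Perm.sign_subtypePerm (x.1 : Perm (Fin 7)) (hmemT x.1 x.2.1 x.2.2) (fun q hq => by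
        by_contra hqT
        exact hq (hfix x.1 x.2.1 x.2.2 q (by simpa [hT] using hqT))) using 2
      congr!⟩
  have hfinj : Function.Injective f := by
    intro x x' hxx
    refine Subtype.ext (Subtype.ext (Equiv.ext fun q => ?_))
    by_cases hq : q ∈ T
    · exact congrArg Subtype.val (DFunLike.congr_fun (congrArg Subtype.val hxx) ⟨q, hq⟩)
    · have hq' : q ∈ α.support := by simpa [hT] using hq
      rw [hfix x.1 x.2.1 x.2.2 q hq', hfix x'.1 x'.2.1 x'.2.2 q hq']
  rw [← Nat.card_coe_set_eq]
  refine (Nat.card_le_card_of_injective f hfinj).trans (le_of_eq ?_)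
  haveI : Nontrivial {q // q ∈ T} := Fintype.one_lt_card_iff_nontrivial.1 (by
    rw [Fintype.card_coe, hT3]; norm_num)
  rw [Nat.card_eq_fintype_card, card_alternatingGroup, Fintype.card_coe, hT3]
  rfl

/-- The Sylow 3-subgroup `⟨(123), (456)⟩`. -/
def threeA : AltFin := ⟨swap 1 2 * swap 2 3, Perm.mem_alternatingGroup.2 (by decide)⟩

/-- Its second generator. -/
def threeB : AltFin := ⟨swap 4 5 * swap 5 6, Perm.mem_alternatingGroup.2 (by decide)⟩

/-- An element of order four acting on it. -/
def fourW : AltFin := ⟨swap 1 4 * swap 4 3 * swap 3 6 * swap 2 5, Perm.mem_alternatingGroup.2 (by decide)⟩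

theorem fourW_spec : threeA ^ 3 = 1 ∧ threeB ^ 3 = 1 ∧ threeA * threeB = threeB * threeA ∧
    threeB ∉ ({1, threeA, threeA * threeA} : Finset AltFin) ∧
    fourW * threeA * fourW⁻¹ = threeB ∧ fourW * threeB * fourW⁻¹ = threeA⁻¹ := by
  decide +kernel

attribute [local irreducible] threeA threeB fourW

/-- A 3-subgroup of `A₇` has an element conjugating each of its elements to one conjugated to the
inverse. -/
theorem exists_four {P : Subgroup AltFin} (hP : Nat.card P = 9) :
    ∃ w : AltFin, ∀ x ∈ P, w * x * w⁻¹ ∈ P ∧ w * (w * x * w⁻¹) * w⁻¹ = x⁻¹ := by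
  classical
  haveI : Fact (Nat.Prime 3) := ⟨Nat.prime_three⟩
  obtain ⟨ha3, hb3, hab, hb, hwa, hwb⟩ := fourW_spec
  have hcard : Nat.card AltFin = 2520 := by
    haveI : Nontrivial (Fin 7) := inferInstance
    rw [Nat.card_eq_fintype_card, card_alternatingGroup, Fintype.card_fin]
    norm_num [Nat.factorial]
  have hfac : (2520 : ℕ).factorization 3 = 2 := by
    rw [show (2520 : ℕ) = 3 ^ 2 * 280 by norm_num,
      Nat.factorization_mul (by norm_num) (by norm_num)]
    rw [Finsupp.add_apply, Nat.Prime.factorization_pow Nat.prime_three, Finsupp.single_eq_same,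
      Nat.factorization_eq_zero_of_not_dvd (by norm_num)]
  let P' : Sylow 3 AltFin := Sylow.ofCard P (by rw [hP, hcard, hfac]; norm_num)
  set Q := Subgroup.closure ({threeA, threeB} : Set AltFin) with hQ
  have hcomm : ∀ u ∈ Q, ∀ v ∈ Q, Commute u v := by
    have : Q ≤ Subgroup.centralizer (Q : Set AltFin) := by
      rw [hQ, Subgroup.closure_le]
      intro u hu
      rw [SetLike.mem_coe, Subgroup.mem_centralizer_iff]
      intro v hv
      induction hv using Subgroup.closure_induction with
      | mem x hx =>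
        simp only [Set.mem_insert_iff, Set.mem_singleton_iff] at hx hu
        rcases hx with rfl | rfl <;> rcases hu with rfl | rfl <;>
          first | rfl | exact hab | exact hab.symm
      | one => simp
      | mul x y _ _ hx hy => rw [mul_assoc, hy, ← mul_assoc, hx, mul_assoc]
      | inv x _ hx => exact (Commute.inv_left (show Commute x u from hx)).eq
    exact fun u hu v hv => (Subgroup.mem_centralizer_iff.1 (this hu) v hv).symm
  have hQ3 : IsPGroup 3 Q := by
    intro u
    refine ⟨1, Subtype.ext ?_⟩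
    rw [pow_one, Subgroup.coe_pow, Subgroup.coe_one]
    obtain ⟨u, hu⟩ := u
    induction hu using Subgroup.closure_induction with
    | mem x hx =>
      simp only [Set.mem_insert_iff, Set.mem_singleton_iff] at hx
      rcases hx with rfl | rfl <;> assumption
    | one => simp
    | mul x y hx hy hx' hy' => rw [(hcomm x hx y hy).mul_pow, hx', hy', one_mul]
    | inv x _ hx' => rw [inv_pow, hx', inv_one]
  obtain ⟨R, hR⟩ := hQ3.exists_le_sylow
  obtain ⟨g, hg⟩ := MulAction.exists_smul_eq AltFin R P'
  have hmemPR : ∀ x ∈ P, g⁻¹ * x * g ∈ (R : Subgroup AltFin) := by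
    intro x hx
    have hx' : x ∈ (P' : Subgroup AltFin) := hx
    rw [← hg, Sylow.coe_subgroup_smul] at hx'
    obtain ⟨r, hr, hrx⟩ := Subgroup.mem_map.1 hx'
    have : g * r * g⁻¹ = x := hrx
    rw [← this]
    simpa [mul_assoc] using hr
  have hRQ : (R : Subgroup AltFin) = Q := by
    refine (Subgroup.eq_of_le_of_card_ge hR ?_).symm
    have hRc : Nat.card R = 9 := by
      rw [R.card_eq_multiplicity, hcard, hfac]; norm_num
    rw [hRc]
    have hA : threeA ≠ 1 := fun h => hb (by
      have h' := hwa
      rw [h, mul_one, mul_inv_cancel] at h'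
      rw [← h']; simp)
    have hlt : Subgroup.zpowers threeA < Q := by
      refine lt_of_le_of_ne (Subgroup.zpowers_le.2 (Subgroup.subset_closure (by simp))) fun e => ?_
      have hbQ : threeB ∈ Subgroup.zpowers threeA := e.symm ▸ Subgroup.subset_closure (by simp)
      have := (isOfFinOrder_of_finite threeA).mem_zpowers_iff_mem_range_orderOf.1 hbQ
      rw [orderOf_eq_prime ha3 hA] at this
      simp [Finset.range_add_one, pow_two] at this
      simp at hb
      tauto
    obtain ⟨k, hk⟩ := hQ3.exists_card_eq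
    have h1 := Set.Finite.card_lt_card (Set.toFinite _) hlt
    change Nat.card (Subgroup.zpowers threeA) < Nat.card Q at h1
    rw [Nat.card_zpowers, orderOf_eq_prime ha3 hA, hk] at h1
    rw [hk]
    rcases k with _ | _ | k
    · simp at h1
    · simp at h1
    · calc 9 = 3 ^ 2 := by norm_num
        _ ≤ 3 ^ (k + 1 + 1) := Nat.pow_le_pow_right (by norm_num) (by omega)
  have hw : ∀ u ∈ Q, fourW * u * fourW⁻¹ ∈ Q ∧ fourW * (fourW * u * fourW⁻¹) * fourW⁻¹ = u⁻¹ := by
    intro u hu
    induction hu using Subgroup.closure_induction with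
    | mem x hx =>
      simp only [Set.mem_insert_iff, Set.mem_singleton_iff] at hx
      rcases hx with rfl | rfl
      · exact ⟨hwa ▸ Subgroup.subset_closure (by simp), by rw [hwa, hwb]⟩
      · refine ⟨hwb ▸ inv_mem (Subgroup.subset_closure (by simp)), ?_⟩
        rw [hwb, show fourW * threeA⁻¹ * fourW⁻¹ = (fourW * threeA * fourW⁻¹)⁻¹ by group, hwa]
    | one => simp
    | mul x y hx hy hx' hy' =>
      refine ⟨by have := mul_mem hx'.1 hy'.1; rwa [conj_mul] at this, ?_⟩
      rw [mul_inv_rev, ← ((hcomm _ (inv_mem hx) _ (inv_mem hy))).eq, ← hx'.2, ← hy'.2]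
      group
    | inv x _ hx' =>
      refine ⟨by simpa [mul_assoc] using inv_mem hx'.1, ?_⟩
      rw [show fourW * (fourW * x⁻¹ * fourW⁻¹) * fourW⁻¹
        = (fourW * (fourW * x * fourW⁻¹) * fourW⁻¹)⁻¹ by simp [mul_inv_rev, mul_assoc], hx'.2]
  refine ⟨g * fourW * g⁻¹, fun x hx => ?_⟩
  obtain ⟨h1, h2⟩ := hw _ (hRQ ▸ hmemPR x hx)
  refine ⟨?_, ?_⟩
  · have hxP : g * (fourW * (g⁻¹ * x * g) * fourW⁻¹) * g⁻¹ ∈ (P' : Subgroup AltFin) := by
      rw [← hg, Sylow.coe_subgroup_smul, hRQ]
      exact ⟨_, h1, rfl⟩
    have e : g * fourW * g⁻¹ * x * (g * fourW * g⁻¹)⁻¹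
        = g * (fourW * (g⁻¹ * x * g) * fourW⁻¹) * g⁻¹ := by group
    exact e ▸ hxP
  · calc g * fourW * g⁻¹ * (g * fourW * g⁻¹ * x * (g * fourW * g⁻¹)⁻¹) * (g * fourW * g⁻¹)⁻¹
        = g * (fourW * (fourW * (g⁻¹ * x * g) * fourW⁻¹) * fourW⁻¹) * g⁻¹ := by group
      _ = x⁻¹ := by rw [h2]; group

end Cfsg.Agent.H65.GW
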