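import Mathlib

/-!
# An involutive automorphism of a group of odd order: fixed and inverted elements
-/

set_option autoImplicit false
set_option linter.unusedSectionVars false
set_option linter.style.haveILetI false

namespace Cfsg.Agent.H65.GW

variable {W : Type*} [Group W] [Finite W] {σ : W ≃* W}

/-- `σ` is an automorphism with trivial square of a group of odd order. -/
structure IsInvol (σ : W ≃* W) : Prop where
  odd : Odd (Nat.card W)
  invol : ∀ x, σ (σ x) = x

/-- At most three inverted elements commute with a nontrivial fixed element. -/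
def Bound (σ : W ≃* W) : Prop :=
  ∀ z, σ z = z → z ≠ 1 → {x | σ x = x⁻¹ ∧ Commute x z}.ncard ≤ 3

/-- No nontrivial fixed element is central. -/
def CentralFree (σ : W ≃* W) : Prop :=
  ∀ z, σ z = z → (∀ p, Commute z p) → z = 1

/-- The fixed subgroup. -/
def fixedBy (σ : W ≃* W) : Subgroup W := MonoidHom.eqLocus σ.toMonoidHom (MonoidHom.id W)

omit [Finite W] in
theorem mem_fixedBy {x : W} : x ∈ fixedBy σ ↔ σ x = x := Iff.rfl

theorem IsInvol.odd_orderOf (h : IsInvol σ) (x : W) : Odd (orderOf x) :=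
  h.odd.of_dvd_nat (orderOf_dvd_natCard x)

/-- A square root in the cyclic group generated by the element. -/
theorem exists_pow_sq (hodd : Odd (Nat.card W)) (x : W) : ∃ r : ℕ, x ^ r * x ^ r = x := by
  obtain ⟨m, hm⟩ := hodd.of_dvd_nat (orderOf_dvd_natCard x)
  refine ⟨m + 1, ?_⟩
  rw [← pow_add, show m + 1 + (m + 1) = (2 * m + 1) + 1 by omega, ← hm, pow_succ, pow_orderOf_eq_one,
    one_mul]

theorem eq_one_of_mul_self (hodd : Odd (Nat.card W)) {x : W} (hx : x * x = 1) : x = 1 := by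
  obtain ⟨r, hr⟩ := exists_pow_sq hodd x
  rw [← hr, ← pow_add, ← two_mul, pow_mul, pow_two, hx, one_pow]

theorem commute_of_sq (hodd : Odd (Nat.card W)) {x z : W} (h : Commute (x * x) z) : Commute x z := by
  obtain ⟨r, hr⟩ := exists_pow_sq hodd x
  rw [← hr, ← (Commute.refl x).mul_pow]
  exact h.pow_left r

/-- If `x` and `x⁻¹` act alike on `z`, then `x` centralises `z`. -/
theorem commute_of_conj_eq (hodd : Odd (Nat.card W)) {x z : W}
    (h : x * z * x⁻¹ = x⁻¹ * z * x) : Commute x z := by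
  refine commute_of_sq hodd ?_
  show x * x * z = z * (x * x)
  calc x * x * z = x * (x * z * x⁻¹) * x := by group
    _ = x * (x⁻¹ * z * x) * x := by rw [h]
    _ = z * (x * x) := by group

omit [Finite W] in
theorem inv_apply_of_inverted {x : W} (hx : σ x = x⁻¹) : σ x⁻¹ = x := by rw [map_inv, hx, inv_inv]

omit [Finite W] in
theorem pow_inverted {x : W} (hx : σ x = x⁻¹) (k : ℕ) : σ (x ^ k) = (x ^ k)⁻¹ := by
  rw [map_pow, hx, inv_pow]

omit [Finite W] in
theorem zpow_inverted {x : W} (hx : σ x = x⁻¹) (k : ℤ) : σ (x ^ k) = (x ^ k)⁻¹ := by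
  rw [map_zpow, hx, inv_zpow]

theorem IsInvol.comm_inverted (h : IsInvol σ) (w : W) :
    σ (w⁻¹ * σ w) = (w⁻¹ * σ w)⁻¹ := by
  rw [map_mul, map_inv, h.invol, mul_inv_rev, inv_inv]

theorem IsInvol.eq_one_of_fixed_inverted (h : IsInvol σ) {x : W} (h1 : σ x = x) (h2 : σ x = x⁻¹) :
    x = 1 :=
  eq_one_of_mul_self h.odd (mul_eq_one_iff_eq_inv.2 (h1.symm.trans h2))

/-- Every element is a fixed element times an inverted one. -/
theorem IsInvol.decomp (h : IsInvol σ) {A : Subgroup W} (hA : ∀ a ∈ A, σ a ∈ A) {w : W} (hw : w ∈ A) :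
    ∃ y ∈ A, ∃ x ∈ A, σ y = y ∧ σ x = x⁻¹ ∧ w = y * x := by
  set u := (σ w)⁻¹ * w with hu
  have huA : u ∈ A := mul_mem (inv_mem (hA w hw)) hw
  have hinv : σ u = u⁻¹ := by rw [hu, map_mul, map_inv, h.invol, mul_inv_rev, inv_inv]
  obtain ⟨r, hr⟩ := exists_pow_sq h.odd u
  refine ⟨w * (u ^ r)⁻¹, mul_mem hw (inv_mem (pow_mem huA r)), u ^ r, pow_mem huA r, ?_,
    pow_inverted hinv r, by rw [inv_mul_cancel_right]⟩
  rw [map_mul, inv_apply_of_inverted (pow_inverted hinv r)]
  rw [eq_mul_inv_iff_mul_eq, mul_assoc, hr, hu, mul_inv_cancel_left]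

/-- A subgroup without nontrivial inverted elements is fixed. -/
theorem IsInvol.fixed_of_no_inverted (h : IsInvol σ) {A : Subgroup W} (hA : ∀ a ∈ A, σ a ∈ A)
    (h0 : ∀ x ∈ A, σ x = x⁻¹ → x = 1) {a : W} (ha : a ∈ A) : σ a = a := by
  obtain ⟨y, -, x, hxA, hy, hx, rfl⟩ := h.decomp hA ha
  rw [h0 x hxA hx, mul_one, hy]

/-- A subgroup without nontrivial fixed elements is inverted. -/
theorem IsInvol.inverted_of_no_fixed (h : IsInvol σ) {A : Subgroup W} (hA : ∀ a ∈ A, σ a ∈ A)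
    (h0 : ∀ x ∈ A, σ x = x → x = 1) {a : W} (ha : a ∈ A) : σ a = a⁻¹ := by
  obtain ⟨y, hyA, x, -, hy, hx, rfl⟩ := h.decomp hA ha
  rw [h0 y hyA hy, one_mul, hx]

/-- An inverted subgroup is commutative. -/
theorem commute_of_inverted_subgroup {A : Subgroup W} (hA : ∀ a ∈ A, σ a = a⁻¹) {a b : W}
    (ha : a ∈ A) (hb : b ∈ A) : Commute a b := by
  have e := hA _ (mul_mem (inv_mem ha) (inv_mem hb))
  rw [map_mul, inv_apply_of_inverted (hA a ha), inv_apply_of_inverted (hA b hb), mul_inv_rev,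
    inv_inv, inv_inv] at e
  exact e

/-- A normal invariant subgroup of fixed elements is centralised by every inverted element. -/
theorem IsInvol.commute_fixed_normal (h : IsInvol σ) {K : Subgroup W} [K.Normal]
    (hK : ∀ k ∈ K, σ k = k) {x : W} (hx : σ x = x⁻¹) {k : W} (hk : k ∈ K) : Commute x k := by
  refine commute_of_conj_eq h.odd ?_
  have := hK _ (Subgroup.Normal.conj_mem ‹K.Normal› k hk x)
  rw [map_mul, map_mul, map_inv, hx, hK k hk, inv_inv] at this
  exact this.symm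

theorem Bound.pow_three {x z : W} (h : IsInvol σ) (hB : Bound σ) (hz : σ z = z) (hz1 : z ≠ 1)
    (hx : σ x = x⁻¹) (hc : Commute x z) : x ^ 3 = 1 := by
  have hsub : (Subgroup.zpowers x : Set W) ⊆ {y | σ y = y⁻¹ ∧ Commute y z} := by
    rintro _ ⟨k, rfl⟩
    exact ⟨zpow_inverted hx k, hc.zpow_left k⟩
  have hle := (Set.ncard_le_ncard hsub).trans (hB z hz hz1)
  rw [← Nat.card_coe_set_eq, SetLike.coe_sort_coe, Nat.card_zpowers] at hle
  obtain ⟨m, hm⟩ := h.odd_orderOf x
  refine orderOf_dvd_iff_pow_eq_one.1 ?_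
  rcases Nat.eq_zero_or_pos m with rfl | hm0
  · rw [hm]; exact one_dvd _
  · rw [hm, show m = 1 by omega]; norm_num

theorem Bound.mem_zpowers {x y z : W} (h : IsInvol σ) (hB : Bound σ) (hz : σ z = z) (hz1 : z ≠ 1)
    (hx : σ x = x⁻¹) (hc : Commute x z) (hx1 : x ≠ 1) (hy : σ y = y⁻¹) (hcy : Commute y z) :
    y ∈ Subgroup.zpowers x := by
  by_contra hyx
  have hsub : insert y (Subgroup.zpowers x : Set W) ⊆ {u | σ u = u⁻¹ ∧ Commute u z} := by
    rintro u (rfl | ⟨k, rfl⟩)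
    · exact ⟨hy, hcy⟩
    · exact ⟨zpow_inverted hx k, hc.zpow_left k⟩
  have hle := (Set.ncard_le_ncard hsub).trans (hB z hz hz1)
  rw [Set.ncard_insert_of_notMem (by exact hyx), ← Nat.card_coe_set_eq, SetLike.coe_sort_coe,
    Nat.card_zpowers] at hle
  have h3 : orderOf x = 3 := by
    haveI : Fact (Nat.Prime 3) := ⟨Nat.prime_three⟩
    exact orderOf_eq_prime (hB.pow_three h hz hz1 hx hc) hx1
  omega

theorem Bound.card_le {z : W} (hB : Bound σ) (hz : σ z = z) (hz1 : z ≠ 1) {A : Subgroup W}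
    (hA : ∀ a ∈ A, σ a = a⁻¹ ∧ Commute a z) : Nat.card A ≤ 3 := by
  rw [← SetLike.coe_sort_coe, Nat.card_coe_set_eq]
  exact (Set.ncard_le_ncard fun a ha => hA a ha).trans (hB z hz hz1)

/-- The restriction to an invariant subgroup. -/
def restrict (h : IsInvol σ) (A : Subgroup W) (hA : ∀ a ∈ A, σ a ∈ A) : A ≃* A where
  toFun a := ⟨σ a, hA a a.2⟩
  invFun a := ⟨σ a, hA a a.2⟩
  left_inv a := Subtype.ext (h.invol a)
  right_inv a := Subtype.ext (h.invol a)
  map_mul' a b := Subtype.ext (map_mul σ (a : W) b)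

theorem restrict_apply (h : IsInvol σ) {A : Subgroup W} (hA : ∀ a ∈ A, σ a ∈ A) (a : A) :
    (restrict h A hA a : W) = σ a := rfl

theorem IsInvol.restrict_invol (h : IsInvol σ) {A : Subgroup W} (hA : ∀ a ∈ A, σ a ∈ A) :
    IsInvol (restrict h A hA) :=
  ⟨h.odd.of_dvd_nat (Subgroup.card_subgroup_dvd_card A), fun a => Subtype.ext (h.invol a)⟩

theorem Bound.restrict (hB : Bound σ) (h : IsInvol σ) {A : Subgroup W} (hA : ∀ a ∈ A, σ a ∈ A) :
    Bound (GW.restrict h A hA) := by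
  intro z hz hz1
  rw [← Set.ncard_image_of_injective _ Subtype.val_injective]
  refine le_trans (Set.ncard_le_ncard ?_)
    (hB (z : W) (congrArg Subtype.val hz) fun e => hz1 (Subtype.ext e))
  rintro _ ⟨x, ⟨hx, hc⟩, rfl⟩
  exact ⟨congrArg Subtype.val hx, congrArg Subtype.val hc.eq⟩

omit [Finite W] in
theorem mem_of_characteristic {K : Subgroup W} [hK : K.Characteristic] (φ : W ≃* W) {k : W}
    (hk : k ∈ K) : φ k ∈ K :=
  Subgroup.mem_comap.1 ((hK.fixed φ).ge hk)

end Cfsg.Agent.H65.GW
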