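import Cfsg.Agent.H65.GW.InvPGroup
import Cfsg.Agent.Cores.Fitting
import Cfsg.Agent.Coprime.Centralize
import Cfsg.Agent.S0205

/-!
# Groups of odd order with an involutive automorphism with small centralisers of fixed elements

If no nontrivial fixed element is central, at most three inverted elements commute with each
nontrivial fixed element, and the automorphism acts nontrivially on every proper characteristic
quotient, then there are no fixed elements, up to one configuration of order 27.
-/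

set_option autoImplicit false
set_option linter.unusedSectionVars false
set_option linter.style.haveILetI false

namespace Cfsg.Agent.H65.GW

open Subgroup
open scoped commutatorElement

variable {W : Type*} [Group W] [Finite W] {σ : W ≃* W}

/-- `σ` acts nontrivially on every proper characteristic quotient. -/
def NoTrivialQuot (σ : W ≃* W) : Prop :=
  ∀ K : Subgroup W, K.Characteristic → (∀ w, w⁻¹ * σ w ∈ K) → K = ⊤

/-- An automorphism of odd order prime to three of a group of order dividing nine is trivial. -/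
theorem aut_eq_one_of_card_dvd_nine {T : Type*} [Group T] [Finite T] (hT : Nat.card T ∣ 9)
    (α : MulAut T) {n : ℕ} (hn : α ^ n = 1) (hcop : Nat.Coprime n 6) : α = 1 := by
  by_contra hne
  obtain ⟨r, hr, hrd⟩ := Nat.exists_prime_and_dvd (n := orderOf α)
    (fun h => hne (orderOf_eq_one_iff.1 h))
  haveI := Fact.mk hr
  have hrn : r ∣ n := hrd.trans (orderOf_dvd_of_pow_eq_one hn)
  set β := α ^ (orderOf α / r) with hβ
  have hβr : orderOf β = r := orderOf_pow_orderOf_div (orderOf_pos α).ne' hrd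
  let F : Subgroup T := MonoidHom.eqLocus β.toMonoidHom (MonoidHom.id T)
  have hmod : Nat.card T ≡ Nat.card F [MOD r] := by
    have hp : IsPGroup r (zpowers β) := IsPGroup.of_card (n := 1) (by rw [Nat.card_zpowers, hβr, pow_one])
    have h1 := hp.card_modEq_card_fixedPoints T
    have e : MulAction.fixedPoints (zpowers β) T = (F : Set T) := by
      ext x
      rw [MulAction.mem_fixedPoints]
      constructor
      · intro h
        exact h ⟨β, mem_zpowers β⟩
      · rintro h ⟨γ, hγ⟩
        obtain ⟨k, rfl⟩ := mem_zpowers_iff.1 hγ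
        have hx : β • x = x := h
        show β ^ k • x = x
        exact (MulAction.fixedBy_subset_fixedBy_zpow T β k) hx
    rwa [e] at h1
  have hF : F ≠ ⊤ := fun h => by
    have : β = 1 := MulEquiv.ext fun x => (h ▸ mem_top x : x ∈ F)
    rw [this, orderOf_one] at hβr
    exact hr.one_lt.ne hβr
  have h9 : ∀ d, d ∣ 9 → d = 1 ∨ d = 3 ∨ d = 9 := fun d hd => by
    have := Nat.le_of_dvd (by norm_num) hd
    interval_cases d <;> simp_all
  have hr5 : 5 ≤ r := by
    have h2 := hr.two_le
    have h6 : Nat.Coprime r 6 := hcop.coprime_dvd_left hrn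
    by_contra hlt
    interval_cases r <;> simp_all (config := {decide := true})
  have hdvd := Subgroup.card_subgroup_dvd_card F
  have hlt : Nat.card F ≠ Nat.card T := fun h => hF (Subgroup.eq_top_of_card_eq F h)
  have hle : Nat.card F ≤ Nat.card T := Nat.le_of_dvd Nat.card_pos hdvd
  have hd : r ∣ Nat.card T - Nat.card F := (Nat.modEq_iff_dvd' hle).1 hmod.symm
  rcases h9 _ hT with h1 | h1 | h1 <;> rcases h9 _ (hdvd.trans hT) with h2 | h2 | h2 <;>
    rw [h1, h2] at hd hlt hle <;>
    first
      | omega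
      | (have := Nat.le_of_dvd (by norm_num) hd; interval_cases r <;> simp_all (config := {decide := true}))

/-- Such an automorphism moves no coset of a characteristic subgroup of index dividing nine. -/
theorem apply_mul_inv_mem {P : Type*} [Group P] [Finite P] (N : Subgroup P) [N.Normal]
    (hidx : N.index ∣ 9) (φ : MulAut P) (hN : N.map φ.toMonoidHom = N) {n : ℕ} (hn : φ ^ n = 1)
    (hcop : Nat.Coprime n 6) (p : P) : φ p * p⁻¹ ∈ N := by
  set α : MulAut (P ⧸ N) := QuotientGroup.congr N N φ hN with hα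
  have hmk : ∀ x : P, α (QuotientGroup.mk' N x) = QuotientGroup.mk' N (φ x) := fun x => rfl
  have hpow : ∀ k, ∀ x : P, (α ^ k) (QuotientGroup.mk' N x) = QuotientGroup.mk' N ((φ ^ k) x) := by
    intro k
    induction k with
    | zero => intro x; rfl
    | succ k ih =>
      intro x
      rw [pow_succ', pow_succ', MulAut.mul_apply, ih, hmk]
      rfl
  have hα1 : α = 1 := aut_eq_one_of_card_dvd_nine (show Nat.card (P ⧸ N) ∣ 9 from hidx) α (n := n)
    (MulEquiv.ext fun q => by
      obtain ⟨x, rfl⟩ := QuotientGroup.mk'_surjective N q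
      rw [hpow, hn]; rfl) hcop
  rw [← QuotientGroup.eq_one_iff]
  show QuotientGroup.mk' N (φ p * p⁻¹) = 1
  rw [map_mul, map_inv, ← hmk, hα1]
  simp

theorem coprime_six_of {n : ℕ} (hodd : Odd n) (h3 : ¬ 3 ∣ n) : Nat.Coprime n 6 := by
  rw [show (6 : ℕ) = 2 * 3 by norm_num]
  exact Nat.Coprime.mul_right (Nat.coprime_two_right.2 hodd)
    ((Nat.Prime.coprime_iff_not_dvd Nat.prime_three).2 h3).symm

/-- No nontrivial normal subgroup consists of fixed elements. -/
theorem normal_fixed_eq_bot (h : IsInvol σ) (hB : Bound σ) (hZ : CentralFree σ)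
    (hq : NoTrivialQuot σ) (K : Subgroup W) [K.Normal] (hK : ∀ k ∈ K, σ k = k) : K = ⊥ := by
  refine (Subgroup.eq_bot_iff_forall _).2 fun z hz => ?_
  by_contra hz1
  have hcz : ∀ x, σ x = x⁻¹ → Commute x z := fun x hx => h.commute_fixed_normal hK hx hz
  have hdec := fun w => h.decomp (A := ⊤) (fun a _ => mem_top _) (mem_top w)
  -- every inverted element is central
  have hcen : ∀ x, σ x = x⁻¹ → ∀ p, Commute x p := by
    intro x hx p
    by_cases hx1 : x = 1
    · rw [hx1]; exact Commute.one_left p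
    haveI : Fact (Nat.Prime 3) := ⟨Nat.prime_three⟩
    have hx3 : orderOf x = 3 := orderOf_eq_prime (hB.pow_three h (hK z hz) hz1 hx (hcz x hx)) hx1
    have hmem : ∀ u, σ u = u⁻¹ → u ∈ zpowers x := fun u hu =>
      hB.mem_zpowers h (hK z hz) hz1 hx (hcz x hx) hx1 hu (hcz u hu)
    have hy : ∀ y, σ y = y → Commute x y := by
      intro y hy
      have hu : σ (y * x * y⁻¹) = (y * x * y⁻¹)⁻¹ := by
        rw [map_mul, map_mul, map_inv, hy, hx]; group
      obtain ⟨k, hk⟩ := mem_zpowers_iff.1 (hmem _ hu)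
      have hk' : x ^ k = x ^ (k % 3) := by
        conv_lhs => rw [← zpow_mod_orderOf, hx3]
        norm_num
      have h0 := Int.emod_nonneg k (show (3 : ℤ) ≠ 0 by norm_num)
      have h3' := Int.emod_lt_of_pos k (show (0 : ℤ) < 3 by norm_num)
      rw [hk'] at hk
      obtain hm | hm | hm : k % 3 = 0 ∨ k % 3 = 1 ∨ k % 3 = 2 := by omega
      all_goals rw [hm] at hk
      · exact absurd (conj_eq_one_iff.1 (hk.symm.trans (zpow_zero x))) hx1
      · exact (mul_inv_eq_iff_eq_mul.1 (hk.symm.trans (zpow_one x))).symm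
      · have hxi : x⁻¹ = x ^ (2 : ℤ) := by
          rw [eq_comm, zpow_two, ← mul_eq_one_iff_eq_inv, ← pow_two, ← pow_succ, show (2 : ℕ) + 1 = orderOf x from hx3.symm, pow_orderOf_eq_one]
        have e1 : y * x * y⁻¹ = x⁻¹ := hk.symm.trans hxi.symm
        have e2 : Commute (y * y) x := by
          show y * y * x = x * (y * y)
          have : y * x⁻¹ * y⁻¹ = x := by rw [show y * x⁻¹ * y⁻¹ = (y * x * y⁻¹)⁻¹ by group, e1, inv_inv]
          calc y * y * x = y * (y * x * y⁻¹) * y := by group
            _ = (y * x⁻¹ * y⁻¹) * (y * y) := by rw [e1]; group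
            _ = x * (y * y) := by rw [this]
        exact (commute_of_sq (h.odd) e2).symm
    obtain ⟨y, -, u, -, hyf, hu, rfl⟩ := hdec p
    obtain ⟨k, hk⟩ := mem_zpowers_iff.1 (hmem u hu)
    exact (hy y hyf).mul_right (hk ▸ (Commute.refl x).zpow_right k)
  have hZW : center W = ⊤ := hq (center W) inferInstance fun w =>
    mem_center_iff.2 fun p => ((hcen _ (h.comm_inverted w)) p).symm.eq
  exact hz1 (hZ z (hK z hz) fun p => mem_center_iff.1 (hZW ▸ mem_top p) z)

/-- The induced automorphism of a characteristic quotient. -/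
noncomputable def quotAut (σ : W ≃* W) (P : Subgroup W) [P.Characteristic] : W ⧸ P ≃* W ⧸ P :=
  QuotientGroup.congr P P σ (by
    exact Subgroup.characteristic_iff_map_eq.1 ‹P.Characteristic› σ)

theorem quotAut_mk (P : Subgroup W) [P.Characteristic] (w : W) :
    quotAut σ P (QuotientGroup.mk' P w) = QuotientGroup.mk' P (σ w) := rfl

/-- If every inverted element is a 3-element then `σ` is trivial modulo the 3-core. -/
theorem mem_pCore_of_three (h : IsInvol σ)
    (h3 : ∀ x, σ x = x⁻¹ → ∃ k, x ^ 3 ^ k = 1) (w : W) : w⁻¹ * σ w ∈ Cfsg.pCore 3 W := by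
  haveI : Fact (Nat.Prime 3) := ⟨Nat.prime_three⟩
  set P := Cfsg.pCore 3 W with hP
  set Q := W ⧸ P
  set ρ := quotAut σ P with hρ
  have hQodd : Odd (Nat.card Q) := h.odd.of_dvd_nat (Subgroup.card_quotient_dvd_card P)
  have hρI : IsInvol ρ := ⟨hQodd, fun q => by
    obtain ⟨x, rfl⟩ := QuotientGroup.mk'_surjective P q
    rw [hρ, quotAut_mk, quotAut_mk, h.invol]⟩
  haveI : Group.IsSolvable Q := S0205.result hQodd
  -- inverted elements of the quotient are 3-elements
  have hinv3 : ∀ q : Q, ρ q = q⁻¹ → ∃ k, q ^ 3 ^ k = 1 := by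
    intro q hq
    obtain ⟨u, rfl⟩ := QuotientGroup.mk'_surjective P q
    obtain ⟨k, hk⟩ := h3 (u * (σ u)⁻¹) (by rw [map_mul, map_inv, h.invol, mul_inv_rev, inv_inv])
    refine ⟨k, eq_one_of_mul_self hQodd ?_⟩
    have e := congrArg (QuotientGroup.mk' P) hk
    rw [map_pow, map_mul, map_inv, map_one, ← quotAut_mk (σ := σ), ← hρ, hq, inv_inv,
      ← pow_two, ← pow_mul, mul_comm, pow_mul, pow_two] at e
    exact e
  have hF : ∀ f ∈ Cfsg.fittingSubgroup Q, ρ f = f := by
    intro f hf
    refine hρI.fixed_of_no_inverted (fun a ha => mem_of_characteristic ρ ha) (fun x hx hxi => ?_) hf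
    obtain ⟨k, hk⟩ := hinv3 x hxi
    have hp : IsPGroup 3 (zpowers x) := by
      obtain ⟨j, -, hj⟩ := (Nat.dvd_prime_pow Nat.prime_three).1 (orderOf_dvd_of_pow_eq_one hk)
      exact IsPGroup.of_card (n := j) (by rw [Nat.card_zpowers, hj])
    have := Cores.le_pCore_of_le_sup (q := 3) hp ((zpowers_le.2 hx).trans (by
      rw [Cores.iSup_pCore_eq_fittingSubgroup]; exact Cores.iSup_pCore_le_sup 3))
    rw [Cores.pCore_quotient_pCore, Subgroup.zpowers_le, mem_bot] at this
    exact this
  have hall : ∀ q : Q, ρ q = q⁻¹ → q = 1 := by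
    intro q hq
    have hqC : q ∈ centralizer (Cfsg.fittingSubgroup Q : Set Q) := mem_centralizer_iff.2 fun f hf =>
      (hρI.commute_fixed_normal hF hq hf).symm.eq
    exact hρI.eq_one_of_fixed_inverted (hF q (Cores.centralizer_fittingSubgroup_le hqC)) hq
  rw [← QuotientGroup.eq_one_iff]
  exact hall _ (by
    show ρ (QuotientGroup.mk' P (w⁻¹ * σ w)) = (QuotientGroup.mk' P (w⁻¹ * σ w))⁻¹
    rw [hρ, quotAut_mk, h.comm_inverted, map_inv])

/-- The main lemma. -/
theorem core_cases (h : IsInvol σ) (hB : Bound σ) (hZ : CentralFree σ) (hq : NoTrivialQuot σ) :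
    (∀ z, σ z = z → z = 1) ∨ (IsPGroup 3 W ∧ Residue σ) := by
  haveI : Fact (Nat.Prime 3) := ⟨Nat.prime_three⟩
  haveI : Group.IsSolvable W := S0205.result h.odd
  have hN := fun (K : Subgroup W) (hn : K.Normal) (hK : ∀ k ∈ K, σ k = k) =>
    (haveI := hn; normal_fixed_eq_bot h hB hZ hq K hK)
  set F := Cfsg.fittingSubgroup W with hF
  have hσF : ∀ f ∈ F, σ f ∈ F := fun f hf => mem_of_characteristic σ hf
  by_cases hA : ∀ f ∈ F, σ f = f → f = 1
  · -- the Fitting subgroup is inverted
    left
    have hFinv : ∀ f ∈ F, σ f = f⁻¹ := fun f hf => h.inverted_of_no_fixed hσF hA hf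
    have hin : ∀ x, σ x = x⁻¹ → x ∈ F := by
      intro x hx
      refine Cores.centralizer_fittingSubgroup_le (mem_centralizer_iff.2 fun f hf => ?_)
      have := hFinv _ ((inferInstance : F.Normal).conj_mem f hf x)
      rw [map_mul, map_mul, map_inv, hx, hFinv f hf, inv_inv] at this
      have e2 : x⁻¹ * f⁻¹ * x = x * f⁻¹ * x⁻¹ := by rw [this]; group
      have := (commute_of_conj_eq h.odd e2.symm).inv_right
      rw [inv_inv] at this
      exact this.eq.symm
    have hFt : F = ⊤ := hq F inferInstance fun w => hin _ (h.comm_inverted w)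
    exact fun z hz => hA z (hFt ▸ mem_top z) hz
  push Not at hA
  obtain ⟨z₀, hz₀F, hz₀, hz₀1⟩ := hA
  -- a fixed element of prime order
  obtain ⟨r, hr, hrd⟩ := Nat.exists_prime_and_dvd (n := orderOf z₀)
    (fun e => hz₀1 (orderOf_eq_one_iff.1 e))
  haveI := Fact.mk hr
  set z := z₀ ^ (orderOf z₀ / r) with hzdef
  have hzo : orderOf z = r := orderOf_pow_orderOf_div (orderOf_pos z₀).ne' hrd
  have hz : σ z = z := by rw [hzdef, map_pow, hz₀]
  have hz1 : z ≠ 1 := fun e => hr.one_lt.ne (by rw [← hzo, e, orderOf_one])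
  have hzR : z ∈ Cfsg.pCore r W := by
    have hp : IsPGroup r (zpowers z) := IsPGroup.of_card (n := 1) (by rw [Nat.card_zpowers, hzo, pow_one])
    refine Subgroup.zpowers_le.1 (Cores.le_pCore_of_le_sup (q := r) hp ((zpowers_le.2 ?_).trans
      (show F ≤ _ by rw [hF, Cores.iSup_pCore_eq_fittingSubgroup]; exact Cores.iSup_pCore_le_sup r)))
    exact pow_mem hz₀F _
  -- inverted elements of `q`-power order commuting with `z` are trivial for `q ≠ 3`
  have hkill : ∀ {q : ℕ} [Fact q.Prime], q ≠ 3 → ∀ {A : Subgroup W}, IsPGroup q A →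
      ∀ {x : W}, x ∈ A → σ x = x⁻¹ → Commute x z → x = 1 := by
    intro q hq' hq3 A hA x hxA hx hc
    by_contra hx1
    have h3 : orderOf x = 3 := orderOf_eq_prime (hB.pow_three h hz hz1 hx hc) hx1
    obtain ⟨k, hk⟩ := (IsPGroup.iff_orderOf.1 hA) ⟨x, hxA⟩
    rw [Subgroup.orderOf_mk, h3] at hk
    rcases k with _ | k
    · simp at hk
    · exact hq3 ((Nat.prime_dvd_prime_iff_eq hq'.out Nat.prime_three).1 (hk ▸ dvd_pow_self q (Nat.succ_ne_zero k)))
  have hr3 : r = 3 := by
    by_contra hr3
    set R := Cfsg.pCore r W with hR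
    set Z := (center R).map R.subtype with hZdef
    haveI : Z.Characteristic := inferInstance
    have hZfix : ∀ c ∈ Z, σ c = c := fun c hc =>
      h.fixed_of_no_inverted (fun a ha => mem_of_characteristic σ ha) (fun x hx hxi => by
        obtain ⟨x', hx', rfl⟩ := hx
        exact hkill hr3 Cores.pCore_isPGroup x'.2 hxi
          (congrArg Subtype.val (mem_center_iff.1 hx' ⟨z, hzR⟩)).symm) hc
    have hZbot := hN Z inferInstance hZfix
    haveI : Nontrivial R := ⟨⟨z, hzR⟩, 1, fun e => hz1 (congrArg Subtype.val e)⟩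
    haveI := (Cores.pCore_isPGroup (p := r) (G := W)).center_nontrivial
    rw [hZdef, Subgroup.map_eq_bot_iff_of_injective _ R.subtype_injective] at hZbot
    exact (Subgroup.nontrivial_iff_ne_bot _).1 inferInstance hZbot
  subst hr3
  set P := Cfsg.pCore 3 W with hP
  have hPg : IsPGroup 3 P := Cores.pCore_isPGroup
  -- the Fitting subgroup is the 3-core
  have hFP : F = P := by
    refine le_antisymm ?_ (Cores.pCore_le_fittingSubgroup Nat.prime_three)
    rw [hF, Cores.iSup_pCore_eq_fittingSubgroup]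
    refine iSup_le fun q => ?_
    by_cases hq3 : (q : ℕ) = 3
    · rw [hq3]
    haveI := Fact.mk q.2
    have hcomm : ∀ a ∈ Cfsg.pCore (q : ℕ) W, Commute a z := fun a ha =>
      Subgroup.commute_of_normal_of_disjoint _ _ inferInstance inferInstance
        (IsPGroup.disjoint_of_ne (q : ℕ) 3 hq3 _ _ Cores.pCore_isPGroup hPg) a z ha hzR
    have hbot : Cfsg.pCore (q : ℕ) W = ⊥ := hN _ inferInstance fun a ha =>
      h.fixed_of_no_inverted (fun a ha => mem_of_characteristic σ ha)
        (fun x hx hxi => hkill hq3 Cores.pCore_isPGroup hx hxi (hcomm x hx)) ha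
    rw [hbot]; exact bot_le
  have hCP : centralizer (P : Set W) ≤ P := hFP ▸ Cores.centralizer_fittingSubgroup_le
  have hσP : ∀ p ∈ P, σ p ∈ P := fun p hp => mem_of_characteristic σ hp
  -- elements of order prime to six centralising `P` are trivial
  have hC6 : ∀ m : W, Nat.Coprime (orderOf m) 6 → m ∈ centralizer (P : Set W) → m = 1 := by
    intro m hm hmC
    obtain ⟨k, hk⟩ := (IsPGroup.iff_orderOf.1 hPg) ⟨m, hCP hmC⟩
    rw [Subgroup.orderOf_mk] at hk
    refine orderOf_eq_one_iff.1 (Nat.Coprime.eq_one_of_dvd ?_ (hk.trans rfl ▸ dvd_rfl : orderOf m ∣ 3 ^ k))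
    exact (Nat.Coprime.coprime_dvd_right (show 3 ∣ 6 by norm_num) hm).pow_right k
  have hnormP : ∀ A : Subgroup W, A ≤ normalizer (P : Set W) := fun A => by
    rw [Subgroup.normalizer_eq_top]; exact le_top
  have hcopP : ∀ m : W, Nat.Coprime (orderOf m) 6 → (Nat.card (zpowers m)).Coprime (Nat.card P) := by
    intro m hm
    obtain ⟨k, hk⟩ := hPg.exists_card_eq
    rw [Nat.card_zpowers, hk]
    exact (Nat.Coprime.coprime_dvd_right (show 3 ∣ 6 by norm_num) hm).pow_right k
  -- the 3'-part
  have hpart : ∀ x : W, ∃ a, Nat.Coprime (orderOf (x ^ 3 ^ a)) 6 := by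
    intro x
    obtain ⟨a, m, hm, hxm⟩ := Nat.exists_eq_pow_mul_and_not_dvd (orderOf_pos x).ne' 3 (by norm_num)
    refine ⟨a, ?_⟩
    rw [orderOf_pow_of_dvd (by positivity) ⟨m, hxm⟩, hxm, Nat.mul_div_cancel_left _ (by positivity)]
    exact coprime_six_of (h.odd_orderOf x |>.of_dvd_nat ⟨3 ^ a, by rw [hxm]; ring⟩) hm
  by_cases hi : ∃ y ∈ P, σ y = y ∧ y ≠ 1 ∧ ∀ p ∈ P, Commute y p
  · -- a fixed element in the centre of `P`
    left
    obtain ⟨y, hyP, hy, hy1, hyc⟩ := hi
    set Zp := (center P).map P.subtype with hZp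
    haveI : Zp.Characteristic := inferInstance
    have hZpmem : ∀ {c}, c ∈ Zp → c ∈ P ∧ ∀ p ∈ P, Commute c p := by
      rintro _ ⟨c', hc', rfl⟩
      exact ⟨c'.2, fun p hp => (congrArg Subtype.val (mem_center_iff.1 hc' ⟨p, hp⟩)).symm⟩
    obtain ⟨i, hiZ, hii, hi1⟩ : ∃ i ∈ Zp, σ i = i⁻¹ ∧ i ≠ 1 := by
      by_contra hc
      push Not at hc
      have hfix : ∀ c ∈ Zp, σ c = c := fun c hc' =>
        h.fixed_of_no_inverted (fun a ha => mem_of_characteristic σ ha) hc hc'
      have hy' : y ∈ Zp := ⟨⟨y, hyP⟩, mem_center_iff.2 fun p => Subtype.ext (hyc p p.2).symm.eq, rfl⟩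
      rw [hN Zp inferInstance hfix, mem_bot] at hy'
      exact hy1 hy'
    obtain ⟨hiP, hicomm⟩ := hZpmem hiZ
    have hinvP : ∀ x ∈ P, σ x = x⁻¹ → x ∈ zpowers i := fun x hx hxi =>
      hB.mem_zpowers h hy hy1 hii (hyc i hiP).symm hi1 hxi (hyc x hx).symm
    have hi3 : i ^ 3 = 1 := hB.pow_three h hy hy1 hii (hyc i hiP).symm
    have hdec : ∀ p ∈ P, ∃ a ∈ P, σ a = a ∧ ∃ b ∈ zpowers i, p = a * b := fun p hp => by
      obtain ⟨a, ha, b, hb, haf, hbi, rfl⟩ := h.decomp hσP hp
      exact ⟨a, ha, haf, b, hinvP b hb hbi, rfl⟩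
    have hbc : ∀ b ∈ zpowers i, ∀ p ∈ P, Commute b p := by
      rintro _ ⟨k, rfl⟩ p hp
      exact (hicomm p hp).zpow_left k
    -- `P` is elementary abelian
    have hab : ∀ p ∈ P, ∀ q ∈ P, Commute p q := by
      have hfix : ∀ k ∈ ⁅P, P⁆, σ k = k := by
        have : ⁅P, P⁆ ≤ fixedBy σ := by
          rw [Subgroup.commutator_le]
          intro p hp q hq
          obtain ⟨a, haP, ha, b, hb, rfl⟩ := hdec p hp
          obtain ⟨a', haP', ha', b', hb', rfl⟩ := hdec q hq
          have c1 := hbc b hb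
          have c2 := hbc b' hb'
          have e2 : ⁅a * b, a' * b'⁆ = ⁅a, a'⁆ := by
            have hbP : b' ∈ P := zpowers_le.2 hiP hb'
            simp only [commutatorElement_def, mul_inv_rev]
            calc a * b * (a' * b') * (b⁻¹ * a⁻¹) * (b'⁻¹ * a'⁻¹)
                = a * (b * a') * b' * b⁻¹ * a⁻¹ * b'⁻¹ * a'⁻¹ := by group
              _ = a * a' * ((b * b') * b⁻¹) * a⁻¹ * b'⁻¹ * a'⁻¹ := by rw [(c1 a' haP').eq]; group
              _ = a * a' * (b' * a⁻¹) * b'⁻¹ * a'⁻¹ := by rw [(c1 b' hbP).eq]; group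
              _ = a * a' * a⁻¹ * a'⁻¹ := by rw [(c2 a⁻¹ (inv_mem haP)).eq]; group
          rw [e2, mem_fixedBy, map_commutatorElement, ha, ha']
        exact fun k hk => this hk
      have hbot := hN ⁅P, P⁆ inferInstance hfix
      intro p hp q hq
      have := Subgroup.commutator_mem_commutator hp hq
      rw [hbot, mem_bot] at this
      exact commutatorElement_eq_one_iff_commute.1 this
    -- inverted elements are 3-elements
    have h3 : ∀ x, σ x = x⁻¹ → ∃ k, x ^ 3 ^ k = 1 := by
      intro x hx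
      obtain ⟨a, hm⟩ := hpart x
      refine ⟨a, hC6 _ hm ?_⟩
      set m := x ^ 3 ^ a
      set Y1 := fixedBy σ ⊓ P
      set Yx := Y1.comap (MulAut.conj x).toMonoidHom
      set K := Y1 ⊓ Yx with hK
      have hxK : ∀ p ∈ K, Commute x p := by
        intro p hp
        refine commute_of_conj_eq h.odd ?_
        have h1 : σ p = p := hp.1.1
        have h2 : σ (x * p * x⁻¹) = x * p * x⁻¹ := hp.2.1
        rw [map_mul, map_mul, map_inv, hx, h1, inv_inv] at h2
        exact h2.symm
      have hY13 : ∀ p ∈ P, ∃ j : Fin 3, p * (i ^ (j : ℕ))⁻¹ ∈ Y1 := by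
        intro p hp
        obtain ⟨a, haP, ha, b, ⟨k, hk⟩, rfl⟩ := hdec p hp
        refine ⟨⟨(k % 3).toNat, by
          have := Int.emod_lt_of_pos k (show (0 : ℤ) < 3 by norm_num)
          omega⟩, ?_⟩
        have hb' : b = i ^ (k % 3).toNat := by
          rw [← hk, ← zpow_natCast, Int.toNat_of_nonneg (Int.emod_nonneg k (by norm_num))]
          show i ^ k = i ^ (k % 3)
          conv_lhs => rw [← Int.emod_add_mul_ediv k 3, zpow_add, zpow_mul,
            show i ^ (3 : ℤ) = 1 by exact_mod_cast hi3, one_zpow, mul_one]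
        show a * b * (i ^ (k % 3).toNat)⁻¹ ∈ Y1
        rw [hb', mul_inv_cancel_right]
        exact ⟨ha, haP⟩
      set K' := K.subgroupOf P
      haveI : K'.Normal := ⟨fun k hk g => by
        have : g * k * g⁻¹ = k := Subtype.ext (by
          push_cast
          rw [(hab g g.2 k k.2).eq, mul_inv_cancel_right])
        rwa [this]⟩
      have hidx : K'.index ∣ 9 := by
        have hle : K'.index ≤ 9 := by
          have h1 : (Y1.subgroupOf P).index ≤ 3 := by
            have := Nat.card_le_card_of_surjective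
              (fun j : Fin 3 => (QuotientGroup.mk (s := Y1.subgroupOf P)
                (⟨i ^ (j : ℕ), pow_mem hiP _⟩ : P))) (fun q => by
              obtain ⟨⟨p, hp⟩, rfl⟩ := QuotientGroup.mk_surjective q
              obtain ⟨j, hj⟩ := hY13 p hp
              refine ⟨j, QuotientGroup.eq.2 ?_⟩
              show (i ^ (j : ℕ))⁻¹ * p ∈ Y1
              rwa [((hbc _ (inv_mem (pow_mem (mem_zpowers i) _))) p hp).eq])
            simpa [Subgroup.index] using this
          have h2 : (Yx.subgroupOf P).index ≤ 3 := by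
            refine le_trans (le_of_eq ?_) h1
            let φ : MulAut P := MulAut.conjNormal x
            have : Yx.subgroupOf P = (Y1.subgroupOf P).comap φ.toMonoidHom := by
              ext p
              show x * (p : W) * x⁻¹ ∈ Y1 ↔ ((φ p : P) : W) ∈ Y1
              rw [MulAut.conjNormal_apply]
            rw [this]; exact Subgroup.index_comap_of_surjective _ φ.surjective
          have hKe : K' = Y1.subgroupOf P ⊓ Yx.subgroupOf P := rfl
          rw [hKe]
          exact Subgroup.index_inf_le.trans (Nat.mul_le_mul h1 h2)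
        obtain ⟨k, hk⟩ := hPg.index K'
        rw [hk] at hle ⊢
        rcases k with _ | _ | _ | k
        · exact one_dvd _
        · norm_num
        · norm_num
        · exfalso
          have : 3 ^ 3 ≤ 3 ^ (k + 1 + 1 + 1) := Nat.pow_le_pow_right (by norm_num) (by omega)
          omega
      have hKcen : zpowers m ≤ centralizer (K : Set W) := zpowers_le.2 (mem_centralizer_iff.2
        fun p hp => ((hxK p hp).pow_left _).symm.eq)
      refine Coprime.le_centralizer_of_commutator_le (N := K) (hnormP _) (hcopP m hm) ?_ hKcen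
        (mem_zpowers m)
      rw [Subgroup.commutator_le]
      intro p hp b hb
      let φ : MulAut P := MulAut.conjNormal b
      have hφn : φ ^ orderOf m = 1 := by
        rw [← map_pow]
        obtain ⟨k, rfl⟩ := mem_zpowers_iff.1 hb
        rw [← zpow_natCast, ← zpow_mul, mul_comm, zpow_mul, zpow_natCast, pow_orderOf_eq_one, one_zpow,
          map_one]
      have hmap : K'.map φ.toMonoidHom = K' := by
        have hfix : ∀ q ∈ K', φ q = q := fun q hq => Subtype.ext (by
          rw [MulAut.conjNormal_apply, ← mem_centralizer_iff.1 (hKcen hb) (q : W) hq,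
            mul_inv_cancel_right])
        ext q
        constructor
        · rintro ⟨q', hq', rfl⟩
          show φ q' ∈ K'
          rwa [hfix q' hq']
        · exact fun hq' => ⟨q, hq', hfix q hq'⟩
      have hmem : ((φ ⟨p, hp⟩ * (⟨p, hp⟩ : P)⁻¹ : P) : W) ∈ K :=
        apply_mul_inv_mem K' hidx φ hmap hφn hm ⟨p, hp⟩
      rw [Subgroup.coe_mul, Subgroup.coe_inv, MulAut.conjNormal_apply] at hmem
      have := inv_mem hmem
      rw [commutatorElement_def]
      convert this using 1
      group
    have hPt : P = ⊤ := hq P inferInstance (mem_pCore_of_three h h3)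
    exact absurd (hZ y hy fun p => hyc p (hPt ▸ mem_top p)) hy1
  · -- no fixed element in the centre of `P`: then `W` is a 3-group
    push Not at hi
    have hBP := hB.restrict h hσP
    have hZP : CentralFree (restrict h P hσP) := fun c hc hcc => by
      by_contra hc1
      obtain ⟨p, hp, hnc⟩ := hi c c.2 (congrArg Subtype.val hc) fun e => hc1 (Subtype.ext e)
      exact hnc (congrArg Subtype.val (hcc ⟨p, hp⟩).eq)
    obtain ⟨hΦ, -⟩ := pgroup_cases hPg (h.restrict_invol hσP) hBP hZP
      ⟨⟨z, hzR⟩, Subtype.ext hz, fun e => hz1 (congrArg Subtype.val e)⟩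
    have hW3 : IsPGroup 3 W := by
      intro x
      obtain ⟨a, hm⟩ := hpart x
      refine ⟨a, hC6 _ hm ?_⟩
      set m := x ^ 3 ^ a
      refine Coprime.le_centralizer_of_frattini (hnormP _)
        ((hcopP m hm).coprime_dvd_right (Subgroup.card_subgroup_dvd_card _)) ?_ (mem_zpowers m)
      intro b hb p hp
      let φ : MulAut P := MulAut.conjNormal b
      have hφn : φ ^ orderOf m = 1 := by
        rw [← map_pow]
        obtain ⟨k, rfl⟩ := mem_zpowers_iff.1 hb
        rw [← zpow_natCast, ← zpow_mul, mul_comm, zpow_mul, zpow_natCast, pow_orderOf_eq_one, one_zpow,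
          map_one]
      refine ⟨φ ⟨p, hp⟩ * (⟨p, hp⟩ : P)⁻¹, apply_mul_inv_mem _ hΦ φ
        (Subgroup.characteristic_iff_map_eq.1 inferInstance φ) hφn hm ⟨p, hp⟩, ?_⟩
      show ((φ ⟨p, hp⟩ : P) : W) * p⁻¹ = b * p * b⁻¹ * p⁻¹
      rw [MulAut.conjNormal_apply]
    rcases (pgroup_cases hW3 h hB hZ ⟨z, hz, hz1⟩).2 with hres | ⟨Q, hQc, hQne, hQ⟩
    · exact Or.inr ⟨hW3, hres⟩
    · exact absurd (hq Q hQc hQ) hQne

end Cfsg.Agent.H65.GW
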