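import Cfsg.Agent.H65.GW.InvBasic
import Cfsg.Agent.PGroups.Basic

/-!
# 3-groups with an involutive automorphism whose fixed elements have small centralisers
-/

set_option autoImplicit false
set_option linter.unusedSectionVars false
set_option linter.style.haveILetI false

namespace Cfsg.Agent.H65.GW

open Subgroup
open scoped commutatorElement

variable {P : Type*} [Group P] [Finite P] {σ : P ≃* P}

/-- The exceptional configuration: order 27. -/
def Residue (σ : P ≃* P) : Prop :=
  Nat.card P = 27 ∧ Nat.card (center P) = 3 ∧ Nat.card (fixedBy σ) = 3 ∧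
    ∃ e, σ e = e ∧ e ≠ 1 ∧ Nat.card (centralizer ({e} : Set P)) = 9

/-- In a 3-group a subgroup of index at most three is of index dividing three. -/
theorem index_dvd_three (hP : IsPGroup 3 P) {N : Subgroup P} (h : N.index ≤ 3) : N.index ∣ 3 := by
  haveI : Fact (Nat.Prime 3) := ⟨Nat.prime_three⟩
  obtain ⟨k, hk⟩ := hP.index N
  rw [hk] at h ⊢
  rcases k with _ | _ | k
  · exact one_dvd _
  · exact dvd_rfl
  · exfalso
    have : 3 ^ 2 ≤ 3 ^ (k + 1 + 1) := Nat.pow_le_pow_right (by norm_num) (by omega)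
    omega

/-- The commutator with an element of the second centre, as a homomorphism to the centre. -/
noncomputable def secondHom {u : P} (hu : u ∈ Subgroup.upperCentralSeriesStep (center P)) : P →* center P :=
  MonoidHom.mk' (fun p => ⟨p * u * p⁻¹ * u⁻¹, by
      have := hu p
      rw [commutatorElement_def] at this
      have h2 := inv_mem this
      have h3 : (u * p * u⁻¹ * p⁻¹)⁻¹ = p * u * p⁻¹ * u⁻¹ := by group
      rwa [h3] at h2⟩)
    fun p q => Subtype.ext <| by
      have hq : q * u * q⁻¹ * u⁻¹ ∈ center P := by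
        have := inv_mem (hu q)
        rw [commutatorElement_def] at this
        have h3 : (u * q * u⁻¹ * q⁻¹)⁻¹ = q * u * q⁻¹ * u⁻¹ := by group
        rwa [h3] at this
      show p * q * u * (p * q)⁻¹ * u⁻¹ = (p * u * p⁻¹ * u⁻¹) * (q * u * q⁻¹ * u⁻¹)
      rw [mem_center_iff.1 hq (p * u * p⁻¹ * u⁻¹)]
      calc p * q * u * (p * q)⁻¹ * u⁻¹ = p * (q * u * q⁻¹ * u⁻¹) * (u * p⁻¹ * u⁻¹) := by group
        _ = (q * u * q⁻¹ * u⁻¹) * p * (u * p⁻¹ * u⁻¹) := by rw [mem_center_iff.1 hq p]
        _ = (q * u * q⁻¹ * u⁻¹) * (p * u * p⁻¹ * u⁻¹) := by group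

theorem mem_secondHom_ker {u : P} (hu : u ∈ Subgroup.upperCentralSeriesStep (center P)) {p : P} :
    p ∈ (secondHom hu).ker ↔ Commute p u := by
  rw [MonoidHom.mem_ker, Subtype.ext_iff]
  show p * u * p⁻¹ * u⁻¹ = 1 ↔ _
  constructor
  · intro h
    exact mul_inv_eq_iff_eq_mul.1 (mul_inv_eq_one.1 h)
  · intro h
    rw [h.eq, mul_inv_cancel_right, mul_inv_cancel]

/-- A 3-group with small centralisers of fixed elements and no central fixed element. -/
theorem pgroup_cases (hP : IsPGroup 3 P) (h : IsInvol σ) (hB : Bound σ) (hZ : CentralFree σ)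
    (hfix : ∃ z, σ z = z ∧ z ≠ 1) :
    (frattini P).index ∣ 9 ∧
      (Residue σ ∨ ∃ Q : Subgroup P, Q.Characteristic ∧ Q ≠ ⊤ ∧ ∀ p, p⁻¹ * σ p ∈ Q) := by
  haveI : Fact (Nat.Prime 3) := ⟨Nat.prime_three⟩
  set Z := center P with hZdef
  have hσZ : ∀ c ∈ Z, σ c ∈ Z := fun c hc => mem_of_characteristic σ hc
  have hcomm : ∀ {c : P}, c ∈ Z → ∀ p, Commute c p := fun {c} hc p => (mem_center_iff.1 hc p).symm
  have hZinv : ∀ c ∈ Z, σ c = c⁻¹ := fun c hc =>
    h.inverted_of_no_fixed hσZ (fun y hy hyf => hZ y hyf (hcomm hy)) hc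
  obtain ⟨e₀, he₀, he₀1⟩ := hfix
  haveI : Nontrivial P := ⟨e₀, 1, he₀1⟩
  have hZle : Nat.card Z ≤ 3 := hB.card_le he₀ he₀1 fun c hc => ⟨hZinv c hc, hcomm hc e₀⟩
  have hZne : Z ≠ ⊥ := by
    haveI := hP.center_nontrivial
    exact (Subgroup.nontrivial_iff_ne_bot _).1 inferInstance
  have hZ3 : Nat.card Z = 3 := by
    obtain ⟨k, hk⟩ := (hP.to_subgroup Z).exists_card_eq
    rcases k with _ | _ | k
    · exact absurd (Subgroup.eq_bot_of_card_eq _ (by simpa using hk)) hZne
    · simpa using hk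
    · exfalso
      have : 3 ^ 2 ≤ 3 ^ (k + 1 + 1) := Nat.pow_le_pow_right (by norm_num) (by omega)
      omega
  have hnc : ∀ e, σ e = e → e ≠ 1 → ∃ p, ¬ Commute e p := by
    intro e he he1
    by_contra hc
    push Not at hc
    exact he1 (hZ e he hc)
  -- a central element of order three
  obtain ⟨i, hiZ, hi1⟩ : ∃ i ∈ Z, i ≠ (1 : P) := by
    by_contra hc
    push Not at hc
    exact hZne ((Subgroup.eq_bot_iff_forall _).2 hc)
  set Z2 := Subgroup.upperCentralSeriesStep Z with hZ2def
  haveI : Z2.Characteristic := inferInstance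
  have hσZ2 : ∀ c ∈ Z2, σ c ∈ Z2 := fun c hc => mem_of_characteristic σ hc
  by_cases hA : ∃ e ∈ Z2, σ e = e ∧ e ≠ 1
  · -- case A
    obtain ⟨e, heZ2, he, he1⟩ := hA
    set M1 := (secondHom heZ2).ker with hM1
    have hM1mem : ∀ {p}, p ∈ M1 ↔ Commute p e := mem_secondHom_ker heZ2
    have hσM1 : ∀ p ∈ M1, σ p ∈ M1 := fun p hp => hM1mem.2 (by
      have := (hM1mem.1 hp).map σ.toMonoidHom
      simpa [he] using this)
    have hidx : M1.index = 3 := by
      have hle : M1.index ≤ 3 := by
        rw [hM1, Subgroup.index_ker]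
        exact (Subgroup.card_le_card_group _).trans hZle
      rcases (Nat.dvd_prime Nat.prime_three).1 (index_dvd_three hP hle) with h1 | h1
      · obtain ⟨p, hp⟩ := hnc e he he1
        rw [Subgroup.index_eq_one] at h1
        exact absurd (hM1mem.1 (h1 ▸ mem_top p)).symm hp
      · exact h1
    have hY : ∀ y, σ y = y → y ∈ M1 := by
      intro y hy
      refine hM1mem.2 ?_
      have hc : (secondHom heZ2 y : P) ∈ Z := (secondHom heZ2 y).2
      have e1 : σ (secondHom heZ2 y : P) = secondHom heZ2 y := by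
        show σ (y * e * y⁻¹ * e⁻¹) = y * e * y⁻¹ * e⁻¹
        simp [hy, he]
      exact (mem_secondHom_ker heZ2).1 (MonoidHom.mem_ker.2 (Subtype.ext (hZ _ e1 (hcomm hc))))
    have hxM1 : ∀ x ∈ M1, σ x = x⁻¹ → x ∈ Z := by
      intro x hx hxi
      exact Subgroup.zpowers_le.2 hiZ
        (hB.mem_zpowers h he he1 (hZinv i hiZ) (hcomm hiZ e) hi1 hxi (hM1mem.1 hx))
    -- commutativity
    have hcomY : ∀ a b, σ a = a → σ b = b → Commute a b := by
      intro a b ha hb
      set K := ⁅M1, M1⁆ with hK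
      have hKfix : ∀ k ∈ K, σ k = k := by
        have : K ≤ fixedBy σ := by
          rw [hK, Subgroup.commutator_le]
          intro p hp q hq
          obtain ⟨y, -, x, hxm, hy, hx, rfl⟩ := h.decomp hσM1 hp
          obtain ⟨y', -, x', hxm', hy', hx', rfl⟩ := h.decomp hσM1 hq
          have c1 := hcomm (hxM1 x hxm hx)
          have c2 := hcomm (hxM1 x' hxm' hx')
          have e2 : ⁅y * x, y' * x'⁆ = ⁅y, y'⁆ := by
            simp only [commutatorElement_def, mul_inv_rev]
            calc y * x * (y' * x') * (x⁻¹ * y⁻¹) * (x'⁻¹ * y'⁻¹)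
                = y * (x * y') * x' * x⁻¹ * y⁻¹ * x'⁻¹ * y'⁻¹ := by group
              _ = y * y' * ((x * x') * x⁻¹) * y⁻¹ * x'⁻¹ * y'⁻¹ := by rw [(c1 y').eq]; group
              _ = y * y' * (x' * y⁻¹) * x'⁻¹ * y'⁻¹ := by rw [(c1 x').eq]; group
              _ = y * y' * y⁻¹ * y'⁻¹ := by rw [(c2 y⁻¹).eq]; group
          rw [e2, mem_fixedBy, map_commutatorElement, hy, hy']
        exact fun k hk => this hk
      haveI : M1.Normal := MonoidHom.normal_ker _
      haveI : K.Normal := Subgroup.commutator_normal M1 M1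
      have hKbot : K = ⊥ := by
        by_contra hne
        obtain ⟨⟨k, hk⟩, hk1'⟩ :=
          Subgroup.ne_bot_iff_exists_ne_one.1 (PGroups.inf_center_ne_bot hP K hne)
        have hk1 : k ≠ 1 := fun e => hk1' (Subtype.ext e)
        exact hk1 (hZ k (hKfix k hk.1) (hcomm hk.2))
      have := Subgroup.commutator_mem_commutator (hY a ha) (hY b hb)
      rw [← hK, hKbot, mem_bot] at this
      exact commutatorElement_eq_one_iff_commute.1 this
    -- an inverted element outside
    obtain ⟨f, hf, hfM⟩ : ∃ f, σ f = f⁻¹ ∧ f ∉ M1 := by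
      by_contra hc
      push Not at hc
      have : M1 = ⊤ := eq_top_iff.2 fun w _ => by
        obtain ⟨y, -, x, -, hy, hx, rfl⟩ := h.decomp (A := ⊤) (fun a _ => mem_top _) (mem_top w)
        exact mul_mem (hY y hy) (hc x hx)
      rw [this, Subgroup.index_top] at hidx
      omega
    haveI : M1.Normal := MonoidHom.normal_ker _
    set Y := fixedBy σ with hYdef
    set Yf := Y.comap (MulAut.conj f).toMonoidHom with hYf
    have hinf : Y ⊓ Yf = ⊥ := by
      refine (Subgroup.eq_bot_iff_forall _).2 fun y hy => ?_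
      have hy1 : σ y = y := hy.1
      have hy2 : σ (f * y * f⁻¹) = f * y * f⁻¹ := hy.2
      have hfy : Commute f y := by
        refine commute_of_conj_eq h.odd ?_
        rw [map_mul, map_mul, map_inv, hf, hy1, inv_inv] at hy2
        exact hy2.symm
      refine hZ y hy1 fun p => ?_
      have hCle : M1 ≤ centralizer ({y} : Set P) := by
        intro m hm
        obtain ⟨y', -, x, hxm, hy', hx, rfl⟩ := h.decomp hσM1 hm
        exact mem_centralizer_singleton_iff.2
          ((hcomY y' y hy' hy1).mul_left ((hcomm (hxM1 x hxm hx)) y)).eq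
      have hd := Subgroup.index_dvd_of_le hCle
      rw [hidx] at hd
      rcases (Nat.dvd_prime Nat.prime_three).1 hd with h1 | h1
      · rw [Subgroup.index_eq_one] at h1
        exact (mem_centralizer_singleton_iff.1 (h1 ▸ mem_top p : p ∈ centralizer ({y} : Set P))).symm
      · exfalso
        have hEq : M1 = centralizer ({y} : Set P) :=
          Subgroup.eq_of_le_of_card_ge hCle (le_of_eq (Nat.eq_of_mul_eq_mul_right (by norm_num : 0 < 3)
            (by rw [← h1, Subgroup.card_mul_index, h1, ← hidx, Subgroup.card_mul_index])))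
        exact hfM (hEq ▸ mem_centralizer_singleton_iff.2 hfy.eq)
    -- `M1 = Y × Z`
    have hYZd : Disjoint Y Z := Subgroup.disjoint_def.2 fun {x} hx hx' => hZ x hx (hcomm hx')
    have hYle : Y ≤ M1 := fun y hy => hY y hy
    have hZM : Z ≤ M1 := fun c hc => hM1mem.2 (hcomm hc e)
    have hM1card : Nat.card M1 = Nat.card Y * 3 := by
      rw [← hZ3, ← Nat.card_prod]
      symm
      refine Nat.card_congr (Equiv.ofBijective
        (fun p : Y × Z => (⟨(p.1 : P) * p.2, mul_mem (hYle p.1.2) (hZM p.2.2)⟩ : M1)) ⟨?_, ?_⟩)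
      · exact fun a b hab => Subgroup.mul_injective_of_disjoint hYZd (congrArg Subtype.val hab)
      · rintro ⟨m, hm⟩
        obtain ⟨y, -, x, hxm, hy, hx, rfl⟩ := h.decomp hσM1 hm
        exact ⟨(⟨y, hy⟩, ⟨x, hxM1 x hxm hx⟩), rfl⟩
    have hYfM : Yf ≤ M1 := by
      intro y hy
      have h1 : f * y * f⁻¹ ∈ M1 := hYle hy
      have h2 := Subgroup.Normal.conj_mem ‹M1.Normal› _ h1 f⁻¹
      simpa [mul_assoc] using h2
    have hYfcard : Nat.card Yf = Nat.card Y := by
      rw [hYf, Subgroup.comap_equiv_eq_map_symm']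
      exact Subgroup.card_map_of_injective (MulEquiv.injective _)
    have hprod : Nat.card Y * Nat.card Yf ≤ Nat.card M1 := by
      rw [← Nat.card_prod]
      refine Nat.card_le_card_of_injective
        (fun p : Y × Yf => (⟨(p.1 : P) * p.2, mul_mem (hYle p.1.2) (hYfM p.2.2)⟩ : M1)) ?_
      exact fun a b hab => Subgroup.mul_injective_of_disjoint
        (disjoint_iff.2 hinf) (congrArg Subtype.val hab)
    have hYpos : 1 < Nat.card Y := (Subgroup.one_lt_card_iff_ne_bot _).2 fun hb =>
      he1 ((Subgroup.eq_bot_iff_forall _).1 hb e he)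
    have hY3 : Nat.card Y = 3 := by
      obtain ⟨k, hk⟩ := (hP.to_subgroup Y).exists_card_eq
      rw [hYfcard, hM1card] at hprod
      have hle : Nat.card Y ≤ 3 := Nat.le_of_mul_le_mul_left hprod (by omega)
      rcases k with _ | _ | k
      · rw [hk] at hYpos; simp at hYpos
      · simpa using hk
      · exfalso
        have : 3 ^ 2 ≤ 3 ^ (k + 1 + 1) := Nat.pow_le_pow_right (by norm_num) (by omega)
        omega
    have hPcard : Nat.card P = 27 := by
      rw [← M1.card_mul_index, hidx, hM1card, hY3]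
    have hcen : centralizer ({e} : Set P) = M1 := by
      ext p
      rw [mem_centralizer_singleton_iff]
      exact ⟨fun hp => hM1mem.2 hp, fun hp => (hM1mem.1 hp).eq⟩
    refine ⟨?_, Or.inl ⟨hPcard, hZ3, hY3, e, he, he1, by rw [hcen, hM1card, hY3]⟩⟩
    have hne : frattini P ≠ ⊥ := by
      intro hb
      obtain ⟨p, hp⟩ := hnc e he he1
      refine hp ?_
      have : ⁅e, p⁆ ∈ frattini P :=
        PGroups.commutator_le_frattini hP (Subgroup.commutator_mem_commutator (mem_top e) (mem_top p))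
      rw [hb, mem_bot] at this
      exact commutatorElement_eq_one_iff_commute.1 this
    have hmul := (frattini P).card_mul_index
    rw [hPcard] at hmul
    obtain ⟨k, hk⟩ := (hP.to_subgroup (frattini P)).exists_card_eq
    rcases k with _ | k
    · exact absurd (Subgroup.eq_bot_of_card_eq _ (by simpa using hk)) hne
    · rw [hk, pow_succ'] at hmul
      exact ⟨3 ^ k, Nat.eq_of_mul_eq_mul_left (by norm_num : 0 < 3) (by linarith [hmul])⟩
  · -- case B
    push Not at hA
    have hZ2inv : ∀ c ∈ Z2, σ c = c⁻¹ := fun c hc =>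
      h.inverted_of_no_fixed hσZ2 (fun y hy hyf => hA y hy hyf) hc
    have hZ2com : ∀ {a b}, a ∈ Z2 → b ∈ Z2 → Commute a b := fun ha hb =>
      commute_of_inverted_subgroup hZ2inv ha hb
    have hZle2 : Z ≤ Z2 := fun c hc y => by
      rw [commutatorElement_eq_one_iff_commute.2 (hcomm hc y)]; exact one_mem _
    obtain ⟨u, hu, huZ⟩ : ∃ u ∈ Z2, u ∉ Z := by
      by_contra hc
      push Not at hc
      haveI : Nontrivial (P ⧸ Z) := by
        refine QuotientGroup.nontrivial_iff.2 fun ht => ?_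
        obtain ⟨p, hp⟩ := hnc e₀ he₀ he₀1
        exact hp (hcomm (show e₀ ∈ Z from ht ▸ mem_top e₀) p)
      haveI := (hP.to_quotient Z).center_nontrivial
      obtain ⟨q, hq⟩ := exists_ne (1 : center (P ⧸ Z))
      obtain ⟨w, hw⟩ := QuotientGroup.mk'_surjective Z (q : P ⧸ Z)
      have hw2 : w ∈ Z2 := by
        rw [hZ2def, Subgroup.upperCentralSeriesStep_eq_comap_center]
        exact mem_comap.2 (hw ▸ q.2)
      refine hq (Subtype.ext ?_)
      rw [← hw]
      exact (QuotientGroup.eq_one_iff w).2 (hc w hw2)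
    set C1 := centralizer ({e₀} : Set P) ⊓ Z2 with hC1
    have hC1le : Nat.card C1 ≤ 3 := hB.card_le he₀ he₀1 fun c hc =>
      ⟨hZ2inv c hc.2, (mem_centralizer_singleton_iff.1 hc.1 : c * e₀ = e₀ * c)⟩
    -- `Z2` has order nine and is generated by the centre and `u`
    have hgen : ∀ v ∈ Z2, ∀ p, Commute p u → Commute p v := by
      have hZu : ¬ Commute e₀ u := by
        intro hc
        have hsub : Z ⊔ zpowers u ≤ C1 := by
          refine sup_le (fun c hc' => ⟨mem_centralizer_singleton_iff.2 (hcomm hc' e₀).eq, hZle2 hc'⟩)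
            (zpowers_le.2 ⟨mem_centralizer_singleton_iff.2 hc.symm.eq, hu⟩)
        have h1 : Z < Z ⊔ zpowers u := lt_of_le_of_ne le_sup_left fun e1 => huZ
          (e1.symm ▸ mem_sup_right (mem_zpowers u))
        have h2 : Nat.card Z < Nat.card (Z ⊔ zpowers u : Subgroup P) :=
          Set.Finite.card_lt_card (Set.toFinite _) h1
        have := Subgroup.card_le_of_le hsub
        omega
      intro v hv p hp
      set ψu : center P := secondHom hu e₀ with hψu
      set ψv : center P := secondHom hv e₀ with hψv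
      have hψu1 : ψu ≠ 1 := fun e1 => hZu ((mem_secondHom_ker hu).1 (MonoidHom.mem_ker.2 e1))
      have hmem : ψv ∈ zpowers ψu := by
        have : zpowers ψu = ⊤ := by
          haveI : IsSimpleGroup (center P) := isSimpleGroup_of_prime_card hZ3
          exact ((IsSimpleGroup.eq_bot_or_eq_top_of_normal (zpowers ψu)
            ⟨fun n hn g => by
              have : g * n * g⁻¹ = n := by
                apply Subtype.ext
                push_cast
                rw [(hcomm g.2 (n : P)).eq, mul_inv_cancel_right]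
              rwa [this]⟩).resolve_left fun hb => hψu1 (Subgroup.zpowers_eq_bot.1 hb))
        rw [this]; exact mem_top _
      obtain ⟨k, hk⟩ := hmem
      have hk' : ((ψu : P)) ^ k = ψv := congrArg Subtype.val hk
      -- `v u⁻ᵏ` centralises `e₀`
      have hcen : Commute e₀ (v * (u ^ k)⁻¹) := by
        have h1 : e₀ * u * e₀⁻¹ = (ψu : P) * u := by
          show _ = e₀ * u * e₀⁻¹ * u⁻¹ * u
          group
        have h2 : e₀ * v * e₀⁻¹ = (ψv : P) * v := by
          show _ = e₀ * v * e₀⁻¹ * v⁻¹ * v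
          group
        refine mul_inv_eq_iff_eq_mul.1 ?_
        have h3 : e₀ * u ^ k * e₀⁻¹ = (ψu : P) ^ k * u ^ k := by
          rw [← conj_zpow, h1, Commute.mul_zpow (hcomm ψu.2 u) k]
        calc e₀ * (v * (u ^ k)⁻¹) * e₀⁻¹ = (e₀ * v * e₀⁻¹) * (e₀ * u ^ k * e₀⁻¹)⁻¹ := by group
          _ = (ψv : P) * (v * (u ^ k)⁻¹) * (ψv : P)⁻¹ := by rw [h2, h3, hk']; group
          _ = v * (u ^ k)⁻¹ := by rw [(hcomm ψv.2 _).eq, mul_inv_cancel_right]
      have hwC : v * (u ^ k)⁻¹ ∈ C1 := ⟨mem_centralizer_singleton_iff.2 hcen.symm.eq,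
        Z2.mul_mem hv (Z2.inv_mem (Z2.zpow_mem hu k))⟩
      have hC1Z : C1 = Z := by
        refine (Subgroup.eq_of_le_of_card_ge (fun c hc' => ?_) (by omega)).symm
        exact ⟨mem_centralizer_singleton_iff.2 (hcomm hc' e₀).eq, hZle2 hc'⟩
      rw [hC1Z] at hwC
      have : Commute p ((v * (u ^ k)⁻¹) * u ^ k) := ((hcomm hwC p).symm).mul_right (hp.zpow_right k)
      rwa [inv_mul_cancel_right] at this
    set Q := centralizer (Z2 : Set P) with hQ
    have hQmem : ∀ {p}, p ∈ Q ↔ ∀ v ∈ Z2, Commute p v := fun {p} =>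
      ⟨fun hp v hv => (mem_centralizer_iff.1 hp v hv).symm,
        fun hp => mem_centralizer_iff.2 fun v hv => (hp v hv).symm⟩
    haveI : Q.Characteristic := inferInstance
    haveI : Q.Normal := inferInstance
    have hσQ : ∀ p ∈ Q, σ p ∈ Q := fun p hp => mem_of_characteristic σ hp
    have hQidx : Q.index ≤ 3 := by
      have hle : (secondHom hu).ker ≤ Q := fun p hp =>
        hQmem.2 fun v hv => hgen v hv p ((mem_secondHom_ker hu).1 hp)
      refine (Nat.le_of_dvd (Nat.pos_of_ne_zero Subgroup.index_ne_zero_of_finite)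
        (Subgroup.index_dvd_of_le hle)).trans ?_
      rw [Subgroup.index_ker]
      exact (Subgroup.card_le_card_group _).trans hZle
    have hQfix : ∀ y ∈ Q, σ y = y → y = 1 := by
      intro y hy hyf
      by_contra hy1
      have hle : Nat.card Z2 ≤ 3 := hB.card_le hyf hy1 fun c hc =>
        ⟨hZ2inv c hc, ((hQmem.1 hy) c hc).symm⟩
      have h1 : Nat.card Z < Nat.card Z2 :=
        Set.Finite.card_lt_card (Set.toFinite _) (lt_of_le_of_ne hZle2 fun e1 => huZ (show u ∈ (Z : Set P) from e1.symm ▸ (show u ∈ (Z2 : Set P) from hu)))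
      omega
    have hQinv : ∀ q ∈ Q, σ q = q⁻¹ := fun q hq => h.inverted_of_no_fixed hσQ hQfix hq
    have he₀Q : e₀ ∉ Q := fun hq => he₀1 (hQfix e₀ hq he₀)
    have hQne : Q ≠ ⊤ := fun ht => he₀Q (ht ▸ mem_top _)
    have hQ3 : Q.index = 3 := by
      rcases (Nat.dvd_prime Nat.prime_three).1 (index_dvd_three hP hQidx) with h1 | h1
      · exact absurd (Subgroup.index_eq_one.1 h1) hQne
      · exact h1
    have hsurj : ∀ p, ∃ k : ℤ, (e₀ ^ k)⁻¹ * p ∈ Q := by
      intro p
      have : zpowers (QuotientGroup.mk' Q e₀) = ⊤ := by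
        have hc : Nat.card (P ⧸ Q) = 3 := hQ3
        haveI : IsSimpleGroup (P ⧸ Q) := isSimpleGroup_of_prime_card hc
        haveI : IsCyclic (P ⧸ Q) := isCyclic_of_prime_card (p := 3) hc
        haveI : IsMulCommutative (P ⧸ Q) := IsCyclic.isMulCommutative
        refine ((IsSimpleGroup.eq_bot_or_eq_top_of_normal (zpowers (QuotientGroup.mk' Q e₀))
          ⟨fun n hn g => by
            rw [IsMulCommutative.is_comm.comm g n, mul_inv_cancel_right]; exact hn⟩).resolve_left
            fun hb => he₀Q ((QuotientGroup.eq_one_iff e₀).1 (Subgroup.zpowers_eq_bot.1 hb)))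
      obtain ⟨k, hk⟩ := (this ▸ mem_top (QuotientGroup.mk' Q p) :
        QuotientGroup.mk' Q p ∈ zpowers (QuotientGroup.mk' Q e₀))
      refine ⟨k, ?_⟩
      rw [← QuotientGroup.eq_one_iff]
      show QuotientGroup.mk' Q ((e₀ ^ k)⁻¹ * p) = 1
      rw [map_mul, map_inv, map_zpow]
      exact inv_mul_eq_one.2 hk
    refine ⟨?_, Or.inr ⟨Q, inferInstance, hQne, fun p => ?_⟩⟩
    swap
    · obtain ⟨k, hk⟩ := hsurj p
      have e1 : σ p = e₀ ^ k * σ ((e₀ ^ k)⁻¹ * p) := by
        rw [map_mul, map_inv, map_zpow, he₀, mul_inv_cancel_left]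
      rw [e1, ← mul_assoc,
        show p⁻¹ * e₀ ^ k = ((e₀ ^ k)⁻¹ * p)⁻¹ by group]
      exact mul_mem (inv_mem hk) (hσQ _ hk)
    · -- the commutators with `e₀` on `Q`
      have hcm : ∀ q ∈ Q, e₀ * q * e₀⁻¹ * q⁻¹ ∈ Q := fun q hq =>
        mul_mem (Subgroup.Normal.conj_mem ‹Q.Normal› q hq e₀) (inv_mem hq)
      let χ : Q →* Q := MonoidHom.mk' (fun q => ⟨e₀ * q * e₀⁻¹ * (q : P)⁻¹, hcm q q.2⟩) fun a b =>
        Subtype.ext <| by
          show e₀ * (a * b : P) * e₀⁻¹ * (a * b : P)⁻¹ =
            (e₀ * a * e₀⁻¹ * (a : P)⁻¹) * (e₀ * b * e₀⁻¹ * (b : P)⁻¹)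
          have c1 : Commute (e₀ * b * e₀⁻¹ * (b : P)⁻¹) (a : P)⁻¹ :=
            commute_of_inverted_subgroup hQinv (hcm b b.2) (inv_mem a.2)
          rw [mul_assoc (e₀ * a * e₀⁻¹) (a : P)⁻¹, ← c1.eq]
          group
      have hker : Nat.card χ.ker ≤ 3 := by
        rw [← Subgroup.card_map_of_injective Q.subtype_injective]
        refine hB.card_le he₀ he₀1 ?_
        rintro _ ⟨q, hq, rfl⟩
        have := congrArg Subtype.val (MonoidHom.mem_ker.1 hq)
        exact ⟨hQinv _ q.2, (mul_inv_eq_iff_eq_mul.1 (mul_inv_eq_one.1 this) : e₀ * (q : P) = q * e₀).symm⟩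
      set R := χ.range.map Q.subtype with hR
      have hRle : R ≤ frattini P := by
        rintro _ ⟨_, ⟨q, rfl⟩, rfl⟩
        exact PGroups.commutator_le_frattini hP
          (Subgroup.commutator_mem_commutator (mem_top e₀) (mem_top (q : P)))
      have hRidx : R.index ∣ 9 := by
        have hc : Nat.card R * 9 ≥ Nat.card P := by
          rw [hR, Subgroup.card_map_of_injective Q.subtype_injective, ← Q.card_mul_index, hQ3,
            ← χ.ker.card_mul_index, Subgroup.index_ker]
          calc Nat.card χ.ker * Nat.card χ.range * 3 ≤ 3 * Nat.card χ.range * 3 :=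
                Nat.mul_le_mul_right _ (Nat.mul_le_mul_right _ hker)
            _ = Nat.card χ.range * 9 := by ring
        have hi : R.index ≤ 9 :=
          Nat.le_of_mul_le_mul_left (by rw [R.card_mul_index]; exact hc) Nat.card_pos
        obtain ⟨k, hk⟩ := hP.index R
        rw [hk] at hi ⊢
        rcases k with _ | _ | _ | k
        · exact one_dvd _
        · norm_num
        · norm_num
        · exfalso
          have : 3 ^ 3 ≤ 3 ^ (k + 1 + 1 + 1) := Nat.pow_le_pow_right (by norm_num) (by omega)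
          omega
      exact (Subgroup.index_dvd_of_le hRle).trans hRidx

end Cfsg.Agent.H65.GW
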