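import Cfsg.Agent.H65.GW.PslFacts
import Cfsg.Agent.H65.GW.AltSeven
import Cfsg.Agent.H36.GW.FusePSL
import Cfsg.Agent.H39.DihedralFusion
import Cfsg.Agent.H4.GW.Reduction

/-!
# Core-free groups of the Gorenstein–Walter shapes: odd elements centralising four groups
-/

set_option autoImplicit false
set_option linter.unusedSectionVars false
set_option linter.style.haveILetI false

namespace Cfsg.Agent.H65.GW

open Subgroup Cfsg.Agent
open Cfsg.Agent.H56 (PSLn)
open Cfsg.Agent.H63.GW (SylowDType PerfectHyp SimpleShape)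
open Cfsg.Agent.H4.GW (fieldPartHom)

universe u

theorem perm_four_centralizer (a x : Equiv.Perm (Fin 4)) (ha : a * a = 1) (ha1 : a ≠ 1)
    (hc : x * a = a * x) : x * x * (x * x) = 1 := by
  revert a x
  decide +kernel

variable {Y : Type u} [Group Y] [Finite Y]

/-- `Y` embeds in the symmetric group of degree four, or is a 2-group. -/
def SmallShape (Y : Type u) [Group Y] : Prop :=
  IsPGroup 2 Y ∨ ∃ f : Y →* Equiv.Perm (Fin 4), Function.Injective f

theorem SmallShape.odd_commute (h : SmallShape Y) {a x : Y} (ha : orderOf a = 2) (hc : Commute x a)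
    (hx : Odd (orderOf x)) : x = 1 := by
  refine orderOf_eq_one_iff.1 ?_
  rcases h with h | ⟨f, hf⟩
  · obtain ⟨k, hk⟩ := h x
    exact Nat.eq_one_of_dvd_coprimes ((Nat.coprime_two_left.2 hx).pow_left k)
      (orderOf_dvd_of_pow_eq_one hk) dvd_rfl
  · have h1 : f a ≠ 1 := fun e => by
      rw [hf (e.trans (map_one f).symm), orderOf_one] at ha
      exact absurd ha (by norm_num)
    have h2 : f a * f a = 1 := by
      rw [← map_mul, H39.mul_self_of_orderOf_eq_two ha, map_one]
    have h4 := perm_four_centralizer (f a) (f x) h2 h1 (hc.map f).eq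
    rw [← map_mul, ← map_mul] at h4
    have h5 : x ^ 4 = 1 := by
      rw [show x ^ 4 = x * x * (x * x) by rw [pow_succ, pow_succ, pow_two, mul_assoc]]
      exact hf (h4.trans (map_one f).symm)
    exact Nat.eq_one_of_dvd_coprimes ((Nat.coprime_two_right.2 hx).pow_right 2) dvd_rfl
      (orderOf_dvd_of_pow_eq_one h5)

/-- A normal subgroup containing a four group and an element cycling it has 2-power index. -/
theorem SmallShape.quotient_two (h : SmallShape Y) {t s g : Y} (ht : orderOf t = 2) (hs : orderOf s = 2)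
    (hne : t ≠ s) (hts : Commute t s) (hg1 : g * t * g⁻¹ = s) (hg2 : g * s * g⁻¹ = t * s)
    (P : Subgroup Y) [P.Normal] (htP : t ∈ P) (hsP : s ∈ P) (hgP : g ∈ P) : IsPGroup 2 (Y ⧸ P) := by
  rcases h with h | ⟨f, hf⟩
  · exact h.to_quotient P
  have hdvd : Nat.card Y ∣ 24 := by
    refine (Subgroup.card_dvd_of_injective f hf).trans ?_
    rw [Nat.card_perm, Nat.card_eq_fintype_card, Fintype.card_fin]
    norm_num [Nat.factorial]
  have htt := H39.mul_self_of_orderOf_eq_two ht
  have h3 : 3 ∣ orderOf g := by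
    have hm : g ^ 3 * t * (g ^ 3)⁻¹ = t := by
      calc g ^ 3 * t * (g ^ 3)⁻¹ = g * (g * (g * t * g⁻¹) * g⁻¹) * g⁻¹ := by
            rw [pow_succ, pow_two]; group
        _ = g * (t * s) * g⁻¹ := by rw [hg1, hg2]
        _ = (g * t * g⁻¹) * (g * s * g⁻¹) := by group
        _ = t := by rw [hg1, hg2, hts.eq, ← mul_assoc, H39.mul_self_of_orderOf_eq_two hs, one_mul]
    by_contra h3
    have hcop : Nat.Coprime 3 (orderOf g) := (Nat.Prime.coprime_iff_not_dvd Nat.prime_three).2 h3
    obtain ⟨m, hm'⟩ := exists_pow_eq_self_of_coprime (x := g) hcop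
    have hc : Commute (g ^ 3) t := mul_inv_eq_iff_eq_mul.1 hm
    have hgt : Commute g t := by rw [← hm']; exact hc.pow_left m
    rw [hgt.eq, mul_inv_cancel_right] at hg1
    exact hne hg1
  have h3P : 3 ∣ Nat.card P := h3.trans (Subgroup.orderOf_dvd_natCard P hgP)
  obtain ⟨V, hV, hVm⟩ := H39.klein_mk ht hs hne hts.eq
  have hVP : V ≤ P := fun v hv => by
    rcases (hVm v).1 hv with rfl | rfl | rfl | rfl
    exacts [one_mem _, htP, hsP, mul_mem htP hsP]
  have h4P : 4 ∣ Nat.card P := hV.card_four ▸ Subgroup.card_dvd_of_le hVP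
  have h12 : 12 ∣ Nat.card P := Nat.Coprime.mul_dvd_of_dvd_of_dvd (by norm_num : Nat.Coprime 4 3) h4P h3P
  have hidx : P.index ∣ 2 := by
    refine (Nat.mul_dvd_mul_iff_left (show 0 < 12 by norm_num)).1 ?_
    calc 12 * P.index ∣ Nat.card P * P.index := Nat.mul_dvd_mul_right h12 _
      _ ∣ 12 * 2 := by rw [P.card_mul_index]; simpa using hdvd
  rcases (Nat.dvd_prime Nat.prime_two).1 hidx with e | e
  · exact IsPGroup.of_card (n := 0) (by rw [pow_zero]; exact e)
  · exact IsPGroup.of_card (n := 1) (by rw [pow_one]; exact e)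

/-- The shapes of a core-free group with the inductive hypothesis. -/
theorem shapes (h : SylowDType Y) (hO : Cfsg.oddCore Y = ⊥) (hP : PerfectHyp Y) :
    SmallShape Y ∨
      (∃ (K : Subgroup Y) (_ : K.Normal) (F : Type) (_ : Field F) (_ : Fintype F),
        Odd (Fintype.card F) ∧ 3 < Fintype.card F ∧ centralizer (K : Set Y) = ⊥ ∧
          Nonempty (↥K ≃* PSLn 2 F)) ∨
      Nonempty (Y ≃* ↥(alternatingGroup (Fin 7))) := by
  rcases H63.GW.shape_cases h hO hP with h1 | ⟨⟨e⟩⟩ | ⟨⟨e⟩⟩ | ⟨L, hL, hsh, hC⟩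
  · exact Or.inl (Or.inl h1)
  · exact Or.inl (Or.inr ⟨(alternatingGroup (Fin 4)).subtype.comp e.toMonoidHom,
      Subtype.coe_injective.comp e.injective⟩)
  · exact Or.inl (Or.inr ⟨e.toMonoidHom, e.injective⟩)
  · haveI := hL
    rcases hsh with ⟨F, i1, i2, hodd, h3, ⟨e⟩⟩ | ⟨⟨e⟩⟩
    · exact Or.inr (Or.inl ⟨L, hL, F, i1, i2, hodd, h3, hC, ⟨e⟩⟩)
    · have htop := H4.GW.alt_shape h hC e
      subst htop
      exact Or.inr (Or.inr ⟨Subgroup.topEquiv.symm.trans e⟩)

section PSL

variable {K : Subgroup Y} [K.Normal] {F : Type} [Field F] [Fintype F] (e : ↥K ≃* PSLn 2 F)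
  (h : SylowDType Y) (hodd : Odd (Fintype.card F)) (hC : centralizer (K : Set Y) = ⊥)

include e h hodd hC

/-- An element of odd order without field part centralising a four group is trivial. -/
theorem eq_one_of_ker {a b x : Y} (ha : orderOf a = 2) (hb : orderOf b = 2) (hne : a ≠ b)
    (hab : Commute a b) (hx : x ∈ (fieldPartHom e).ker) (hxa : Commute x a) (hxb : Commute x b)
    (hxo : Odd (orderOf x)) : x = 1 := by
  have haa := H39.mul_self_of_orderOf_eq_two ha
  have hbb := H39.mul_self_of_orderOf_eq_two hb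
  have hsq : x * x = 1 → x = 1 := fun h1 => by
    have h2 := orderOf_dvd_of_pow_eq_one (x := x) (n := 2) (by rw [pow_two, h1])
    rcases (Nat.dvd_prime Nat.prime_two).1 h2 with e' | e'
    · exact orderOf_eq_one_iff.1 e'
    · rw [e'] at hxo; exact absurd hxo (by decide)
  refine hsq ?_
  rcases H36.GW.psl_centralizer_pair e h hodd hC haa (H39.ne_one_of_orderOf_eq_two ha) hbb
    (H39.ne_one_of_orderOf_eq_two hb) hne hab hx hxa hxb with r | r | r | r <;> rw [r]
  · exact mul_one 1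
  · exact haa
  · exact hbb
  · rw [mul_assoc, ← mul_assoc b, ← hab.eq, mul_assoc a b b, hbb, mul_one, haa]

/-- The product of two elements of the kernel outside `K` lies in `K`. -/
theorem mul_mem_of_not_mem {a b : Y} (ha : a ∈ (fieldPartHom e).ker) (hb : b ∈ (fieldPartHom e).ker)
    (haK : a ∉ K) (hbK : b ∉ K) : a * b ∈ K := by
  obtain ⟨A, hA⟩ := H4.GW.exists_lin e ha
  obtain ⟨B, hB⟩ := H4.GW.exists_lin e hb
  have hns : ∀ {p : Y} {P : GL (Fin 2) F}, p ∉ K → H4.GW.actHom K e p = H5.EvenCyclic.linAut P →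
      ¬ IsSquare ((Matrix.GeneralLinearGroup.det P : Fˣ) : F) := fun {p P} hp hP hs => by
    obtain ⟨c, hc⟩ := H5.EvenCyclic.exists_sq_iff.1 hs
    exact hp (H4.GW.mem_of_det_sq e hC hP hc)
  obtain ⟨r, hr⟩ := H5.EvenCyclic.exists_sq_of_not_sq hodd (hns haK hA) (hns hbK hB)
  exact H4.GW.mem_of_det_sq e hC (y := a * b) (g := A * B) (c := r)
    (by rw [map_mul, map_mul, hA, hB]) (by rw [map_mul, hr])

/-- A fused four group lies in `K`. -/
theorem mem_of_fused {t s g : Y} (ht : orderOf t = 2) (hs : orderOf s = 2) (hts : Commute t s)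
    (hg1 : g * t * g⁻¹ = s) (hg2 : g * s * g⁻¹ = t * s) : t ∈ K ∧ s ∈ K := by
  have htt := H39.mul_self_of_orderOf_eq_two ht
  have hss := H39.mul_self_of_orderOf_eq_two hs
  have hker : ∀ {v : Y}, v * v = 1 → v ∈ (fieldPartHom e).ker := fun hv =>
    MonoidHom.mem_ker.2 (H4.GW.fieldPart_involution e h hodd hC hv)
  have hn : ∀ {v : Y}, v ∈ K → g * v * g⁻¹ ∈ K := fun hv => (inferInstance : K.Normal).conj_mem _ hv g
  have hg3 : g * (t * s) * g⁻¹ = t := by
    rw [show g * (t * s) * g⁻¹ = g * t * g⁻¹ * (g * s * g⁻¹) by group, hg1, hg2, hts.eq, ← mul_assoc,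
      hss, one_mul]
  have htK : t ∈ K → t ∈ K ∧ s ∈ K := fun hm => ⟨hm, hg1 ▸ hn hm⟩
  by_cases h1 : t ∈ K
  · exact htK h1
  by_cases h2 : s ∈ K
  · exact htK (hg3 ▸ hn (hg2 ▸ hn h2))
  exact htK (hg3 ▸ hn (mul_mem_of_not_mem e h hodd hC (hker htt) (hker hss) h1 h2))

end PSL

/-- Elements of odd order centralising a four group and inverted by an involution are trivial,
except in `A₇`. -/
theorem inverted_four (h : SylowDType Y) (hO : Cfsg.oddCore Y = ⊥) (hP : PerfectHyp Y) {a b d : Y}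
    (ha : orderOf a = 2) (hb : orderOf b = 2) (hd : d * d = 1) (hne : a ≠ b) (hab : Commute a b) :
    (∀ x, Odd (orderOf x) → Commute x a → Commute x b → d * x * d⁻¹ = x⁻¹ → x = 1) ∨
      Nonempty (Y ≃* ↥(alternatingGroup (Fin 7))) := by
  rcases shapes h hO hP with h1 | ⟨K, hK, F, i1, i2, hodd, -, hC, ⟨e⟩⟩ | h1
  · exact Or.inl fun x hx hxa _ _ => h1.odd_commute ha hxa hx
  · haveI := hK
    refine Or.inl fun x hx hxa hxb hdx => ?_
    exact eq_one_of_ker e h hodd hC ha hb hne hab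
      (H4.GW.le_ker e (H62.GW.mem_of_inverted e h hodd hC hd hdx hx)) hxa hxb hx
  · exact Or.inr h1

/-- The shape above the centraliser of an involution when two classes of involutions occur. -/
theorem two_class_shape (h : SylowDType Y) (hO : Cfsg.oddCore Y = ⊥) (hP : PerfectHyp Y) {t s g : Y}
    (ht : orderOf t = 2) (hs : orderOf s = 2) (hne : t ≠ s) (hts : Commute t s)
    (hg1 : g * t * g⁻¹ = s) (hg2 : g * s * g⁻¹ = t * s)
    (hcl : ∃ v : Y, orderOf v = 2 ∧ ¬ IsConj t v) :
    ∃ N : Subgroup Y, ∃ _ : N.Normal, IsCyclic (Y ⧸ N) ∧ Odd N.index ∧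
      (∀ x a b, x ∈ N → Odd (orderOf x) → orderOf a = 2 → orderOf b = 2 → a ≠ b → Commute a b →
        Commute x a → Commute x b → x = 1) ∧
      (∀ y, Odd (orderOf y) → (∀ k, Commute k t → Commute y k) → y = 1) ∧
      (N = ⊤ → ∀ P : Subgroup Y, P.Normal → t ∈ P → s ∈ P → g ∈ P →
        ∀ x : Y, Odd (orderOf x) → x ∈ P) := by
  have htwo : ∀ P : Subgroup Y, P.Normal → ∀ n : ℕ, P.index = 2 ^ n →
      ∀ x : Y, Odd (orderOf x) → x ∈ P := by
    intro P hP n hn x hx
    haveI := hP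
    rw [← QuotientGroup.eq_one_iff, ← orderOf_eq_one_iff]
    exact Nat.eq_one_of_dvd_coprimes ((Nat.coprime_two_left.2 hx).pow_left n)
      (hn ▸ orderOf_dvd_natCard _) (orderOf_map_dvd (QuotientGroup.mk' P) x)
  rcases shapes h hO hP with h1 | ⟨K, hK, F, i1, i2, hodd, h3, hC, ⟨e⟩⟩ | ⟨⟨e⟩⟩
  · haveI : Subsingleton (Y ⧸ (⊤ : Subgroup Y)) := QuotientGroup.subsingleton_quotient_top
    refine ⟨⊤, inferInstance, isCyclic_of_subsingleton, by simp,
      fun x a b _ hx ha _ _ _ hxa _ => h1.odd_commute ha hxa hx,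
      fun y hy hc => h1.odd_commute ht (hc t (Commute.refl t)) hy, fun _ P hP htP hsP hgP => ?_⟩
    haveI := hP
    haveI : Fact (Nat.Prime 2) := ⟨Nat.prime_two⟩
    obtain ⟨n, hn⟩ := (h1.quotient_two ht hs hne hts hg1 hg2 P htP hsP hgP).exists_card_eq
    exact htwo P hP n hn
  · haveI := hK
    obtain ⟨htK, hsK⟩ := mem_of_fused e h hodd hC ht hs hts hg1 hg2
    set N := (fieldPartHom e).ker with hN
    obtain ⟨p₀, hp₀, k, hk, hcard⟩ := FiniteField.card' F
    haveI := Fact.mk hk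
    obtain ⟨ε⟩ := H56.ringAut_equiv F (show 1 ≤ (k : ℕ) from k.pos) hcard
    let q : Y ⧸ N →* RingAut F := QuotientGroup.kerLift (fieldPartHom e)
    refine ⟨N, inferInstance, isCyclic_of_injective (ε.toMonoidHom.comp q)
      (ε.injective.comp (QuotientGroup.kerLift_injective _)), ?_,
      fun x a b hx hxo ha hb hab hc hxa hxb => eq_one_of_ker e h hodd hC ha hb hab hc hx hxa hxb hxo,
      fun y hy hc => eq_one_of_centralizes e h hodd hC hy htK (H39.ne_one_of_orderOf_eq_two ht)
        (H39.mul_self_of_orderOf_eq_two ht) hsK (H39.ne_one_of_orderOf_eq_two hs)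
        (H39.mul_self_of_orderOf_eq_two hs) hts hne (fun k _ hk => hc k hk), fun hNt P hP htP _ _ => ?_⟩
    · haveI : Fact (Nat.Prime 2) := ⟨Nat.prime_two⟩
      obtain ⟨P⟩ : Nonempty (Sylow 2 Y) := inferInstance
      obtain ⟨V, hV, -⟩ := H39.klein_mk ht hs hne hts.eq
      refine Nat.not_even_iff_odd.1 fun he => P.not_dvd_index (he.two_dvd.trans
        (Subgroup.index_dvd_of_le (H4.GW.sylow_le_of_involutions h ⟨V, hV⟩ (fun y hy =>
          MonoidHom.mem_ker.2 (H4.GW.fieldPart_involution e h hodd hC hy)) P)))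
    · haveI := hP
      intro x hx
      have hsimp : IsSimpleGroup ↥K :=
        (SimpleShape.isSimpleGroup (L := ↥K) (Or.inl ⟨F, i1, i2, hodd, h3, ⟨e⟩⟩))
      rcases hsimp.eq_bot_or_eq_top_of_normal (P.subgroupOf K) inferInstance with hb | hb
      · have hmem : (⟨t, htK⟩ : K) ∈ P.subgroupOf K := mem_subgroupOf.2 htP
        rw [hb, mem_bot] at hmem
        exact absurd (congrArg Subtype.val hmem) (H39.ne_one_of_orderOf_eq_two ht)
      · exact subgroupOf_eq_top.1 hb (H62.GW.mem_of_odd e h hodd hC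
          (MonoidHom.mem_ker.1 (show x ∈ (fieldPartHom e).ker from (hNt.symm ▸ mem_top x : x ∈ N))) hx)
  · exfalso
    obtain ⟨v, hv, hnc⟩ := hcl
    refine hnc ?_
    haveI : IsSimpleGroup ↥(alternatingGroup (Fin 7)) := alternatingGroup.isSimpleGroup (by simp)
    haveI : IsSimpleGroup Y := e.isSimpleGroup_congr.2 inferInstance
    have hna : ¬ IsMulCommutative Y := fun hc => by
      rw [(hc.is_comm.comm g t), mul_inv_cancel_right] at hg1
      exact hne hg1
    obtain ⟨P⟩ : Nonempty (Sylow 2 Y) := inferInstance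
    haveI : Fact (Nat.Prime 2) := ⟨Nat.prime_two⟩
    rcases h P with hc | ⟨m, hm, ⟨eP⟩⟩
    · exfalso
      obtain ⟨V, hV, -⟩ := H39.klein_mk ht hs hne hts.eq
      obtain ⟨Q, hQ⟩ := (IsPGroup.of_card (p := 2) (n := 2) hV.card_four).exists_le_sylow (G := Y)
      haveI := hc
      haveI : IsCyclic ↥(Q : Subgroup Y) := (Sylow.equiv P Q).isCyclic.1 hc
      haveI := hV
      exact IsKleinFour.not_isCyclic (G := V)
        (isCyclic_of_injective (inclusion hQ) (inclusion_injective hQ))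
    · obtain ⟨l', c', s', -, -, hd⟩ := H39.exists_dGen (P : Subgroup Y) P.isPGroup' hm eP
      have hno : ∀ H : Subgroup Y, H.index ≠ 2 := by
        intro H hH
        rcases IsSimpleGroup.eq_bot_or_eq_top_of_normal H (normal_of_index_eq_two hH) with rfl | rfl
        · rw [index_bot] at hH
          haveI := isCyclic_of_prime_card hH
          exact hna IsCyclic.isMulCommutative
        · rw [index_top] at hH; omega
      exact (hd.isConj_z_of_no_index_two hno ht).symm.trans (hd.isConj_z_of_no_index_two hno hv)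

end Cfsg.Agent.H65.GW
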