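import Cfsg.Agent.H65.GW.TwoClassLocal
import Cfsg.Agent.H65.GW.InvCore
import Cfsg.Agent.H15.GW.LinearChar
import Cfsg.Agent.H36.GW.TorusQuot
import Cfsg.Agent.H35.GW.Kill
import Cfsg.Agent.Coprime.Generation
import Mathlib.GroupTheory.FiniteAbelian.Duality

/-!
# Gorenstein–Walter, two classes: the action of `σ` on `O(M)`
-/

set_option autoImplicit false
set_option linter.unusedSectionVars false
set_option linter.style.haveILetI false

namespace Cfsg.Agent.H65.GW

open Subgroup Cfsg.Agent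
open Cfsg.Agent.GW (Cfg TwoClass coreAt coreIn pairCore Fuses)

universe u

variable {G : Type u} [Group G] [Finite G] {S : Sylow 2 G} {l : ℕ} {c s g : G} {M : Subgroup G}

theorem centralizer_le_core_sup (hC : Cfg S l c s) :
    centralizer ({c ^ l} : Set G) ≤ coreAt (c ^ l) ⊔ (S : Subgroup G) := by
  obtain ⟨n, hn, hS⟩ := H62.GW.exists_dihedral hC.gen
  exact H36.GW.centralizer_le_coreC_sup hC.gen hn hS

/-- The four elements of the closure of two commuting involutions. -/
theorem closure_pair_cases {a b : G} (ha : orderOf a = 2) (hb : orderOf b = 2) (hne : a ≠ b)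
    (hab : Commute a b) {x : G} (hx : x ∈ closure ({a, b} : Set G)) :
    x = 1 ∨ x = a ∨ x = b ∨ x = a * b := by
  obtain ⟨V, -, hV⟩ := H39.klein_mk ha hb hne hab.eq
  exact (hV x).1 ((closure_le V).2 (by
    rintro y (rfl | rfl)
    · exact (hV _).2 (Or.inr (Or.inl rfl))
    · exact (hV _).2 (Or.inr (Or.inr (Or.inl rfl)))) hx)

/-- A character separating an element from a normal subgroup with commutative quotient. -/
theorem exists_char {Γ : Type*} [Group Γ] [Finite Γ] (N : Subgroup Γ) [N.Normal]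
    (hab : ∀ x y : Γ ⧸ N, x * y = y * x) {a : Γ} (ha : a ∉ N) :
    ∃ χ : Γ →* ℂˣ, (∀ n ∈ N, χ n = 1) ∧ χ a ≠ 1 := by
  letI : CommGroup (Γ ⧸ N) := { (inferInstance : Group (Γ ⧸ N)) with mul_comm := hab }
  obtain ⟨φ, hφ⟩ := CommGroup.exists_apply_ne_one_of_hasEnoughRootsOfUnity (Γ ⧸ N) ℂ
    (a := (a : Γ ⧸ N)) fun e => ha ((QuotientGroup.eq_one_iff a).1 e)
  refine ⟨φ.comp (QuotientGroup.mk' N), fun n hn => ?_, hφ⟩
  rw [MonoidHom.comp_apply, QuotientGroup.mk'_apply, (QuotientGroup.eq_one_iff n).2 hn, map_one]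

section Setting

variable (hC : Cfg S l c s) (hM : TwoClass M l c s) (hgM : g ∈ M) (hg : Fuses g (c ^ l) s)

include hC hM in
theorem ne_ts : c ^ l ≠ s := fun e => hC.gen.out (e ▸ pow_mem (mem_zpowers c) l)

include hC hM in
/-- The central involution is the only one in the centre of `S`. -/
theorem eq_t_of_central {a : G} (ha : a ∈ (S : Subgroup G)) (haa : a * a = 1) (ha1 : a ≠ 1)
    (hc : Commute a c) : a = c ^ l := by
  by_cases hac : a ∈ zpowers c
  · exact (hC.gen.sq_one_cases hac haa).resolve_left ha1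
  · exfalso
    obtain ⟨i, rfl⟩ := hC.gen.out_form ha hac
    have h := hC.gen.out_conj i 1
    rw [zpow_one, hc.eq, mul_inv_cancel_right, zpow_neg, zpow_one] at h
    have h2 : c ^ 2 = 1 := by rw [pow_two]; nth_rw 2 [h]; exact mul_inv_cancel c
    have := Nat.le_of_dvd two_pos (hC.gen.oc ▸ orderOf_dvd_of_pow_eq_one h2)
    have := hM.two_le
    omega

include hC hM in
/-- When `⟨t, s⟩` is normal in `M`, conjugation by `c` moves `s` to `t * s`. -/
theorem sq_mul_s (hN' : M ≤ normalizer ((closure ({c ^ l, s} : Set G) : Subgroup G) : Set G)) :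
    c * c * s = c ^ l * s := by
  have hmem : c ^ 2 * s ∈ closure ({c ^ l, s} : Set G) := by
    have := (mem_normalizer_iff.1 (hN' (sylow_le_M hC hM hC.gen.mem_c)) s).1
      (subset_closure (by simp))
    have he := hC.gen.conj_reflection 0 1
    simp only [zpow_zero, one_mul, zpow_one] at he
    rw [he, show (0 : ℤ) + 2 * 1 = ((2 : ℕ) : ℤ) by norm_num, zpow_natCast] at this
    exact this
  have hout : c ^ 2 * s ∉ zpowers c := by
    have h := hC.gen.out_not_mem ((2 : ℕ) : ℤ)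
    rwa [zpow_natCast] at h
  rcases closure_pair_cases hC.gen.z_order hC.gen.os (ne_ts hC hM) (commute_ts hC hM) hmem
    with e | e | e | e
  · exact absurd (e ▸ one_mem _) hout
  · exact absurd (e ▸ pow_mem (mem_zpowers c) l) hout
  · exfalso
    have h3 : c ^ 2 = 1 := mul_eq_right.1 e
    have := Nat.le_of_dvd two_pos (hC.gen.oc ▸ orderOf_dvd_of_pow_eq_one h3)
    have := hM.two_le
    omega
  · rwa [pow_two] at e

include hC hM hgM hg

/-- `N = ⊤`: both `D` and `D'` lie in `O(M)`. -/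
theorem core_facts : pairCore (c ^ l) s ≤ coreIn M ∧ pairCore (c ^ l) (c * s) ≤ coreIn M ∧
    ∀ P : Subgroup ↥M, P.Normal → ⟨c ^ l, t_mem_M hC hM⟩ ∈ P →
      ⟨s, s_mem_M hC hM⟩ ∈ P → ⟨g, hgM⟩ ∈ P → ∀ x : ↥M, Odd (orderOf x) →
      ∃ w ∈ Cfsg.oddCore ↥M, x * w ∈ P := by
  classical
  obtain ⟨N, hNn, hRN, hcyc, hidx, hfour, hcent, htop⟩ := shape_M hC hM hgM hg
  haveI := hNn
  haveI := hcyc
  haveI : Fact (Nat.Prime 2) := ⟨Nat.prime_two⟩
  have hNt : N = ⊤ := by
    by_contra hN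
    set T : Sylow 2 ↥M := S.subtype (sylow_le_M hC hM)
    have hSN : ∀ x : ↥M, (x : G) ∈ (S : Subgroup G) → x ∈ N := by
      intro x hx
      rw [← QuotientGroup.eq_one_iff, ← orderOf_eq_one_iff]
      obtain ⟨k, hk⟩ := S.isPGroup' ⟨x, hx⟩
      have hk' : (x : G) ^ 2 ^ k = 1 := congrArg Subtype.val hk
      refine Nat.eq_one_of_dvd_coprimes ((Nat.coprime_two_left.2 hidx).pow_left k)
        ((orderOf_map_dvd (QuotientGroup.mk' N) x).trans ?_) (orderOf_dvd_natCard _)
      rw [← Subgroup.orderOf_coe]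
      exact orderOf_dvd_of_pow_eq_one hk'
    have hTN : (T : Subgroup ↥M) ≤ N := fun x hx => hSN x hx
    have hnorm : ∀ x ∈ normalizer (T : Set ↥M), Commute (x : G) (c ^ l) := by
      intro x hx
      have hconj : ∀ y ∈ (S : Subgroup G), (x : G) * y * (x : G)⁻¹ ∈ (S : Subgroup G) := fun y hy =>
        (mem_normalizer_iff.1 hx ⟨y, sylow_le_M hC hM hy⟩).1 hy
      have hconj' : ∀ y ∈ (S : Subgroup G), (x : G)⁻¹ * y * (x : G) ∈ (S : Subgroup G) := fun y hy => by
        have := (mem_normalizer_iff.1 (inv_mem hx) ⟨y, sylow_le_M hC hM hy⟩).1 hy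
        rw [inv_inv] at this
        exact this
      refine mul_inv_eq_iff_eq_mul.1 (eq_t_of_central hC hM (hconj _ hC.gen.z_mem) ?_ ?_ ?_)
      · rw [show (x : G) * c ^ l * (x : G)⁻¹ * ((x : G) * c ^ l * (x : G)⁻¹)
            = (x : G) * (c ^ l * c ^ l) * (x : G)⁻¹ by group,
          H39.mul_self_of_orderOf_eq_two hC.gen.z_order, mul_one, mul_inv_cancel]
      · exact fun e => H39.ne_one_of_orderOf_eq_two hC.gen.z_order (by simpa using e)
      · have := (Commute.conj_iff (x : G)).2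
          (show Commute (c ^ l) ((x : G)⁻¹ * c * (x : G)) from
            (hC.gen.z_central (hconj' c hC.gen.mem_c)).symm)
        rwa [show (x : G) * ((x : G)⁻¹ * c * (x : G)) * (x : G)⁻¹ = c by group] at this
    have hsup := Sylow.normalizer_sup_eq_top' T hTN
    obtain ⟨y₀, hy₀O, hy₀N⟩ : ∃ y₀ : ↥M, (y₀ : G) ∈ coreAt (c ^ l) ∧ y₀ ∉ N := by
      by_contra hcon
      push Not at hcon
      refine hN (top_le_iff.1 (hsup ▸ sup_le ?_ le_rfl))
      intro x hx
      obtain ⟨o, ho, v, hv, he⟩ := (Coprime.mem_sup_iff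
        ((H36.GW.sylow_le_centralizer hC.gen).trans
          (H62.GW.centralizer_le_normalizer_coreAt (c ^ l)))).1
        (centralizer_le_core_sup hC (mem_centralizer_singleton_iff.2 (hnorm x hx).eq))
      have hoM : o ∈ M := mem_M_of_commute hC hM (commute_of_mem_coreAt ho)
      have hxe : x = ⟨o, hoM⟩ * ⟨v, sylow_le_M hC hM hv⟩ := Subtype.ext he.symm
      rw [hxe]
      exact mul_mem (hcon _ ho) (hSN _ hv)
    let _ := IsCyclic.commGroup (α := ↥M ⧸ N)
    obtain ⟨χ, hχN, hχy⟩ := exists_char N (fun a b => mul_comm a b) hy₀N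
    have hOM : ∀ {x : G}, x ∈ coreAt (c ^ l) → x ∈ M := fun hx =>
      mem_M_of_commute hC hM (commute_of_mem_coreAt hx)
    let ψ : G → ℂ := fun x => if h : x ∈ M then ((χ ⟨x, h⟩ : ℂˣ) : ℂ) else 0
    have hψ : ∀ {x : G} (h : x ∈ M), ψ x = ((χ ⟨x, h⟩ : ℂˣ) : ℂ) := fun h => dif_pos h
    have hab := H15.GW.linearCharStep S l c s hC ψ (stable hC hM hgM hg ψ fun m hm y hy _ => by
        rw [hψ (mul_mem (mul_mem hm (hOM hy)) (inv_mem hm)), hψ (hOM hy)]
        congr 1
        rw [show (⟨m * y * m⁻¹, mul_mem (mul_mem hm (hOM hy)) (inv_mem hm)⟩ : ↥M)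
            = ⟨m, hm⟩ * ⟨y, hOM hy⟩ * ⟨m, hm⟩⁻¹ from rfl, map_mul, map_mul, map_inv,
          mul_comm (χ ⟨m, hm⟩), mul_inv_cancel_right])
      (fun x hx y hy => by
        rw [hψ (mul_mem (hOM hx) (hOM hy)), hψ (hOM hx), hψ (hOM hy), ← Units.val_mul, ← map_mul]
        rfl)
      (by rw [hψ (one_mem M), show (⟨1, one_mem M⟩ : ↥M) = 1 from rfl, map_one, Units.val_one])
      ⟨y₀, hy₀O, fun e => hχy (Units.ext (by rw [hψ y₀.2] at e; exact e))⟩
    set A := (coreAt (c ^ l)).subgroupOf M ⊓ N with hA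
    have hSA : (T : Subgroup ↥M) ≤ normalizer (A : Set ↥M) := by
      refine le_normalizer_iff.2 fun a ha x hx => ⟨?_, hNn.conj_mem x hx.2 a⟩
      exact H62.GW.conj_mem_coreAt (hC.gen.z_central ha) hx.1
    have hAodd : ¬ 2 ∣ Nat.card A := by
      intro h2
      obtain ⟨x, hx⟩ := exists_prime_orderOf_dvd_card' (G := A) 2 h2
      have h3 := odd_of_mem_coreAt (x := ((x : ↥M) : G)) x.2.1
      rw [Subgroup.orderOf_coe, Subgroup.orderOf_coe, hx] at h3
      exact absurd h3 (by decide)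
    obtain ⟨n, hn, hcn⟩ := Coprime.exists_commute_mem_coset T.isPGroup' hSA hAodd (k := y₀)
      fun a ha => by
        refine ⟨mem_subgroupOf.2
          (mul_mem (inv_mem hy₀O) (H62.GW.conj_mem_coreAt (hC.gen.z_central ha) hy₀O)), ?_⟩
        show y₀⁻¹ * (a * y₀ * a⁻¹) ∈ N
        rw [← QuotientGroup.eq_one_iff, QuotientGroup.mk_mul, QuotientGroup.mk_mul, QuotientGroup.mk_mul,
          (QuotientGroup.eq_one_iff a).2 (hTN ha), QuotientGroup.mk_inv, QuotientGroup.mk_inv,
          (QuotientGroup.eq_one_iff a).2 (hTN ha), one_mul, inv_one, mul_one, inv_mul_cancel]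
    set y₁ := y₀ * n with hy₁
    have hy₁O : (y₁ : G) ∈ coreAt (c ^ l) := mul_mem hy₀O hn.1
    have hy₁W := hcent y₁ (by rw [← Subgroup.orderOf_coe]; exact odd_of_mem_coreAt hy₁O) fun k hk => by
      have hk' := centralizer_le_core_sup hC (mem_centralizer_singleton_iff.2 hk.eq)
      have hle : coreAt (c ^ l) ⊔ (S : Subgroup G) ≤ centralizer ({(y₁ : G)} : Set G) :=
        sup_le (fun o ho => mem_centralizer_singleton_iff.2 (hab o ho _ hy₁O).eq) fun v hv =>
          mem_centralizer_singleton_iff.2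
            (congrArg Subtype.val (mem_centralizer_iff.1 hcn ⟨v, sylow_le_M hC hM hv⟩ hv))
      exact (show Commute k (y₁ : G) from mem_centralizer_singleton_iff.1 (hle hk')).symm
    obtain ⟨w, hw, hwe⟩ := hy₁W
    refine hy₀N ?_
    rw [show y₀ = y₁ * n⁻¹ by rw [hy₁, mul_inv_cancel_right]]
    exact mul_mem (hRN ((Subtype.ext hwe : w = y₁) ▸ hw)) (inv_mem hn.2)
  have hin : ∀ a, (a = s ∨ a = c * s) → ∀ y ∈ pairCore (c ^ l) a, y ∈ coreIn M := fun a ha y hy =>
    hfour ⟨y, mem_M_of_commute hC hM (commute_of_mem_coreAt (mem_pairCore.1 hy).1)⟩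
      (hNt ▸ mem_top _) (by rw [Subgroup.orderOf_mk]; exact odd_of_mem_coreAt (mem_pairCore.1 hy).1)
      a ha (commute_of_mem_coreAt (mem_pairCore.1 hy).1) (mem_pairCore.1 hy).2
  exact ⟨hin s (Or.inl rfl), hin _ (Or.inr rfl), htop hNt⟩

/-- When `g` centralises `O(M)`, elements of odd order act on it as inner automorphisms. -/
theorem exists_mul_commute (h1 : ∀ w ∈ coreIn M, Commute g w) {x : G} (hx : x ∈ M)
    (ho : Odd (orderOf x)) : ∃ w ∈ coreIn M, ∀ v ∈ coreIn M, Commute (x * w) v := by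
  have hmem : ∀ (a : ↥M), (∀ v ∈ coreIn M, Commute (a : G) v) →
      a ∈ centralizer (Cfsg.oddCore ↥M : Set ↥M) := fun a ha =>
    mem_centralizer_iff.2 fun r hr => Subtype.ext (ha r ⟨r, hr, rfl⟩).eq.symm
  obtain ⟨w, hw, hxw⟩ := (core_facts hC hM hgM hg).2.2 (centralizer (Cfsg.oddCore ↥M : Set ↥M))
    inferInstance (hmem _ fun v hv => (core_commute_t hC hM hv).symm)
    (hmem _ fun v hv => (core_commute_s hC hM hv).symm) (hmem _ h1) ⟨x, hx⟩
    (by rwa [Subgroup.orderOf_mk])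
  refine ⟨w, ⟨w, hw, rfl⟩, ?_⟩
  rintro v ⟨v', hv', rfl⟩
  exact congrArg Subtype.val (mem_centralizer_iff.1 hxw v' hv').symm

/-- The structure of the centraliser of a nontrivial element of `D'`. -/
theorem centralizer_shape
    (hor : (∀ w ∈ coreIn M, Commute g w) ∨ coreIn M = coreAt (c ^ l)) {z : G}
    (hz : z ∈ pairCore (c ^ l) (c * s)) (hz1 : z ≠ 1) :
    coreIn (centralizer ({z} : Set G)) ≤ pairCore (c ^ l) (c * s) ∧
    ((∀ w ∈ coreIn M, Commute w z → c * s * w * (c * s)⁻¹ = w⁻¹ → w = 1) ∨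
      (Nonempty ((↥(centralizer ({z} : Set G)) ⧸ Cfsg.oddCore ↥(centralizer ({z} : Set G))) ≃*
          ↥(alternatingGroup (Fin 7))) ∧
        {w : G | w ∈ coreIn M ∧ Commute w z ∧ c * s * w * (c * s)⁻¹ = w⁻¹}.ncard ≤ 3 ∧
        ¬ centralizer ({c ^ l} : Set G) ≤ centralizer ({z} : Set G))) := by
  classical
  haveI : Fact (Nat.Prime 2) := ⟨Nat.prime_two⟩
  set X := centralizer ({z} : Set G) with hX
  have hXtop : X ≠ ⊤ := H62.GW.centralizer_singleton_ne_top hC hz1
  obtain ⟨hzt, hzσ⟩ := commute_sigma_pairCore hC hM hz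
  have hzW : z ∈ coreIn M := (core_facts hC hM hgM hg).2.1 hz
  have hmemX : ∀ {x : G}, Commute x z → x ∈ X := fun h => mem_centralizer_singleton_iff.2 h.eq
  have htX : c ^ l ∈ X := hmemX hzt.symm
  have hsX : s ∈ X := hmemX (core_commute_s hC hM hzW).symm
  have hσX : c * s ∈ X := hmemX hzσ.symm
  obtain ⟨φ, hφ, hφD⟩ := exists_phi hC hM hgM hg
  have hφX : φ ∈ X := hmemX (hφD z hz)
  set R := coreIn X with hR
  have hnorm := H62.GW.le_normalizer_coreIn X
  have hRX : R ≤ X := H62.GW.coreIn_le X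
  have hRodd : Odd (Nat.card R) := H62.GW.odd_coreIn X
  obtain ⟨V, hV, hVmem⟩ := H39.klein_mk hC.gen.z_order hC.gen.os (ne_ts hC hM) (commute_ts hC hM).eq
  haveI : IsMulCommutative ↥V :=
    ⟨⟨fun a b => Subtype.ext (H39.commute_of_klein hV a.2 b.2)⟩⟩
  have hVX : V ≤ X := fun x hx => by
    rcases (hVmem x).1 hx with rfl | rfl | rfl | rfl
    exacts [one_mem X, htX, hsX, mul_mem htX hsX]
  have hcop : Nat.Coprime 2 (Nat.card R) := Nat.coprime_two_left.2 hRodd
  have hRM : R ≤ M := by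
    refine Coprime.le_of_centralizer_le (p := 2) (x := c ^ l) (y := s)
      ((hVmem _).2 (Or.inr (Or.inl rfl))) ((hVmem _).2 (Or.inr (Or.inr (Or.inl rfl)))) R M
      (hVX.trans hnorm) (by rw [hV.card_four]; exact hcop.pow_left 2) hcop ?_ ?_ ?_ ?_
    · rw [pow_two, H39.mul_self_of_orderOf_eq_two hC.gen.z_order]; exact one_mem _
    · rw [pow_two, H39.mul_self_of_orderOf_eq_two hC.gen.os]; exact one_mem _
    · exact fun x hx => mem_M_of_commute_s hC hM hgM hg (mem_centralizer_singleton_iff.1 hx.2)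
    · intro i hi x hx
      rcases (show i = 0 ∨ i = 1 by omega) with rfl | rfl
      · rw [pow_zero, mul_one] at hx
        exact mem_M_of_commute hC hM (mem_centralizer_singleton_iff.1 hx.2)
      · rw [pow_one] at hx
        exact mem_M_of_commute_ts hC hM hgM hg (mem_centralizer_singleton_iff.1 hx.2)
  have hRW : R ≤ coreIn M := by
    rcases hor with h1 | h2
    · set π := QuotientGroup.mk' (Cfsg.oddCore ↥M) with hπ
      set P := centralizer (Cfsg.oddCore ↥M : Set ↥M) with hP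
      haveI : (P.map π).Normal := Subgroup.Normal.map inferInstance π (QuotientGroup.mk'_surjective _)
      have hbot := eq_bot_of_normalised (quot_hyps hC hM.proper).2.1 (P.map π)
        ((R.subgroupOf M).map π) (by
          rintro _ ⟨x, hx, rfl⟩
          obtain ⟨w, hw, hc⟩ := exists_mul_commute hC hM hgM hg h1 x.2
            (odd_of_mem_coreIn (X := X) hx)
          obtain ⟨w', hw', rfl⟩ := hw
          refine ⟨x * w', mem_centralizer_iff.2 fun r hr =>
            Subtype.ext (hc r ⟨r, hr, rfl⟩).eq.symm, ?_⟩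
          rw [map_mul, show π w' = 1 from (QuotientGroup.eq_one_iff w').2 hw', mul_one])
        (by
          refine le_normalizer_iff.2 ?_
          rintro _ ⟨p, hp, rfl⟩ _ ⟨x, hx, rfl⟩
          refine ⟨p * x * p⁻¹, ?_, by rw [map_mul, map_mul, map_inv]⟩
          have hpX : (p : G) ∈ X := by
            obtain ⟨z', hz', rfl⟩ := hzW
            exact hmemX (congrArg Subtype.val (mem_centralizer_iff.1 hp z' hz').symm)
          exact (mem_normalizer_iff.1 (hnorm hpX) _).1 hx)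
        (((Nat.card_congr (subgroupOfEquivOfLe hRM).toEquiv).symm ▸ hRodd).of_dvd_nat
          (Subgroup.card_map_dvd _ π))
      intro x hx
      refine (H62.GW.mk_eq_one_iff ⟨x, hRM hx⟩).1 ?_
      have : π ⟨x, hRM hx⟩ ∈ (R.subgroupOf M).map π := mem_map_of_mem π hx
      rwa [hbot, mem_bot] at this
    · have hgW : ∀ {x : G}, g⁻¹ * x * g ∈ coreIn M → x ∈ coreIn M := fun {x} h => by
        have := core_conj_mem hC hM hgM h
        rwa [show g * (g⁻¹ * x * g) * g⁻¹ = x by group] at this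
      refine Coprime.le_of_centralizer_le (p := 2) (x := c ^ l) (y := s)
        ((hVmem _).2 (Or.inr (Or.inl rfl))) ((hVmem _).2 (Or.inr (Or.inr (Or.inl rfl)))) R _
        (hVX.trans hnorm) (by rw [hV.card_four]; exact hcop.pow_left 2) hcop
        (by rw [pow_two, H39.mul_self_of_orderOf_eq_two hC.gen.z_order]; exact one_mem _)
        (by rw [pow_two, H39.mul_self_of_orderOf_eq_two hC.gen.os]; exact one_mem _) ?_ ?_
      all_goals
        have hst : ∀ x : G, Odd (orderOf x) → Commute x (c ^ l) → x ∈ coreIn M := fun x ho hc =>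
          h2 ▸ H62.GW.mem_coreAt_of_odd hC hc ho
        have hss : ∀ x : G, Odd (orderOf x) → Commute x s → x ∈ coreIn M := fun x ho hc => by
          refine hgW (hst _ ?_ ?_)
          · have := odd_conj (m := g⁻¹) ho
            rwa [inv_inv] at this
          · rw [← Commute.conj_iff g, show g * (g⁻¹ * x * g) * g⁻¹ = x by group, hg.1]
            exact hc
      · exact fun x hx => hss x (odd_of_mem_coreIn hx.1) (mem_centralizer_singleton_iff.1 hx.2)
      · intro i hi x hx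
        rcases (show i = 0 ∨ i = 1 by omega) with rfl | rfl
        · rw [pow_zero, mul_one] at hx
          exact hst x (odd_of_mem_coreIn hx.1) (mem_centralizer_singleton_iff.1 hx.2)
        · rw [pow_one] at hx
          refine hgW (hss _ ?_ ?_)
          · have := odd_conj (m := g⁻¹) (odd_of_mem_coreIn hx.1)
            rwa [inv_inv] at this
          · rw [← Commute.conj_iff g, show g * (g⁻¹ * x * g) * g⁻¹ = x by group, hg.2]
            exact mem_centralizer_singleton_iff.1 hx.2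
  have hRD : R ≤ pairCore (c ^ l) (c * s) := by
    intro x hx
    refine mem_pairCore.2 ⟨(hM.core_fixed (hRW hx)).1, ?_⟩
    have hx' : φ⁻¹ * x * φ ∈ R := by
      have := (mem_normalizer_iff.1 (hnorm (inv_mem hφX)) x).1 hx
      rwa [inv_inv] at this
    have := (Commute.conj_iff φ).2 (core_commute_t hC hM (hRW hx'))
    rwa [show φ * (φ⁻¹ * x * φ) * φ⁻¹ = x by group, hφ.1] at this
  refine ⟨hRD, ?_⟩
  set π := QuotientGroup.mk' (Cfsg.oddCore ↥X) with hπ
  have hR' : Odd (Nat.card (Cfsg.oddCore ↥X)) := Cores.odd_card_oddCore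
  set T : ↥X := ⟨c ^ l, htX⟩
  set S₁ : ↥X := ⟨s, hsX⟩
  set U₁ : ↥X := ⟨c * s, hσX⟩
  have hTo : orderOf T = 2 := by rw [Subgroup.orderOf_mk]; exact hC.gen.z_order
  have hSo : orderOf S₁ = 2 := by rw [Subgroup.orderOf_mk]; exact hC.gen.os
  have hTS : π T ≠ π S₁ := fun e => ne_ts hC hM (congrArg Subtype.val
    (eq_of_mk_eq _ hR' (H39.mul_self_of_orderOf_eq_two hTo) (H39.mul_self_of_orderOf_eq_two hSo) e
      fun r hr => Subtype.ext (commute_sigma_pairCore hC hM (hRD ⟨r, hr, rfl⟩)).1.eq))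
  obtain ⟨hSD, hO, hPH⟩ := quot_hyps hC hXtop
  rcases inverted_four hSD hO hPH (H36.GW.orderOf_quotient hTo) (H36.GW.orderOf_quotient hSo)
    (d := π U₁) (by
      rw [← map_mul, show U₁ * U₁ = 1 from Subtype.ext (sigma_mul_self hC hM), map_one])
    hTS ((show Commute T S₁ from Subtype.ext (commute_ts hC hM).eq).map π) with hL | ⟨⟨e⟩⟩
  · refine Or.inl fun w hw hwz hwinv => ?_
    have hwX : w ∈ X := hmemX hwz
    have h1 := hL (π ⟨w, hwX⟩)
      (Odd.of_dvd_nat (by rw [Subgroup.orderOf_mk]; exact odd_of_mem_coreIn hw)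
        (orderOf_map_dvd π ⟨w, hwX⟩))
      ((show Commute (⟨w, hwX⟩ : ↥X) T from Subtype.ext (core_commute_t hC hM hw).eq).map π)
      ((show Commute (⟨w, hwX⟩ : ↥X) S₁ from Subtype.ext (core_commute_s hC hM hw).eq).map π)
      (by rw [← map_inv, ← map_mul, ← map_mul, ← map_inv]; exact congrArg π (Subtype.ext hwinv))
    have hwD := hRD ((H62.GW.mk_eq_one_iff (⟨w, hwX⟩ : ↥X)).1 h1)
    refine H62.GW.eq_one_of_odd (odd_of_mem_coreIn hw) (mul_eq_one_iff_eq_inv.2 ?_)
    rw [← hwinv, ← (commute_sigma_pairCore hC hM hwD).2.eq, mul_inv_cancel_right]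
  · refine Or.inr ⟨⟨e⟩, ?_, fun hHX => ?_⟩
    · set A := {w : G | w ∈ coreIn M ∧ Commute w z ∧ c * s * w * (c * s)⁻¹ = w⁻¹}
      let f : G → AltFin := fun w => if h : w ∈ X then e (π ⟨w, h⟩) else 1
      have hf : ∀ {w : G} (h : w ∈ X), f w = e (π ⟨w, h⟩) := fun h => dif_pos h
      have hT1 : e (π T) ≠ 1 := fun h => H39.ne_one_of_orderOf_eq_two (H36.GW.orderOf_quotient hTo)
        (e.injective (h.trans (map_one e).symm))
      refine le_trans (Set.ncard_le_ncard_of_injOn f (t := {x | Odd (orderOf x) ∧ Commute x (e (π T))})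
        ?_ ?_ (Set.toFinite _)) (card_odd_centralizing_le hT1
          (by rw [← map_mul, ← map_mul, show T * T = 1 from H39.mul_self_of_orderOf_eq_two hTo,
            map_one, map_one]))
      · rintro w ⟨hw, hwz, -⟩
        rw [Set.mem_setOf_eq, hf (hmemX hwz)]
        refine ⟨?_, ((show Commute (⟨w, hmemX hwz⟩ : ↥X) T from
          Subtype.ext (core_commute_t hC hM hw).eq).map π).map e⟩
        rw [MulEquiv.orderOf_eq]
        exact Odd.of_dvd_nat (by rw [Subgroup.orderOf_mk]; exact odd_of_mem_coreIn hw)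
          (orderOf_map_dvd π _)
      · rintro w₁ ⟨h₁, hz₁, hi₁⟩ w₂ ⟨h₂, hz₂, hi₂⟩ he
        rw [hf (hmemX hz₁), hf (hmemX hz₂)] at he
        have hr := QuotientGroup.eq.1 (e.injective he)
        set r := w₁⁻¹ * w₂ with hrdef
        have hrD : r ∈ pairCore (c ^ l) (c * s) := hRD ⟨_, hr, rfl⟩
        have hrσ : c * s * r * (c * s)⁻¹ = r := by
          rw [← (commute_sigma_pairCore hC hM hrD).2.eq, mul_inv_cancel_right]
        have h3 : w₁ * w₂⁻¹ = r := by
          rw [← hrσ, hrdef, show c * s * (w₁⁻¹ * w₂) * (c * s)⁻¹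
              = (c * s * w₁ * (c * s)⁻¹)⁻¹ * (c * s * w₂ * (c * s)⁻¹) by group, hi₁, hi₂, inv_inv]
        have h4 : w₁ * r⁻¹ * w₁⁻¹ = r := by
          conv_rhs => rw [← h3]
          rw [hrdef]; group
        have h5 : Commute (w₁ * w₁) r := by
          have h6 : w₁ * r * w₁⁻¹ = r⁻¹ := by
            rw [show w₁ * r * w₁⁻¹ = (w₁ * r⁻¹ * w₁⁻¹)⁻¹ by group, h4]
          refine mul_inv_eq_iff_eq_mul.1 ?_
          rw [show w₁ * w₁ * r * (w₁ * w₁)⁻¹ = w₁ * (w₁ * r * w₁⁻¹) * w₁⁻¹ by group, h6, h4]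
        have h7 := H62.GW.commute_of_sq (odd_of_mem_coreIn h₁) h5
        rw [h7.inv_right.eq, mul_inv_cancel_right] at h4
        have h8 : r = 1 := H62.GW.eq_one_of_odd (odd_of_mem_coreAt (mem_pairCore.1 hrD).1)
          (by nth_rw 2 [← h4]; exact mul_inv_cancel r)
        rwa [hrdef, inv_mul_eq_one] at h8
    · refine hXtop ?_
      haveI := hC.simple
      refine H35.GW.eq_top_of_one_class hC.gen hM.two_le
        (fun a b ha hb => (H61.GW.isConj_z hC ha).symm.trans (H61.GW.isConj_z hC hb)) X hHX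
        fun a b ha hb => ?_
      obtain ⟨xb, hxb⟩ := isConj_iff.1 (H36.GW.alt_isConj
        (K := (⊤ : Subgroup (↥X ⧸ Cfsg.oddCore ↥X))) hSD (Subgroup.topEquiv.trans e) rfl
        (H36.GW.orderOf_quotient ha) (H36.GW.orderOf_quotient hb))
      obtain ⟨x, rfl⟩ := QuotientGroup.mk_surjective xb
      rw [← QuotientGroup.mk_inv, ← QuotientGroup.mk_mul, ← QuotientGroup.mk_mul] at hxb
      obtain ⟨r, -, hr⟩ := conj_of_mk_eq _ hR' (a := x * a * x⁻¹) (b := b)
        (by rw [show x * a * x⁻¹ * (x * a * x⁻¹) = x * (a * a) * x⁻¹ by group,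
          H39.mul_self_of_orderOf_eq_two ha, mul_one, mul_inv_cancel])
        (H39.mul_self_of_orderOf_eq_two hb) hxb
      exact isConj_iff.2 ⟨r * x, by rw [← hr]; group⟩

end Setting

/-! ### Conjugation on `O(M)` -/

/-- The action of `M` on `O(M)`. -/
noncomputable def conjCore (M : Subgroup G) : ↥M →* MulAut ↥(coreIn M) :=
  MonoidHom.mk'
    (fun m =>
      { toFun := fun w => ⟨m * w * (m : G)⁻¹,
          (mem_normalizer_iff.1 (H62.GW.le_normalizer_coreIn M m.2) w).1 w.2⟩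
        invFun := fun w => ⟨(m : G)⁻¹ * w * m, by
          have := (mem_normalizer_iff.1 (H62.GW.le_normalizer_coreIn M (inv_mem m.2)) w).1 w.2
          rwa [inv_inv] at this⟩
        left_inv := fun w => Subtype.ext (by simp [mul_assoc])
        right_inv := fun w => Subtype.ext (by simp [mul_assoc])
        map_mul' := fun a b => Subtype.ext (by simp [mul_assoc]) })
    (fun a b => MulEquiv.ext fun w => Subtype.ext (by simp [mul_assoc]))

theorem coe_conjCore (m : ↥M) (w : ↥(coreIn M)) : (conjCore M m w : G) = m * w * (m : G)⁻¹ := rfl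

section Setting

variable (hC : Cfg S l c s) (hM : TwoClass M l c s) (hgM : g ∈ M) (hg : Fuses g (c ^ l) s)
variable (hor : (∀ w ∈ coreIn M, Commute g w) ∨ (coreIn M = coreAt (c ^ l) ∧
      M ≤ normalizer ((closure ({c ^ l, s} : Set G) : Subgroup G) : Set G)))
include hC hM hgM hg hor

theorem core_le_of_central {z : G} (hzW : z ∈ coreIn M) (hzc : ∀ w ∈ coreIn M, Commute z w) :
    coreAt (c ^ l) ≤ centralizer ({z} : Set G) := by
  intro x hx
  refine mem_centralizer_singleton_iff.2 (Commute.eq ?_)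
  rcases hor with h1 | ⟨h2, -⟩
  · have hxM : x ∈ M := mem_M_of_commute hC hM (commute_of_mem_coreAt hx)
    obtain ⟨w, hw, hc⟩ := exists_mul_commute hC hM hgM hg h1 hxM (odd_of_mem_coreAt hx)
    have := (hc z hzW).mul_left (hzc w hw).symm.inv_left
    rwa [mul_inv_cancel_right] at this
  · exact (hzc x (h2 ▸ hx)).symm

/-- No nontrivial element of `D'` is central in `O(M)`. -/
theorem central_free {z : G} (hz : z ∈ pairCore (c ^ l) (c * s))
    (hzc : ∀ w ∈ coreIn M, Commute z w) : z = 1 := by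
  by_contra hz1
  obtain ⟨hDW, hD'W, -⟩ := core_facts hC hM hgM hg
  have hzW := hD'W hz
  have hle : centralizer ({c ^ l} : Set G) ≤ centralizer ({z} : Set G) := by
    refine (centralizer_le_core_sup hC).trans (sup_le (core_le_of_central hC hM hgM hg hor hzW hzc) ?_)
    intro v hv
    refine mem_centralizer_singleton_iff.2 (Commute.eq ?_)
    have hcz := commute_c_of_mem hC hM hz hzW
    have hsz := (core_commute_s hC hM hzW).symm
    rcases hC.gen.cases v hv with h | h
    · obtain ⟨i, rfl⟩ := h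
      exact hcz.zpow_left i
    · obtain ⟨i, hi⟩ := h
      rw [show v = c ^ i * s⁻¹ by rw [show c ^ i = v * s from hi, mul_inv_cancel_right]]
      exact (hcz.zpow_left i).mul_left hsz.inv_left
  obtain ⟨-, h | ⟨-, -, h⟩⟩ := centralizer_shape hC hM hgM hg (hor.imp id And.left) hz hz1
  swap
  · exact h hle
  have hlt := hM.lt
  have hsub : pairCore (c ^ l) s ≤ pairCore (c ^ l) (c * s) := by
    intro w hw
    refine mem_pairCore.2 ⟨(mem_pairCore.1 hw).1, ?_⟩
    have hwW := hDW hw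
    set σ : MulAut ↥(coreIn M) := conjCore M ⟨c * s, sigma_mem_M hC hM⟩
    have hinv : IsInvol σ := ⟨H62.GW.odd_coreIn M, fun x => Subtype.ext (by
      rw [coe_conjCore, coe_conjCore]
      rw [show c * s * (c * s * (x : G) * (c * s)⁻¹) * (c * s)⁻¹
          = (c * s * (c * s)) * x * (c * s * (c * s))⁻¹ by group, sigma_mul_self hC hM]
      group)⟩
    have hfix := hinv.fixed_of_no_inverted (A := ⊤) (fun _ _ => mem_top _)
      (fun x _ hx => Subtype.ext (h x x.2 (hzc x x.2).symm (congrArg Subtype.val hx)))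
      (mem_top ⟨w, hwW⟩)
    exact (mul_inv_eq_iff_eq_mul.1 (congrArg Subtype.val hfix)).symm
  exact absurd (Subgroup.card_le_of_le hsub) (not_le.2 hlt)

theorem eq_one_of_commutative (hab : ∀ x ∈ coreAt (c ^ l), ∀ y ∈ coreAt (c ^ l), Commute x y) :
    pairCore (c ^ l) (c * s) = ⊥ :=
  (Subgroup.eq_bot_iff_forall _).2 fun z hz => central_free hC hM hgM hg hor hz fun w hw =>
    hab z (mem_pairCore.1 hz).1 w (hM.core_fixed hw).1

/-- The stabiliser of a character of `O(M)`. -/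
theorem stab_eq_top (χ : ↥(coreIn M) →* ℂˣ)
    (hσ : ∀ w, χ (conjCore M ⟨c * s, sigma_mem_M hC hM⟩ w) = χ w) :
    (∀ k : ↥M, Commute (k : G) (c ^ l) → (coreIn M = coreAt (c ^ l)) →
      ∀ w, χ (conjCore M k w) = χ w) ∧
    ∀ h : ↥M, (h : G) * c ^ l * (h : G)⁻¹ = s → (∀ w, χ (conjCore M h w) = χ w) →
      ∀ m w, χ (conjCore M m w) = χ w := by
  let K : Subgroup ↥M :=
    { carrier := {m | ∀ w, χ (conjCore M m w) = χ w}
      one_mem' := fun w => by rw [map_one]; rfl
      mul_mem' := fun {a b} ha hb w => by rw [map_mul, MulAut.mul_apply, ha, hb]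
      inv_mem' := fun {a} ha w => by
        have := ha ((conjCore M a⁻¹) w)
        rw [← MulAut.mul_apply, ← map_mul, mul_inv_cancel, map_one] at this
        exact this.symm }
  have hWK : ∀ v : ↥M, (v : G) ∈ coreIn M → v ∈ K := fun v hv w => by
    rw [show conjCore M v w = ⟨v, hv⟩ * w * ⟨v, hv⟩⁻¹ from Subtype.ext rfl, map_mul, map_mul,
      map_inv, mul_comm (χ _) (χ w), mul_inv_cancel_right]
  have hfix : ∀ v : ↥M, (∀ w ∈ coreIn M, Commute (v : G) w) → v ∈ K := fun v hv w => by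
    rw [show conjCore M v w = w from Subtype.ext (by
      rw [coe_conjCore, (hv w w.2).eq, mul_inv_cancel_right])]
  have hσK : (⟨c * s, sigma_mem_M hC hM⟩ : ↥M) ∈ K := hσ
  have hsK : (⟨s, s_mem_M hC hM⟩ : ↥M) ∈ K :=
    hfix _ fun w hw => (core_commute_s hC hM hw).symm
  have hcK : (⟨c, sylow_le_M hC hM hC.gen.mem_c⟩ : ↥M) ∈ K := by
    have := mul_mem hσK hsK
    rwa [show (⟨c * s, sigma_mem_M hC hM⟩ : ↥M) * ⟨s, s_mem_M hC hM⟩
      = ⟨c, sylow_le_M hC hM hC.gen.mem_c⟩ from Subtype.ext (sigma_mul_s hC hM)] at this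
  have hSK : ∀ v : ↥M, (v : G) ∈ (S : Subgroup G) → v ∈ K := by
    intro v hv
    rcases hC.gen.cases v hv with h | h
    · obtain ⟨i, hi⟩ := h
      rw [show v = (⟨c, sylow_le_M hC hM hC.gen.mem_c⟩ : ↥M) ^ i from
        Subtype.ext (by rw [Subgroup.coe_zpow]; exact hi.symm)]
      exact zpow_mem hcK i
    · obtain ⟨i, hi⟩ := h
      rw [show v = (⟨c, sylow_le_M hC hM hC.gen.mem_c⟩ : ↥M) ^ i * (⟨s, s_mem_M hC hM⟩ : ↥M)⁻¹ from
        Subtype.ext (by
          rw [Subgroup.coe_mul, Subgroup.coe_zpow, Subgroup.coe_inv,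
            show c ^ i = (v : G) * s from hi, mul_inv_cancel_right])]
      exact mul_mem (zpow_mem hcK i) (inv_mem hsK)
  have hCK : ∀ k : ↥M, Commute (k : G) (c ^ l) → coreIn M = coreAt (c ^ l) → k ∈ K := by
    intro k hk hWO
    obtain ⟨o, ho, v, hv, he⟩ := (Coprime.mem_sup_iff
      ((H36.GW.sylow_le_centralizer hC.gen).trans
        (H62.GW.centralizer_le_normalizer_coreAt (c ^ l)))).1
      (centralizer_le_core_sup hC (mem_centralizer_singleton_iff.2 hk.eq))
    rw [show k = ⟨o, core_le_M hC hM (hWO ▸ ho)⟩ * ⟨v, sylow_le_M hC hM hv⟩ from Subtype.ext he.symm]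
    exact mul_mem (hWK _ (show o ∈ coreIn M by rw [hWO]; exact ho)) (hSK _ hv)
  refine ⟨hCK, fun h hht hh => ?_⟩
  have hhK : h ∈ K := hh
  have hK : K = ⊤ := by
    rcases hor with h1 | ⟨h2, hN⟩
    · refine eq_top_of_odd_sylow (S.subtype (sylow_le_M hC hM)) K (fun x hx => hSK x hx) fun x hx => ?_
      obtain ⟨w, hw, hc⟩ := exists_mul_commute hC hM hgM hg h1 x.2
        (by rwa [Subgroup.orderOf_coe])
      have h3 := mul_mem (hfix (x * ⟨w, core_le_M hC hM hw⟩) hc)
        (inv_mem (hWK ⟨w, core_le_M hC hM hw⟩ hw))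
      rwa [mul_inv_cancel_right] at h3
    · refine eq_top_iff.2 fun m _ => ?_
      have hne := ne_ts hC hM
      have hgK : (⟨g, hgM⟩ : ↥M) ∈ K := by
        have h3 := mul_mem hhK (hCK (h⁻¹ * ⟨g, hgM⟩) ?_ h2)
        · rwa [mul_inv_cancel_left] at h3
        · refine mul_inv_eq_iff_eq_mul.1 ?_
          rw [Subgroup.coe_mul, Subgroup.coe_inv, show (h : G)⁻¹ * g * c ^ l * ((h : G)⁻¹ * g)⁻¹
            = (h : G)⁻¹ * (g * c ^ l * g⁻¹) * h by group, hg.1, ← hht]
          group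
      have hmem : (m : G) * c ^ l * (m : G)⁻¹ ∈ closure ({c ^ l, s} : Set G) :=
        (mem_normalizer_iff.1 (hN m.2) _).1 (subset_closure (by simp))
      have key : ∀ k : ↥M, k ∈ K → (m : G) * c ^ l * (m : G)⁻¹ = k * c ^ l * (k : G)⁻¹ → m ∈ K := by
        intro k hk he
        have h3 := mul_mem hk (hCK (k⁻¹ * m) ?_ h2)
        · rwa [mul_inv_cancel_left] at h3
        · refine mul_inv_eq_iff_eq_mul.1 ?_
          rw [Subgroup.coe_mul, Subgroup.coe_inv, show (k : G)⁻¹ * m * c ^ l * ((k : G)⁻¹ * m)⁻¹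
            = (k : G)⁻¹ * ((m : G) * c ^ l * (m : G)⁻¹) * k by group, he]
          group
      rcases closure_pair_cases hC.gen.z_order hC.gen.os hne (commute_ts hC hM) hmem with e | e | e | e
      · exact absurd (by simpa using e) (H39.ne_one_of_orderOf_eq_two hC.gen.z_order)
      · exact key 1 (one_mem K) (by simpa using e)
      · exact key _ hgK (by rw [e, hg.1])
      · refine key _ (mul_mem hgK hgK) ?_
        rw [e, ← hg.2, ← hg.1, Subgroup.coe_mul]
        group
  exact fun m => (hK ▸ mem_top m : m ∈ K)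

/-- A character of `O(M)` invariant under `σ` and an element moving `t` to `s` is trivial. -/
theorem no_char (hD : pairCore (c ^ l) (c * s) ≠ ⊥) (χ : ↥(coreIn M) →* ℂˣ)
    (hσ : ∀ w, χ (conjCore M ⟨c * s, sigma_mem_M hC hM⟩ w) = χ w) (h : ↥M)
    (hht : (h : G) * c ^ l * (h : G)⁻¹ = s) (hh : ∀ w, χ (conjCore M h w) = χ w) :
    ∀ w, χ w = 1 := by
  classical
  have hall := (stab_eq_top hC hM hgM hg hor χ hσ).2 h hht hh
  have hcen : ∀ w : ↥(coreIn M), (∀ v : ↥(coreIn M), Commute w v) → χ w = 1 := by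
    intro w hw
    set σ := conjCore M ⟨c * s, sigma_mem_M hC hM⟩ with hσdef
    have hσσ : ∀ x, σ (σ x) = x := fun x => by
      rw [hσdef, ← MulAut.mul_apply, ← map_mul,
        show (⟨c * s, sigma_mem_M hC hM⟩ * ⟨c * s, sigma_mem_M hC hM⟩ : ↥M) = 1 from
          Subtype.ext (sigma_mul_self hC hM), map_one]
      rfl
    have hσw : ∀ v, Commute (σ w) v := fun v => by
      have := (hw (σ v)).map σ
      rwa [hσσ] at this
    set z := w * σ w with hzdef
    have hzfix : σ z = z := by rw [hzdef, map_mul, hσσ, (hσw w).eq]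
    have hz1 : (z : G) = 1 := by
      refine central_free hC hM hgM hg hor (mem_pairCore.2 ⟨(hM.core_fixed z.2).1, ?_⟩) fun v hv =>
        congrArg Subtype.val (((hw ⟨v, hv⟩).mul_left (hσw ⟨v, hv⟩))).eq
      exact (mul_inv_eq_iff_eq_mul.1 (congrArg Subtype.val hzfix)).symm
    have h1 : χ w * χ w = 1 := by
      nth_rw 2 [← hσ w]
      rw [← map_mul, ← hzdef, show z = 1 from Subtype.ext hz1, map_one]
    obtain ⟨r, hr⟩ := exists_pow_sq (H62.GW.odd_coreIn M) w
    rw [← hr, ← pow_add, map_pow, ← two_mul, pow_mul, pow_two, h1, one_pow]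
  let P : G → G → Prop := fun x w => w ∈ coreIn M ∧ ∀ v ∈ coreIn M, Commute (w⁻¹ * x) v
  let f : G → ℂ := fun w => if hw : w ∈ coreIn M then ((χ ⟨w, hw⟩ : ℂˣ) : ℂ) else 0
  have hf : ∀ {w : G} (hw : w ∈ coreIn M), f w = ((χ ⟨w, hw⟩ : ℂˣ) : ℂ) := fun hw => dif_pos hw
  let ψ : G → ℂ := fun x => if hx : ∃ w, P x w then f hx.choose else 0
  have hψ : ∀ {x w : G}, P x w → ψ x = f w := by
    intro x w hw
    have hx : ∃ w, P x w := ⟨w, hw⟩
    show (if hx : ∃ w, P x w then f hx.choose else 0) = f w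
    rw [dif_pos hx, hf hx.choose_spec.1, hf hw.1]
    congr 1
    refine inv_mul_eq_one.1 ?_
    rw [← map_inv, ← map_mul]
    refine hcen _ fun v => Subtype.ext (Commute.eq ?_)
    show Commute ((hx.choose)⁻¹ * w) (v : G)
    rw [show (hx.choose)⁻¹ * w = (hx.choose⁻¹ * x) * (w⁻¹ * x)⁻¹ by group]
    exact (hx.choose_spec.2 v v.2).mul_left (hw.2 v v.2).inv_left
  have hdec : ∀ {x : G}, x ∈ coreAt (c ^ l) → ∃ w, P x w := by
    intro x hx
    rcases hor with h1 | ⟨h2, -⟩
    · have hxM : x ∈ M := mem_M_of_commute hC hM (commute_of_mem_coreAt hx)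
      obtain ⟨w, hw, hc⟩ := exists_mul_commute hC hM hgM hg h1 hxM (odd_of_mem_coreAt hx)
      refine ⟨x * w⁻¹ * x⁻¹, core_conj_mem hC hM hxM (inv_mem hw), fun v hv => ?_⟩
      rw [show (x * w⁻¹ * x⁻¹)⁻¹ * x = x * w by group]
      exact hc v hv
    · exact ⟨x, h2 ▸ hx, fun v _ => by rw [inv_mul_cancel]; exact Commute.one_left v⟩
  by_contra hne
  push Not at hne
  obtain ⟨w₀, hw₀⟩ := hne
  refine hD (eq_one_of_commutative hC hM hgM hg hor ?_)
  refine H15.GW.linearCharStep S l c s hC ψ (stable hC hM hgM hg ψ fun m hm y hy _ => ?_) ?_ ?_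
    ⟨w₀, (hM.core_fixed w₀.2).1, fun e => hw₀ (Units.ext ?_)⟩
  · obtain ⟨w, hw, hc⟩ := hdec hy
    have hP : P (m * y * m⁻¹) (m * w * m⁻¹) := by
      refine ⟨core_conj_mem hC hM hm hw, fun v hv => ?_⟩
      have hv' : m⁻¹ * v * m ∈ coreIn M := by
        have := core_conj_mem hC hM (inv_mem hm) hv
        rwa [inv_inv] at this
      have := (Commute.conj_iff m).2 (hc _ hv')
      rwa [show m * (w⁻¹ * y) * m⁻¹ = (m * w * m⁻¹)⁻¹ * (m * y * m⁻¹) by group,
        show m * (m⁻¹ * v * m) * m⁻¹ = v by group] at this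
    rw [hψ hP, hψ ⟨hw, hc⟩, hf (core_conj_mem hC hM hm hw), hf hw]
    exact congrArg Units.val (hall ⟨m, hm⟩ ⟨w, hw⟩)
  · intro x hx y hy
    obtain ⟨w, hw, hc⟩ := hdec hx
    obtain ⟨w', hw', hc'⟩ := hdec hy
    have hP : P (x * y) (w * w') := by
      refine ⟨mul_mem hw hw', fun v hv => ?_⟩
      rw [show (w * w')⁻¹ * (x * y) = w'⁻¹ * (w⁻¹ * x) * w' * (w'⁻¹ * y) by group,
        mul_assoc w'⁻¹, (hc w' hw').eq, inv_mul_cancel_left]
      exact (hc v hv).mul_left (hc' v hv)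
    rw [hψ hP, hψ ⟨hw, hc⟩, hψ ⟨hw', hc'⟩, hf (mul_mem hw hw'), hf hw, hf hw', ← Units.val_mul, ← map_mul]
    rfl
  · rw [hψ (x := 1) (w := 1) ⟨one_mem _, fun v _ => by rw [inv_one, one_mul]; exact Commute.one_left v⟩,
      hf (one_mem _), show (⟨1, one_mem _⟩ : ↥(coreIn M)) = 1 from rfl, map_one, Units.val_one]
  · rw [hψ (x := (w₀ : G)) (w := w₀)
      ⟨w₀.2, fun v _ => by rw [inv_mul_cancel]; exact Commute.one_left v⟩, hf w₀.2] at e
    exact e

/-- Unless `D' = 1`, the action of `σ` on `O(M)` is the exceptional one. -/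
theorem residue (hD : pairCore (c ^ l) (c * s) ≠ ⊥) :
    Residue (conjCore M ⟨c * s, sigma_mem_M hC hM⟩) := by
  set σ := conjCore M ⟨c * s, sigma_mem_M hC hM⟩ with hσdef
  set γ := conjCore M ⟨g, hgM⟩ with hγdef
  have hinv : IsInvol σ := ⟨H62.GW.odd_coreIn M, fun x => by
    rw [hσdef, ← MulAut.mul_apply, ← map_mul,
      show (⟨c * s, sigma_mem_M hC hM⟩ * ⟨c * s, sigma_mem_M hC hM⟩ : ↥M) = 1 from
        Subtype.ext (sigma_mul_self hC hM), map_one]
    rfl⟩
  have hfix : ∀ z : ↥(coreIn M), σ z = z → (z : G) ∈ pairCore (c ^ l) (c * s) := fun z hz =>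
    mem_pairCore.2 ⟨(hM.core_fixed z.2).1,
      (mul_inv_eq_iff_eq_mul.1 (congrArg Subtype.val hz)).symm⟩
  have hB : Bound σ := by
    intro z hz hz1
    obtain ⟨-, h⟩ := centralizer_shape hC hM hgM hg (hor.imp id And.left) (hfix z hz)
      fun e => hz1 (Subtype.ext e)
    rw [← Set.ncard_image_of_injective _ Subtype.val_injective]
    rcases h with h | ⟨-, h, -⟩
    · refine le_trans (Set.ncard_le_ncard (t := {(1 : G)}) ?_) (by simp)
      rintro _ ⟨x, ⟨hx, hc⟩, rfl⟩
      exact h x x.2 (congrArg Subtype.val hc.eq) (congrArg Subtype.val hx)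
    · refine le_trans (Set.ncard_le_ncard ?_) h
      rintro _ ⟨x, ⟨hx, hc⟩, rfl⟩
      exact ⟨x.2, congrArg Subtype.val hc.eq, congrArg Subtype.val hx⟩
  have hZ : CentralFree σ := fun z hz hp => Subtype.ext
    (central_free hC hM hgM hg hor (hfix z hz) fun w hw => congrArg Subtype.val (hp ⟨w, hw⟩).eq)
  have hq : NoTrivialQuot σ := by
    intro K hK htriv
    by_contra hKt
    haveI := hK
    haveI : Group.IsSolvable ↥(coreIn M) := S0205.result (H62.GW.odd_coreIn M)
    haveI : Nontrivial (↥(coreIn M) ⧸ K) := QuotientGroup.nontrivial_iff.2 hKt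
    obtain ⟨a, ha⟩ : ∃ a : ↥(coreIn M), (a : ↥(coreIn M) ⧸ K) ∉ _root_.commutator (↥(coreIn M) ⧸ K) := by
      obtain ⟨ab, -, hab⟩ := SetLike.exists_of_lt
        (Group.IsSolvable.commutator_lt_top_of_nontrivial (↥(coreIn M) ⧸ K))
      obtain ⟨a, rfl⟩ := QuotientGroup.mk_surjective ab
      exact ⟨a, hab⟩
    set N := (_root_.commutator (↥(coreIn M) ⧸ K)).comap (QuotientGroup.mk' K) with hN
    obtain ⟨χ, hχN, hχa⟩ := exists_char N (a := a) (fun x y => by
      induction x using QuotientGroup.induction_on with | _ x =>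
      induction y using QuotientGroup.induction_on with | _ y =>
      rw [← QuotientGroup.mk_mul, ← QuotientGroup.mk_mul, QuotientGroup.eq, hN, mem_comap,
        QuotientGroup.mk'_apply,
        show (x * y)⁻¹ * (y * x) = y⁻¹ * x⁻¹ * y⁻¹⁻¹ * x⁻¹⁻¹ by group, QuotientGroup.mk_mul,
        QuotientGroup.mk_mul, QuotientGroup.mk_mul, QuotientGroup.mk_inv, QuotientGroup.mk_inv]
      simp only [QuotientGroup.mk_inv]
      exact commutator_mem_commutator (mem_top _) (mem_top _)) (fun e => ha e)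
    have hχK : ∀ k ∈ K, χ k = 1 := fun k hk => hχN k (by
      rw [hN, mem_comap, QuotientGroup.mk'_apply, (QuotientGroup.eq_one_iff k).2 hk]
      exact one_mem _)
    have hσχ : ∀ w, χ (σ w) = χ w := fun w => by
      rw [show σ w = w * (w⁻¹ * σ w) by group, map_mul, hχK _ (htriv w), mul_one]
    obtain ⟨hcent, -⟩ := stab_eq_top hC hM hgM hg hor χ hσχ
    refine hχa (no_char hC hM hgM hg hor hD χ hσχ ⟨g, hgM⟩ hg.1 (fun w => ?_) a)
    rcases hor with h1 | ⟨h2, hN'⟩
    · rw [show conjCore M ⟨g, hgM⟩ w = w from Subtype.ext (by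
        rw [coe_conjCore, (h1 w w.2).eq, mul_inv_cancel_right])]
    · have hcc : c * c * s = c ^ l * s := sq_mul_s hC hM hN'
      have hσt : c * s * c ^ l * (c * s)⁻¹ = c ^ l := by
        rw [← (commute_t_sigma hC hM).eq, mul_inv_cancel_right]
      have hσs : c * s * s * (c * s)⁻¹ = c ^ l * s := by
        rw [← hcc, sigma_mul_s hC hM, inv_eq_of_mul_eq_one_right (sigma_mul_self hC hM), ← mul_assoc]
      set σm : ↥M := ⟨c * s, sigma_mem_M hC hM⟩
      set gm : ↥M := ⟨g, hgM⟩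
      have htt := H39.mul_self_of_orderOf_eq_two hC.gen.z_order
      have hgts : g * (c ^ l * s) * g⁻¹ = c ^ l := by
        rw [show g * (c ^ l * s) * g⁻¹ = (g * c ^ l * g⁻¹) * (g * s * g⁻¹) by group, hg.1, hg.2,
          (commute_ts hC hM).eq, ← mul_assoc, H39.mul_self_of_orderOf_eq_two hC.gen.os, one_mul]
      have h4 := hcent (σm * gm * σm * gm) (mul_inv_eq_iff_eq_mul.1 (by
        simp only [Subgroup.coe_mul]
        calc c * s * g * (c * s) * g * c ^ l * (c * s * g * (c * s) * g)⁻¹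
            = c * s * (g * (c * s * (g * c ^ l * g⁻¹) * (c * s)⁻¹) * g⁻¹) * (c * s)⁻¹ := by group
          _ = c ^ l := by rw [hg.1, hσs, hgts, hσt])) h2
      have h5 := hcent (gm * gm * gm) (mul_inv_eq_iff_eq_mul.1 (by
        simp only [Subgroup.coe_mul]
        calc g * g * g * c ^ l * (g * g * g)⁻¹ = g * (g * (g * c ^ l * g⁻¹) * g⁻¹) * g⁻¹ := by group
          _ = c ^ l := by rw [hg.1, hg.2, hgts])) h2
      have hγ2 : ∀ x, χ (γ (γ x)) = χ x := by
        intro x
        have h6 := h4 x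
        simp only [map_mul, MulAut.mul_apply] at h6
        rw [← hσdef, ← hγdef, hσχ, show σ (γ x) = γ x * ((γ x)⁻¹ * σ (γ x)) by group, map_mul,
          map_mul, hχK _ (mem_of_characteristic γ (htriv (γ x))), mul_one] at h6
        exact h6
      have h7 := h5 w
      simp only [map_mul, MulAut.mul_apply] at h7
      rw [← hγdef, hγ2] at h7
      exact h7
  rcases core_cases hinv hB hZ hq with h | ⟨-, h⟩
  · refine absurd ((Subgroup.eq_bot_iff_forall _).2 fun z hz => ?_) hD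
    have hzW := (core_facts hC hM hgM hg).2.1 hz
    refine congrArg Subtype.val (h ⟨z, hzW⟩ (Subtype.ext ?_))
    rw [coe_conjCore]
    show c * s * z * (c * s)⁻¹ = z
    rw [← (mem_pairCore.1 hz).2.eq, mul_inv_cancel_right]
  · exact h

end Setting

end Cfsg.Agent.H65.GW
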