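import Cfsg.Agent.H65.GW.Shape
import Cfsg.Agent.H62.GW.Quot
import Cfsg.Agent.H61.GW.Fusing
import Cfsg.Agent.H60.GW.SinglePrime
import Cfsg.Agent.H36.GW.Shape
import Cfsg.Agent.H36.GW.Step
import Cfsg.Agent.Coprime.Centralize

/-!
# Gorenstein–Walter, two classes: the structure of the overgroup `M`
-/

set_option autoImplicit false
set_option linter.unusedSectionVars false
set_option linter.style.haveILetI false

namespace Cfsg.Agent.H65.GW

open Subgroup Cfsg.Agent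
open Cfsg.Agent.GW (Cfg TwoClass coreAt coreIn pairCore Fuses Separates)
open Cfsg.Agent.H63.GW (SylowDType PerfectHyp)

universe u

/-! ### Generalities -/

section General

variable {Γ : Type*} [Group Γ] [Finite Γ]

/-- A subgroup containing a Sylow 2-subgroup and every element of odd order is everything. -/
theorem eq_top_of_odd_sylow (T : Sylow 2 Γ) (K : Subgroup Γ) (hT : (T : Subgroup Γ) ≤ K)
    (hodd : ∀ x : Γ, Odd (orderOf x) → x ∈ K) : K = ⊤ := by
  haveI : Fact (Nat.Prime 2) := ⟨Nat.prime_two⟩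
  refine index_eq_one.1 (Nat.eq_one_iff_not_exists_prime_dvd.2 fun p hp hdvd => ?_)
  haveI := Fact.mk hp
  rcases hp.eq_two_or_odd' with rfl | hpo
  · exact T.not_dvd_index (hdvd.trans (index_dvd_of_le hT))
  · obtain ⟨P⟩ : Nonempty (Sylow p Γ) := inferInstance
    refine P.not_dvd_index (hdvd.trans (index_dvd_of_le fun x hx => hodd x ?_))
    obtain ⟨k, hk⟩ := P.isPGroup' ⟨x, hx⟩
    exact (hpo.pow).of_dvd_nat (orderOf_dvd_of_pow_eq_one (congrArg Subtype.val hk))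

/-- Involutions congruent modulo a normal subgroup of odd order are conjugate under it. -/
theorem conj_of_mk_eq (R : Subgroup Γ) [R.Normal] (hR : Odd (Nat.card R)) {a b : Γ} (ha : a * a = 1)
    (hb : b * b = 1) (h : (a : Γ ⧸ R) = b) : ∃ r ∈ R, r * a * r⁻¹ = b := by
  have hainv : a⁻¹ = a := inv_eq_of_mul_eq_one_right ha
  have hw : a * b ∈ R := by
    have := QuotientGroup.eq.1 h
    rwa [hainv] at this
  have hinv : a * (a * b) * a⁻¹ = (a * b)⁻¹ := by
    rw [hainv, mul_inv_rev, hainv, inv_eq_of_mul_eq_one_right hb, ← mul_assoc a a, ha, one_mul]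
  obtain ⟨m, hm⟩ := (hR.of_dvd_nat (Subgroup.orderOf_dvd_natCard R hw))
  set r := (a * b) ^ (m + 1) with hr
  have hrr : r * r = a * b := by
    rw [hr, ← pow_add, show m + 1 + (m + 1) = orderOf (a * b) + 1 by omega, pow_succ,
      pow_orderOf_eq_one, one_mul]
  have hra : a * r * a⁻¹ = r⁻¹ := by rw [hr, ← conj_pow, hinv, inv_pow]
  refine ⟨r⁻¹, inv_mem (pow_mem hw _), ?_⟩
  have h1 : r⁻¹ * a = a * r := by
    rw [← hra]
    group
  rw [inv_inv, h1, mul_assoc, hrr, ← mul_assoc, ha, one_mul]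

/-- Congruent involutions are equal if the odd normal subgroup centralises one of them. -/
theorem eq_of_mk_eq (R : Subgroup Γ) [R.Normal] (hR : Odd (Nat.card R)) {a b : Γ} (ha : a * a = 1)
    (hb : b * b = 1) (h : (a : Γ ⧸ R) = b) (hc : ∀ r ∈ R, Commute r a) : a = b := by
  obtain ⟨r, hr, rfl⟩ := conj_of_mk_eq R hR ha hb h
  rw [(hc r hr).eq, mul_inv_cancel_right]

/-- A subgroup of odd order normalised by a normal subgroup containing it, in a core-free group. -/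
theorem eq_bot_of_normalised (hO : Cfsg.oddCore Γ = ⊥) (P R : Subgroup Γ) [P.Normal] (hRP : R ≤ P)
    (hPR : P ≤ normalizer (R : Set Γ)) (hR : Odd (Nat.card R)) : R = ⊥ := by
  haveI : (R.subgroupOf P).Normal := normal_subgroupOf_of_le_normalizer hPR
  have h1 : R.subgroupOf P ≤ Cfsg.oddCore ↥P :=
    Cores.le_oddCore (by rwa [Nat.card_congr (subgroupOfEquivOfLe hRP).toEquiv])
  have h2 : (Cfsg.oddCore ↥P).map P.subtype ≤ Cfsg.oddCore Γ :=
    Cores.le_oddCore (by rw [Subgroup.card_subtype]; exact Cores.odd_card_oddCore)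
  refine le_bot_iff.1 ?_
  calc R = (R.subgroupOf P).map P.subtype := (map_subgroupOf_eq_of_le hRP).symm
    _ ≤ (Cfsg.oddCore ↥P).map P.subtype := map_mono h1
    _ ≤ ⊥ := hO ▸ h2

end General

variable {G : Type u} [Group G] [Finite G] {S : Sylow 2 G} {l : ℕ} {c s g : G} {M : Subgroup G}

/-- Proper subgroups modulo their odd cores. -/
theorem quot_hyps (hC : Cfg S l c s) {X : Subgroup G} (hX : X ≠ ⊤) :
    SylowDType (↥X ⧸ Cfsg.oddCore ↥X) ∧ Cfsg.oddCore (↥X ⧸ Cfsg.oddCore ↥X) = ⊥ ∧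
      PerfectHyp (↥X ⧸ Cfsg.oddCore ↥X) := by
  have h : SylowDType (↥X ⧸ Cfsg.oddCore ↥X) :=
    ((H36.GW.sylowDType_of_dGen hC.gen).subgroup X).quotient _ Cores.odd_card_oddCore
  exact ⟨h, Cores.pPrimeCore_quotient_pPrimeCore, hC.small _
    ((Nat.card_le_card_of_surjective _ (QuotientGroup.mk'_surjective _)).trans_lt
      (H4.GW.card_lt_of_ne_top hX)) h⟩

theorem odd_of_mem_coreAt {a x : G} (hx : x ∈ coreAt a) : Odd (orderOf x) :=
  (H62.GW.odd_coreAt a).of_dvd_nat (Subgroup.orderOf_dvd_natCard _ hx)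

theorem odd_of_mem_coreIn {X : Subgroup G} {x : G} (hx : x ∈ coreIn X) : Odd (orderOf x) :=
  (H62.GW.odd_coreIn X).of_dvd_nat (Subgroup.orderOf_dvd_natCard _ hx)

theorem odd_conj {m x : G} (hx : Odd (orderOf x)) : Odd (orderOf (m * x * m⁻¹)) := by
  rwa [← MulAut.conj_apply, MulEquiv.orderOf_eq]

theorem mem_pairCore {t u y : G} : y ∈ pairCore t u ↔ y ∈ coreAt t ∧ Commute y u :=
  ⟨fun h => ⟨h.1, mem_centralizer_singleton_iff.1 h.2⟩,
    fun h => ⟨h.1, mem_centralizer_singleton_iff.2 h.2.eq⟩⟩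

theorem commute_of_mem_coreAt {t y : G} (hy : y ∈ coreAt t) : Commute y t :=
  mem_centralizer_singleton_iff.1 (H62.GW.coreAt_le t hy)

/-! ### The setting -/

section Setting

variable (hC : Cfg S l c s) (hM : TwoClass M l c s)
include hC hM

theorem commute_ts : Commute (c ^ l) s := (hC.gen.z_central hC.gen.mem_s).symm

theorem sylow_le_M : (S : Subgroup G) ≤ M :=
  (H36.GW.sylow_le_centralizer hC.gen).trans hM.contains

theorem mem_M_of_commute {x : G} (hx : Commute x (c ^ l)) : x ∈ M :=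
  hM.contains (mem_centralizer_singleton_iff.2 hx.eq)

theorem core_commute_t {w : G} (hw : w ∈ coreIn M) : Commute w (c ^ l) :=
  commute_of_mem_coreAt (hM.core_fixed hw).1

theorem core_commute_s {w : G} (hw : w ∈ coreIn M) : Commute w s :=
  (mem_pairCore.1 (hM.core_fixed hw)).2

theorem core_conj_mem {m w : G} (hm : m ∈ M) (hw : w ∈ coreIn M) : m * w * m⁻¹ ∈ coreIn M :=
  (mem_normalizer_iff.1 (H62.GW.le_normalizer_coreIn M hm) w).1 hw

theorem core_le_M {w : G} (hw : w ∈ coreIn M) : w ∈ M := H62.GW.coreIn_le M hw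

theorem sigma_mul_self : c * s * (c * s) = 1 := by simpa using hC.gen.out_mul_self 1

theorem orderOf_sigma : orderOf (c * s) = 2 := by simpa using hC.gen.orderOf_out 1

theorem commute_t_sigma : Commute (c ^ l) (c * s) := by simpa using H61.GW.commute_z hC.gen 1

theorem sigma_mul_s : c * s * s = c := by
  rw [mul_assoc, H39.mul_self_of_orderOf_eq_two hC.gen.os, mul_one]

theorem sigma_mem_M : c * s ∈ M := sylow_le_M hC hM (mul_mem hC.gen.mem_c hC.gen.mem_s)

theorem exists_half : ∃ k, l = 2 * k := by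
  obtain ⟨k, hk⟩ := H60.GW.two_mul_dvd_of_two_le hC.gen (by have := hM.two_le; omega)
  exact ⟨k, hk⟩

theorem commute_sigma_pairCore {y : G} (hy : y ∈ pairCore (c ^ l) (c * s)) :
    Commute y (c ^ l) ∧ Commute y (c * s) :=
  ⟨commute_of_mem_coreAt (mem_pairCore.1 hy).1, (mem_pairCore.1 hy).2⟩

/-- Elements centralised by `t`, `s` and `σ`. -/
theorem commute_c_of_mem {y : G} (hy : y ∈ pairCore (c ^ l) (c * s)) (hyW : y ∈ coreIn M) :
    Commute c y := by
  have h := ((mem_pairCore.1 hy).2.mul_right (core_commute_s hC hM hyW)).symm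
  rwa [sigma_mul_s hC hM] at h

theorem t_mem_M : c ^ l ∈ M := sylow_le_M hC hM hC.gen.z_mem

theorem s_mem_M : s ∈ M := sylow_le_M hC hM hC.gen.mem_s

end Setting

/-! ### Fusion in `M` -/

section Fused

variable (hC : Cfg S l c s) (hM : TwoClass M l c s) (hgM : g ∈ M) (hg : Fuses g (c ^ l) s)
include hC hM hgM hg

theorem mem_M_of_commute_s {x : G} (hx : Commute x s) : x ∈ M := by
  have h : Commute (g⁻¹ * x * g) (c ^ l) := by
    rw [← Commute.conj_iff g, show g * (g⁻¹ * x * g) * g⁻¹ = x by group, hg.1]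
    exact hx
  have := mul_mem (mul_mem hgM (mem_M_of_commute hC hM h)) (inv_mem hgM)
  rwa [show g * (g⁻¹ * x * g) * g⁻¹ = x by group] at this

theorem mem_M_of_commute_ts {x : G} (hx : Commute x (c ^ l * s)) : x ∈ M := by
  have h : Commute (g⁻¹ * x * g) s := by
    rw [← Commute.conj_iff g, show g * (g⁻¹ * x * g) * g⁻¹ = x by group, hg.2]
    exact hx
  have := mul_mem (mul_mem hgM (mem_M_of_commute_s hC hM hgM hg h)) (inv_mem hgM)
  rwa [show g * (g⁻¹ * x * g) * g⁻¹ = x by group] at this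

/-- The image of `M` modulo its core. -/
theorem shape_M :
    ∃ N : Subgroup ↥M, ∃ _ : N.Normal, Cfsg.oddCore ↥M ≤ N ∧ IsCyclic (↥M ⧸ N) ∧ Odd N.index ∧
      (∀ x : ↥M, x ∈ N → Odd (orderOf x) → ∀ a : G, (a = s ∨ a = c * s) →
        Commute (x : G) (c ^ l) → Commute (x : G) a → (x : G) ∈ coreIn M) ∧
      (∀ y : ↥M, Odd (orderOf y) → (∀ k : G, Commute k (c ^ l) → Commute (y : G) k) →
        (y : G) ∈ coreIn M) ∧
      (N = ⊤ → ∀ P : Subgroup ↥M, P.Normal → ⟨c ^ l, t_mem_M hC hM⟩ ∈ P →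
        ⟨s, s_mem_M hC hM⟩ ∈ P → ⟨g, hgM⟩ ∈ P → ∀ x : ↥M, Odd (orderOf x) →
        ∃ w ∈ Cfsg.oddCore ↥M, x * w ∈ P) := by
  obtain ⟨hSD, hO, hP⟩ := quot_hyps hC hM.proper
  set R := Cfsg.oddCore ↥M with hR
  set π := QuotientGroup.mk' R with hπ
  set T : ↥M := ⟨c ^ l, t_mem_M hC hM⟩ with hT
  set S₁ : ↥M := ⟨s, s_mem_M hC hM⟩ with hS₁
  set U₁ : ↥M := ⟨c * s, sigma_mem_M hC hM⟩ with hU₁
  have hTo : orderOf T = 2 := by rw [hT, Subgroup.orderOf_mk]; exact hC.gen.z_order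
  have hSo : orderOf S₁ = 2 := by rw [hS₁, Subgroup.orderOf_mk]; exact hC.gen.os
  have hUo : orderOf U₁ = 2 := by rw [hU₁, Subgroup.orderOf_mk]; exact orderOf_sigma hC hM
  have hRodd : Odd (Nat.card R) := Cores.odd_card_oddCore
  have hcT : ∀ r ∈ R, Commute r T := fun r hr =>
    Subtype.ext (core_commute_t hC hM ⟨r, hr, rfl⟩).eq
  have hTS : π T ≠ π S₁ := by
    intro e
    have := eq_of_mk_eq R hRodd (H39.mul_self_of_orderOf_eq_two hTo)
      (H39.mul_self_of_orderOf_eq_two hSo) e hcT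
    have e' : c ^ l = s := congrArg Subtype.val this
    refine hC.gen.out ?_
    rw [← e']
    exact pow_mem (mem_zpowers c) l
  have hnot : ¬ IsConj (π T) (π U₁) := by
    intro hc
    obtain ⟨xb, hxb⟩ := isConj_iff.1 hc
    obtain ⟨x, rfl⟩ := QuotientGroup.mk'_surjective R xb
    rw [← map_inv, ← map_mul, ← map_mul] at hxb
    obtain ⟨r, -, hr⟩ := conj_of_mk_eq R hRodd (a := x * T * x⁻¹) (b := U₁)
      (by rw [show x * T * x⁻¹ * (x * T * x⁻¹) = x * (T * T) * x⁻¹ by group,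
        H39.mul_self_of_orderOf_eq_two hTo, mul_one, mul_inv_cancel])
      (H39.mul_self_of_orderOf_eq_two hUo) hxb
    refine (hM.separates ((r * x : ↥M)⁻¹ : ↥M) (r * x : ↥M)⁻¹.2).1 ?_
    have hr' := congrArg Subtype.val hr
    simp only [Subgroup.coe_mul, Subgroup.coe_inv, hT, hU₁] at hr' ⊢
    rw [← hr']
    group
  obtain ⟨Nb, hNb, hcyc, hidx, hfour, hcent, htop⟩ := two_class_shape hSD hO hP
    (H36.GW.orderOf_quotient hTo) (H36.GW.orderOf_quotient hSo) hTS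
    ((show Commute T S₁ from Subtype.ext (commute_ts hC hM).eq).map π)
    (g := π ⟨g, hgM⟩)
    (by show π ⟨g, hgM⟩ * π T * (π ⟨g, hgM⟩)⁻¹ = π S₁
        rw [← map_inv, ← map_mul, ← map_mul]
        exact congrArg π (Subtype.ext hg.1))
    (by show π ⟨g, hgM⟩ * π S₁ * (π ⟨g, hgM⟩)⁻¹ = π T * π S₁
        rw [← map_inv, ← map_mul, ← map_mul, ← map_mul]
        exact congrArg π (Subtype.ext hg.2))
    ⟨π U₁, H36.GW.orderOf_quotient hUo, hnot⟩
  haveI := hNb
  haveI := hcyc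
  set N := Nb.comap π with hN
  refine ⟨N, inferInstance, ?_, ?_, ?_, ?_, ?_, ?_⟩
  · intro r hr
    rw [hN, mem_comap, hπ, QuotientGroup.mk'_apply, (QuotientGroup.eq_one_iff r).2 hr]
    exact one_mem _
  · let φ : ↥M ⧸ N →* (↥M ⧸ R) ⧸ Nb := QuotientGroup.map N Nb π le_rfl
    refine isCyclic_of_injective φ ((injective_iff_map_eq_one φ).2 fun q hq => ?_)
    induction q using QuotientGroup.induction_on with
    | _ x =>
      rw [QuotientGroup.map_mk, QuotientGroup.eq_one_iff] at hq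
      exact (QuotientGroup.eq_one_iff x).2 hq
  · rwa [hN, index_comap_of_surjective _ (QuotientGroup.mk'_surjective R)]
  · intro x hxN hx a ha hxt hxa
    obtain ⟨A, hA, hAo, hTA⟩ : ∃ A : ↥M, (A : G) = a ∧ orderOf A = 2 ∧ π T ≠ π A ∧
        Commute T A := by
      rcases ha with rfl | rfl
      · exact ⟨S₁, rfl, hSo, hTS, Subtype.ext (commute_ts hC hM).eq⟩
      · exact ⟨U₁, rfl, hUo, fun e => hnot (by rw [e]), Subtype.ext (commute_t_sigma hC hM).eq⟩
    refine (H62.GW.mk_eq_one_iff x).1 (hfour (π x) (π T) (π A) hxN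
      (hx.of_dvd_nat (orderOf_map_dvd π x)) (H36.GW.orderOf_quotient hTo)
      (H36.GW.orderOf_quotient hAo) hTA.1 (hTA.2.map π)
      ((show Commute x T from Subtype.ext hxt.eq).map π)
      ((show Commute x A from Subtype.ext (hA ▸ hxa).eq).map π))
  · intro y hy hk
    refine (H62.GW.mk_eq_one_iff y).1 (hcent (π y) (hy.of_dvd_nat (orderOf_map_dvd π y)) fun kb hkb => ?_)
    obtain ⟨k, rfl, hkT⟩ := H36.GW.exists_commute_lift (H39.mul_self_of_orderOf_eq_two hTo) hkb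
    exact (show Commute y k from Subtype.ext (hk k (congrArg Subtype.val hkT.eq)).eq).map π
  · intro htN P hPn hTP hSP hgP x hx
    have hNt : Nb = ⊤ := by
      rw [← map_comap_eq_self_of_surjective (QuotientGroup.mk'_surjective R) Nb, ← hπ, ← hN, htN,
        map_top_of_surjective _ (QuotientGroup.mk'_surjective R)]
    haveI := hPn
    have := htop hNt (P.map π) (Subgroup.Normal.map hPn π (QuotientGroup.mk'_surjective R))
      (mem_map_of_mem π hTP) (mem_map_of_mem π hSP) (mem_map_of_mem π hgP) (π x)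
      (hx.of_dvd_nat (orderOf_map_dvd π x))
    obtain ⟨p, hp, hpx⟩ := this
    refine ⟨x⁻¹ * p, QuotientGroup.eq.1 hpx.symm, ?_⟩
    rwa [mul_inv_cancel_left]

/-- `e = c ^ (l / 2)` and the element fusing `⟨t, σ⟩` that centralises `D'`. -/
theorem exists_phi : ∃ φ, Fuses φ (c ^ l) (c * s) ∧
    ∀ y ∈ pairCore (c ^ l) (c * s), Commute φ y := by
  obtain ⟨k, hk⟩ := exists_half hC hM
  set t := c ^ l with ht
  set σ := c * s with hσ
  set e := c ^ k with he
  have hee : e * e = t := by rw [he, ht, ← pow_add, hk, two_mul]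
  have htt : t * t = 1 := H39.mul_self_of_orderOf_eq_two hC.gen.z_order
  have hσσ : σ * σ = 1 := sigma_mul_self hC hM
  have htσ : Commute t σ := commute_t_sigma hC hM
  have hes : e * σ * e⁻¹ = t * σ := by
    have h := hC.gen.conj_reflection 1 (k : ℤ)
    rw [zpow_natCast, zpow_one, ← he] at h
    rw [hσ, h, ht, show (1 : ℤ) + 2 * (k : ℤ) = ((l : ℕ) : ℤ) + 1 by rw [hk]; push_cast; ring,
      zpow_add, zpow_natCast, zpow_one, mul_assoc]
  have het : Commute e t := by rw [← hee]; exact (Commute.refl e).mul_right (Commute.refl e)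
  have heM : e ∈ M := sylow_le_M hC hM (pow_mem hC.gen.mem_c k)
  have heD : ∀ y ∈ pairCore t σ, Commute e y := by
    intro y hy
    obtain ⟨hyt, hyσ⟩ := commute_sigma_pairCore hC hM hy
    have hyM : y ∈ M := mem_M_of_commute hC hM hyt
    have hey : e * y * e⁻¹ ∈ pairCore t σ := by
      have h1 : Commute (e * y * e⁻¹) t := by
        have := (Commute.conj_iff e).2 hyt
        rwa [het.eq, mul_inv_cancel_right] at this
      refine mem_pairCore.2 ⟨H62.GW.mem_coreAt_of_odd hC h1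
        (odd_conj (odd_of_mem_coreAt (mem_pairCore.1 hy).1)), ?_⟩
      have h2 := (Commute.conj_iff e).2 hyσ
      rw [hes] at h2
      have h3 := h1.mul_right h2
      rwa [← mul_assoc, htt, one_mul] at h3
    have hz : e * y * e⁻¹ * y⁻¹ ∈ pairCore t σ := mul_mem hey (inv_mem hy)
    obtain ⟨N, hNn, -, hcyc, -, hfour, -⟩ := shape_M hC hM hgM hg
    haveI := hNn
    haveI := hcyc
    have hzN : (⟨e, heM⟩ * ⟨y, hyM⟩ * ⟨e, heM⟩⁻¹ * ⟨y, hyM⟩⁻¹ : ↥M) ∈ N := by
      let _ := IsCyclic.commGroup (α := ↥M ⧸ N)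
      rw [← QuotientGroup.eq_one_iff, QuotientGroup.mk_mul, QuotientGroup.mk_mul, QuotientGroup.mk_mul,
        QuotientGroup.mk_inv, QuotientGroup.mk_inv, mul_comm ((⟨e, heM⟩ : ↥M) : ↥M ⧸ N) _,
        mul_inv_cancel_right, mul_inv_cancel]
    have hzW : e * y * e⁻¹ * y⁻¹ ∈ coreIn M := hfour _ hzN (by
        rw [← Subgroup.orderOf_coe]
        exact odd_of_mem_coreAt (mem_pairCore.1 hz).1) σ (Or.inr rfl)
      (commute_sigma_pairCore hC hM hz).1 (commute_sigma_pairCore hC hM hz).2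
    have hez : Commute e (e * y * e⁻¹ * y⁻¹) :=
      (commute_c_of_mem hC hM hz hzW).pow_left k
    set z := e * y * e⁻¹ * y⁻¹ with hzdef
    have h2 : z * z = 1 := by
      calc z * z = (e * z * e⁻¹) * z := by rw [hez.eq, mul_inv_cancel_right]
        _ = e * e * y * (e * e)⁻¹ * y⁻¹ := by rw [hzdef]; group
        _ = 1 := by rw [hee, ← hyt.eq, mul_inv_cancel_right, mul_inv_cancel]
    have hz1 : z = 1 := H62.GW.eq_one_of_odd (odd_of_mem_coreAt (mem_pairCore.1 hz).1) h2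
    rw [hzdef, mul_inv_eq_one] at hz1
    exact mul_inv_eq_iff_eq_mul.1 hz1
  obtain ⟨θ, hθ1, hθ2⟩ := H61.GW.exists_fuses_right hC
  rw [← ht, ← hσ] at hθ1 hθ2
  have hθts : θ * (t * σ) * θ⁻¹ = t := by
    rw [show θ * (t * σ) * θ⁻¹ = (θ * t * θ⁻¹) * (θ * σ * θ⁻¹) by group, hθ1, hθ2, ← mul_assoc,
      ← htσ.eq, mul_assoc, hσσ, mul_one]
  set f := θ * e * θ⁻¹ with hf
  have hfσ : f * σ * f⁻¹ = σ := by
    rw [← hθ1, hf, show θ * e * θ⁻¹ * (θ * t * θ⁻¹) * (θ * e * θ⁻¹)⁻¹ = θ * (e * t * e⁻¹) * θ⁻¹ by group,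
      het.eq, mul_inv_cancel_right]
  have hfts : f * (t * σ) * f⁻¹ = t := by
    calc f * (t * σ) * f⁻¹ = f * (θ * σ * θ⁻¹) * f⁻¹ := by rw [hθ2]
      _ = θ * (e * σ * e⁻¹) * θ⁻¹ := by rw [hf]; group
      _ = t := by rw [hes, hθts]
  have hft : f * t * f⁻¹ = t * σ := by
    calc f * t * f⁻¹ = f * (t * σ) * f⁻¹ * (f * σ * f⁻¹) := by
          rw [show f * (t * σ) * f⁻¹ * (f * σ * f⁻¹) = f * (t * (σ * σ)) * f⁻¹ by group, hσσ, mul_one]
      _ = t * σ := by rw [hfts, hfσ]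
  refine ⟨e * f, ⟨?_, ?_⟩, fun y hy => (heD y hy).mul_left ?_⟩
  · calc e * f * t * (e * f)⁻¹ = e * (f * t * f⁻¹) * e⁻¹ := by group
      _ = (e * t * e⁻¹) * (e * σ * e⁻¹) := by rw [hft]; group
      _ = σ := by rw [het.eq, mul_inv_cancel_right, hes, ← mul_assoc, htt, one_mul]
  · calc e * f * σ * (e * f)⁻¹ = e * (f * σ * f⁻¹) * e⁻¹ := by group
      _ = t * σ := by rw [hfσ, hes]
  · obtain ⟨hyt, hyσ⟩ := commute_sigma_pairCore hC hM hy
    have hy' : θ⁻¹ * y * θ ∈ pairCore t σ := by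
      have h1 : Commute (θ⁻¹ * y * θ) t := by
        rw [← Commute.conj_iff θ, show θ * (θ⁻¹ * y * θ) * θ⁻¹ = y by group, hθ1]
        exact hyσ
      refine mem_pairCore.2 ⟨H62.GW.mem_coreAt_of_odd hC h1 ?_, ?_⟩
      · have := odd_conj (m := θ⁻¹) (odd_of_mem_coreAt (mem_pairCore.1 hy).1)
        rwa [inv_inv] at this
      · rw [← Commute.conj_iff θ, show θ * (θ⁻¹ * y * θ) * θ⁻¹ = y by group, hθ2]
        exact hyt.mul_right hyσ
    have h3 := (Commute.conj_iff θ).2 (heD _ hy')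
    rwa [show θ * (θ⁻¹ * y * θ) * θ⁻¹ = y by group] at h3

/-- An involution centralising `t` is conjugate in `C(t)` to `t`, `s` or `σ`. -/
theorem conj_cases {w : G} (hw : orderOf w = 2) (hwt : Commute w (c ^ l)) :
    ∃ h, Commute h (c ^ l) ∧
      (h * w * h⁻¹ = c ^ l ∨ h * w * h⁻¹ = s ∨ h * w * h⁻¹ = c * s) := by
  haveI : Fact (Nat.Prime 2) := ⟨Nat.prime_two⟩
  set H := centralizer ({c ^ l} : Set G) with hH
  have hHS := H36.GW.sylow_le_centralizer hC.gen
  set T : Sylow 2 H := S.subtype hHS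
  set wH : H := ⟨w, mem_centralizer_singleton_iff.2 hwt.eq⟩ with hwH
  have hp : IsPGroup 2 (zpowers wH) := IsPGroup.of_card (n := 1)
    (by rw [Nat.card_zpowers, hwH, Subgroup.orderOf_mk, hw, pow_one])
  obtain ⟨Q, hQ⟩ := hp.exists_le_sylow
  obtain ⟨h₀, hh₀⟩ := MulAction.exists_smul_eq H T Q
  have hmem : wH ∈ (Q : Subgroup H) := hQ (mem_zpowers _)
  rw [← hh₀, Sylow.coe_subgroup_smul] at hmem
  obtain ⟨x, hx, hxe⟩ := Subgroup.mem_map.1 hmem
  have hxe' : (h₀ : G) * x * (h₀ : G)⁻¹ = w := congrArg Subtype.val hxe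
  have hxS : (x : G) ∈ (S : Subgroup G) := hx
  have hh₀t : Commute (h₀ : G) (c ^ l) := mem_centralizer_singleton_iff.1 h₀.2
  have hwx : (h₀ : G)⁻¹ * w * h₀ = x := by rw [← hxe']; group
  have hxx : (x : G) * x = 1 := by
    rw [← hwx, show (h₀ : G)⁻¹ * w * h₀ * ((h₀ : G)⁻¹ * w * h₀) = (h₀ : G)⁻¹ * (w * w) * h₀ by group,
      H39.mul_self_of_orderOf_eq_two hw, mul_one, inv_mul_cancel]
  by_cases hxc : (x : G) ∈ zpowers c
  · rcases hC.gen.sq_one_cases hxc hxx with h | h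
    · rw [← hxe', h, mul_one, mul_inv_cancel, orderOf_one] at hw
      omega
    · exact ⟨(h₀ : G)⁻¹, hh₀t.inv_left, Or.inl (by rw [inv_inv, hwx, h])⟩
  obtain ⟨i, hi⟩ := hC.gen.out_form hxS hxc
  rcases Int.even_or_odd' i with ⟨j, rfl | rfl⟩
  · refine ⟨c ^ (-j) * (h₀ : G)⁻¹,
      (((Commute.refl c).pow_right l).zpow_left _).mul_left hh₀t.inv_left, Or.inr (Or.inl ?_)⟩
    rw [show c ^ (-j) * (h₀ : G)⁻¹ * w * (c ^ (-j) * (h₀ : G)⁻¹)⁻¹
        = c ^ (-j) * ((h₀ : G)⁻¹ * w * h₀) * (c ^ (-j))⁻¹ by group, hwx, hi,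
      hC.gen.conj_reflection, show 2 * j + 2 * -j = 0 by ring, zpow_zero, one_mul]
  · refine ⟨c ^ (-j) * (h₀ : G)⁻¹,
      (((Commute.refl c).pow_right l).zpow_left _).mul_left hh₀t.inv_left, Or.inr (Or.inr ?_)⟩
    rw [show c ^ (-j) * (h₀ : G)⁻¹ * w * (c ^ (-j) * (h₀ : G)⁻¹)⁻¹
        = c ^ (-j) * ((h₀ : G)⁻¹ * w * h₀) * (c ^ (-j))⁻¹ by group, hwx, hi,
      hC.gen.conj_reflection, show 2 * j + 1 + 2 * -j = 1 by ring, zpow_one]

/-- A function on `O(C(t))` invariant under `M` is stable. -/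
theorem stable (ψ : G → ℂ)
    (hinv : ∀ m ∈ M, ∀ y ∈ coreAt (c ^ l), m * y * m⁻¹ ∈ coreAt (c ^ l) → ψ (m * y * m⁻¹) = ψ y) :
    H15.GW.StableDatum (c ^ l) ψ := by
  obtain ⟨φ, hφ, hφD⟩ := exists_phi hC hM hgM hg
  refine ⟨hC.gen.z_order, fun w hw => H61.GW.isConj_z hC hw, fun x y hx hy ho => ?_,
    fun g₀ y hw hyt ho hyw => ?_⟩
  · refine hinv x (mem_M_of_commute hC hM hx) y (H62.GW.mem_coreAt_of_odd hC hy ho)
      (H62.GW.mem_coreAt_of_odd hC ?_ (odd_conj ho))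
    have := (Commute.conj_iff x).2 hy
    rwa [(show Commute x (c ^ l) from hx).eq, mul_inv_cancel_right] at this
  · set w := g₀ * c ^ l * g₀⁻¹ with hwdef
    have hwo : orderOf w = 2 := by
      rw [hwdef, ← MulAut.conj_apply, MulEquiv.orderOf_eq, hC.gen.z_order]
    have hyO := H62.GW.mem_coreAt_of_odd hC hyt ho
    have hy' : g₀⁻¹ * y * g₀ ∈ coreAt (c ^ l) := by
      refine H62.GW.mem_coreAt_of_odd hC ?_ ?_
      · rw [← Commute.conj_iff g₀, show g₀ * (g₀⁻¹ * y * g₀) * g₀⁻¹ = y by group, ← hwdef]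
        exact hyw
      · have := odd_conj (m := g₀⁻¹) ho
        rwa [inv_inv] at this
    have hfin : g₀ ∈ M → ψ (g₀⁻¹ * y * g₀) = ψ y := fun hm => by
      have := hinv g₀⁻¹ (inv_mem hm) y hyO (by rwa [inv_inv])
      rwa [inv_inv] at this
    obtain ⟨h, hht, hcase⟩ := conj_cases hC hM hgM hg hwo hw
    rcases hcase with h1 | h1 | h1
    · refine hfin (mem_M_of_commute hC hM ?_)
      have e : w = c ^ l := by
        rw [show w = h⁻¹ * (h * w * h⁻¹) * h by group, h1, mul_assoc, ← hht.eq, inv_mul_cancel_left]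
      exact mul_inv_eq_iff_eq_mul.1 e
    · refine hfin ?_
      have : Commute (g⁻¹ * h * g₀) (c ^ l) := by
        refine mul_inv_eq_iff_eq_mul.1 ?_
        calc g⁻¹ * h * g₀ * c ^ l * (g⁻¹ * h * g₀)⁻¹ = g⁻¹ * (h * w * h⁻¹) * g := by rw [hwdef]; group
          _ = c ^ l := by rw [h1, ← hg.1]; group
      have := mul_mem (mul_mem (inv_mem (mem_M_of_commute hC hM hht)) hgM) (mem_M_of_commute hC hM this)
      rwa [show h⁻¹ * g * (g⁻¹ * h * g₀) = g₀ by group] at this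
    · set y' := h * y * h⁻¹ with hy'def
      have hy't : Commute y' (c ^ l) := by
        have := (Commute.conj_iff h).2 (show Commute y (c ^ l) from hyt)
        rwa [hht.eq, mul_inv_cancel_right] at this
      have hy'O := H62.GW.mem_coreAt_of_odd hC hy't (odd_conj ho)
      have hy'D : y' ∈ pairCore (c ^ l) (c * s) := by
        refine mem_pairCore.2 ⟨hy'O, ?_⟩
        rw [← h1]
        exact (Commute.conj_iff h).2 hyw
      set h' := φ⁻¹ * h * g₀ with hh'
      have hh't : Commute h' (c ^ l) := by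
        refine mul_inv_eq_iff_eq_mul.1 ?_
        calc h' * c ^ l * h'⁻¹ = φ⁻¹ * (h * w * h⁻¹) * φ := by rw [hh', hwdef]; group
          _ = c ^ l := by rw [h1, ← hφ.1]; group
      have e1 : g₀⁻¹ * y * g₀ = h'⁻¹ * y' * h' := by
        calc g₀⁻¹ * y * g₀ = h'⁻¹ * (φ⁻¹ * y' * φ) * h' := by rw [hh', hy'def]; group
          _ = h'⁻¹ * y' * h' := by rw [mul_assoc φ⁻¹, ← (hφD y' hy'D).eq, inv_mul_cancel_left]
      rw [e1]
      have h2 := hinv h'⁻¹ (inv_mem (mem_M_of_commute hC hM hh't)) y' hy'O (by rw [inv_inv, ← e1]; exact hy')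
      rw [inv_inv] at h2
      rw [h2]
      exact hinv h (mem_M_of_commute hC hM hht) y hyO hy'O

end Fused

end Cfsg.Agent.H65.GW
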